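import Mathlib

/-!
Monomial bases of matrix algebras from a symmetric pairing over three elements: translations times characters,
their normaliser, and the trace invariant of a normalising element.
-/

set_option autoImplicit false
set_option linter.unusedSectionVars false
set_option linter.style.haveILetI false

namespace CfsgLib.Geo.HeisNine

open Matrix Finset

variable {α : Type} [AddCommGroup α] [Fintype α] [DecidableEq α] {F : Type*} [Field F]

/-- A pairing of an elementary abelian group with values in three elements, and a cube root of unity. -/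
structure Frm (α : Type) [AddCommGroup α] [Fintype α] (F : Type*) [Field F] where
  d : α → α → ZMod 3
  d_add : ∀ x y z, d x (y + z) = d x y + d x z
  d_symm : ∀ x y, d x y = d y x
  d_nd : ∀ x, x ≠ 0 → ∃ y, d x y ≠ 0
  tors : ∀ x : α, x + x + x = 0
  ω : F
  prim : IsPrimitiveRoot ω 3
  card_ne : (Fintype.card α : F) ≠ 0

/-- Conjugation of a matrix. -/
def cj (g : GL α F) (A : Matrix α α F) : Matrix α α F :=
  (g : Matrix α α F) * A * ((g⁻¹ : GL α F) : Matrix α α F)

theorem cj_mul (g : GL α F) (A A' : Matrix α α F) : cj g (A * A') = cj g A * cj g A' := by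
  simp only [cj, mul_assoc, Units.inv_mul_cancel_left]

theorem cj_smul (g : GL α F) (c : F) (A : Matrix α α F) : cj g (c • A) = c • cj g A := by
  simp [cj]

theorem cj_comp (g h : GL α F) (A : Matrix α α F) : cj (g * h) A = cj g (cj h A) := by
  simp only [cj, _root_.mul_inv_rev, Units.val_mul, mul_assoc]

theorem cj_one (g : GL α F) : cj g (1 : Matrix α α F) = 1 := by simp [cj]

theorem cj_one_left (A : Matrix α α F) : cj (1 : GL α F) A = A := by simp [cj]

theorem cj_inv_cj (g : GL α F) (A : Matrix α α F) : cj g⁻¹ (cj g A) = A := by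
  rw [← cj_comp, inv_mul_cancel, cj_one_left]

theorem cj_cj_inv (g : GL α F) (A : Matrix α α F) : cj g (cj g⁻¹ A) = A := by
  rw [← cj_comp, mul_inv_cancel, cj_one_left]

theorem cj_coe (g h : GL α F) : cj g (h : Matrix α α F) = ((g * h * g⁻¹ : GL α F) : Matrix α α F) := rfl

theorem cj_eq_of_mul {g : GL α F} {A A' : Matrix α α F}
    (h : (g : Matrix α α F) * A = A' * (g : Matrix α α F)) : cj g A = A' := by
  rw [cj, h, Units.mul_inv_cancel_right]

theorem mul_eq_of_cj {g : GL α F} {A A' : Matrix α α F} (h : cj g A = A') :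
    (g : Matrix α α F) * A = A' * (g : Matrix α α F) := by
  rw [← h, cj, Units.inv_mul_cancel_right]

theorem cj_of_smul {g h : GL α F} {c : F} (e : (g : Matrix α α F) = c • (h : Matrix α α F))
    (A : Matrix α α F) : cj g A = cj h A := by
  refine cj_eq_of_mul ?_
  rw [e, smul_mul_assoc, mul_smul_comm, mul_eq_of_cj (rfl : cj h A = cj h A)]

namespace Frm

variable (S : Frm α F)

/-- The character. -/
def χ (a : ZMod 3) : F := S.ω ^ a.val

theorem ω_cube : S.ω ^ 3 = 1 := S.prim.pow_eq_one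

theorem χ_zero : S.χ 0 = 1 := by simp [χ]

theorem χ_one : S.χ 1 = S.ω := by simp [χ, ZMod.val_one]

theorem χ_add (a b : ZMod 3) : S.χ (a + b) = S.χ a * S.χ b := by
  rw [χ, χ, χ, ← pow_add, ZMod.val_add, ← pow_eq_pow_mod _ S.ω_cube]

theorem χ_neg_mul (a : ZMod 3) : S.χ (-a) * S.χ a = 1 := by rw [← χ_add, neg_add_cancel, χ_zero]

theorem χ_ne (a : ZMod 3) : S.χ a ≠ 0 := pow_ne_zero _ (S.prim.ne_zero (by norm_num))

theorem χ_cube (a : ZMod 3) : S.χ a ^ 3 = 1 := by rw [χ, ← pow_mul, mul_comm, pow_mul, ω_cube, one_pow]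

theorem χ_inj {a b : ZMod 3} (h : S.χ a = S.χ b) : a = b :=
  ZMod.val_injective 3 (S.prim.pow_inj (ZMod.val_lt a) (ZMod.val_lt b) h)

theorem χ_sum (s : Finset α) (f : α → ZMod 3) : ∏ x ∈ s, S.χ (f x) = S.χ (∑ x ∈ s, f x) := by
  classical
  induction s using Finset.induction_on with
  | empty => simp [χ_zero]
  | insert a s ha ih => rw [prod_insert ha, sum_insert ha, ih, χ_add]

theorem exists_χ {c : F} (h : c ^ 3 = 1) : ∃ a, c = S.χ a := by
  obtain ⟨i, hi, hc⟩ := S.prim.eq_pow_of_pow_eq_one h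
  exact ⟨(i : ZMod 3), by rw [χ, ZMod.val_natCast, Nat.mod_eq_of_lt hi, hc]⟩

theorem d_add_left (x y z : α) : S.d (x + y) z = S.d x z + S.d y z := by
  rw [S.d_symm, S.d_add, S.d_symm z x, S.d_symm z y]

theorem d_zero (x : α) : S.d x 0 = 0 := by simpa using S.d_add x 0 0

theorem d_zero_left (x : α) : S.d 0 x = 0 := by rw [S.d_symm, d_zero]

theorem d_neg (x y : α) : S.d x (-y) = -S.d x y := by
  refine eq_neg_of_add_eq_zero_left ?_
  rw [← S.d_add, neg_add_cancel, d_zero]

theorem d_neg_left (x y : α) : S.d (-x) y = -S.d x y := by rw [S.d_symm, d_neg, S.d_symm]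

theorem d_sub (x y z : α) : S.d x (y - z) = S.d x y - S.d x z := by
  rw [sub_eq_add_neg, S.d_add, d_neg, ← sub_eq_add_neg]

/-- The monomial of an index: translation by the first entry after the character of the second. -/
def E (v : α × α) : Matrix α α F := Matrix.of fun a b => if a = b + v.1 then S.χ (S.d v.2 b) else 0

theorem E_apply (v : α × α) (a b : α) : S.E v a b = if a = b + v.1 then S.χ (S.d v.2 b) else 0 := rfl

theorem E_zero : S.E 0 = 1 := by
  ext a b
  simp [E_apply, Matrix.one_apply, d_zero_left, χ_zero]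

theorem E_mul (v w : α × α) : S.E v * S.E w = S.χ (S.d v.2 w.1) • S.E (v + w) := by
  ext a c
  rw [Matrix.mul_apply, Finset.sum_eq_single (c + w.1)]
  · simp only [E_apply, if_true, Matrix.smul_apply, smul_eq_mul, Prod.fst_add, Prod.snd_add, d_add_left, χ_add]
    by_cases h : a = c + w.1 + v.1
    · rw [if_pos h, if_pos (by rw [h]; abel), S.d_add, χ_add]; ring
    · rw [if_neg h, if_neg (fun e => h (by rw [e]; abel))]; ring
  · intro b _ hb
    rw [S.E_apply w, if_neg hb, mul_zero]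
  · simp

/-- The commutation pairing. -/
def B (v w : α × α) : ZMod 3 := S.d v.2 w.1 - S.d w.2 v.1

theorem E_comm (v w : α × α) : S.E v * S.E w = S.χ (S.B v w) • (S.E w * S.E v) := by
  rw [E_mul, E_mul, smul_smul, ← χ_add, B, sub_add_cancel, add_comm w v]

theorem B_add (u v w : α × α) : S.B u (v + w) = S.B u v + S.B u w := by
  simp only [B, Prod.fst_add, Prod.snd_add, S.d_add, d_add_left]; ring

theorem B_swap (v w : α × α) : S.B w v = -S.B v w := by simp only [B]; ring

theorem B_self (v : α × α) : S.B v v = 0 := by simp [B]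

theorem B_add_left (u v w : α × α) : S.B (u + v) w = S.B u w + S.B v w := by
  rw [B_swap, B_add, B_swap S u, B_swap S v]; ring

theorem B_zero (v : α × α) : S.B v 0 = 0 := by simp [B, d_zero, d_zero_left]

theorem B_zero_left (v : α × α) : S.B 0 v = 0 := by rw [B_swap, B_zero, neg_zero]

theorem B_neg (v w : α × α) : S.B v (-w) = -S.B v w := by
  refine eq_neg_of_add_eq_zero_left ?_
  rw [← B_add, neg_add_cancel, B_zero]

theorem B_sub (u v w : α × α) : S.B u (v - w) = S.B u v - S.B u w := by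
  rw [sub_eq_add_neg, B_add, B_neg, ← sub_eq_add_neg]

theorem B_smul (m : ZMod 3) (u v : α × α) : S.B u (m.val • v) = m * S.B u v := by
  have h : ∀ n : ℕ, S.B u (n • v) = n * S.B u v := fun n => by
    induction n with
    | zero => simp [B_zero]
    | succ n ih => rw [succ_nsmul, B_add, ih]; push_cast; ring
  rw [h, ZMod.natCast_zmod_val]

theorem B_smul_left (m : ZMod 3) (u v : α × α) : S.B (m.val • u) v = m * S.B u v := by
  rw [B_swap, B_smul, B_swap S u]; ring

theorem B_nd {v : α × α} (h : v ≠ 0) : ∃ w, S.B v w ≠ 0 := by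
  by_cases h2 : v.2 = 0
  · have h1 : v.1 ≠ 0 := fun e => h (Prod.ext e h2)
    obtain ⟨y, hy⟩ := S.d_nd _ h1
    exact ⟨(0, y), by simp [B, d_zero, S.d_symm y, hy]⟩
  · obtain ⟨y, hy⟩ := S.d_nd _ h2
    exact ⟨(y, 0), by simp [B, d_zero_left, hy]⟩

theorem B_nd_one {v : α × α} (h : v ≠ 0) : ∃ w, S.B v w = 1 := by
  obtain ⟨w, hw⟩ := S.B_nd h
  refine ⟨(S.B v w).val • w, ?_⟩
  rw [B_smul]
  revert hw; generalize S.B v w = a; revert a; decide

theorem E_mul_neg (v : α × α) : S.E v * S.E (-v) = S.χ (-S.d v.2 v.1) • 1 := by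
  rw [E_mul, add_neg_cancel, E_zero, Prod.fst_neg, d_neg]

theorem E_neg_mul (v : α × α) : S.E (-v) * S.E v = S.χ (-S.d v.2 v.1) • 1 := by
  rw [E_mul, neg_add_cancel, E_zero, Prod.snd_neg, d_neg_left]

/-- The monomials as group elements. -/
def u (v : α × α) : GL α F :=
  ⟨S.E v, S.χ (S.d v.2 v.1) • S.E (-v),
    by rw [mul_smul_comm, E_mul_neg, smul_smul, ← χ_add, add_neg_cancel, χ_zero, one_smul],
    by rw [smul_mul_assoc, E_neg_mul, smul_smul, ← χ_add, add_neg_cancel, χ_zero, one_smul]⟩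

theorem u_val (v : α × α) : (S.u v : Matrix α α F) = S.E v := rfl

theorem u_inv_val (v : α × α) :
    (((S.u v)⁻¹ : GL α F) : Matrix α α F) = S.χ (S.d v.2 v.1) • S.E (-v) := rfl

theorem cj_u (v w : α × α) : cj (S.u v) (S.E w) = S.χ (S.B v w) • S.E w :=
  cj_eq_of_mul (by rw [u_val, smul_mul_assoc, ← E_comm])

theorem E_ne (v : α × α) : S.E v ≠ 0 := fun e => by
  haveI : Nonempty α := ⟨0⟩
  exact (S.u v).ne_zero (e ▸ S.u_val v)

theorem E_cube (v : α × α) : S.E v ^ 3 = 1 := by
  have h3 : v + v + v = 0 := Prod.ext (S.tors _) (S.tors _)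
  rw [pow_succ, pow_two, E_mul, smul_mul_assoc, E_mul, smul_smul, ← χ_add, h3, E_zero, Prod.snd_add, d_add_left,
    show S.d v.2 v.1 + (S.d v.2 v.1 + S.d v.2 v.1) = 0 by generalize S.d v.2 v.1 = a; revert a; decide,
    χ_zero, one_smul]

theorem trace_E {v : α × α} (h : v ≠ 0) : Matrix.trace (S.E v) = 0 := by
  rw [Matrix.trace]
  simp only [Matrix.diag_apply, E_apply, left_eq_add]
  by_cases h1 : v.1 = 0
  · simp only [h1, if_true]
    obtain ⟨y, hy⟩ := S.d_nd v.2 fun e => h (Prod.ext h1 e)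
    have key : S.χ (S.d v.2 y) * ∑ a, S.χ (S.d v.2 a) = ∑ a, S.χ (S.d v.2 a) := by
      rw [Finset.mul_sum]
      refine Fintype.sum_equiv (Equiv.addLeft y) _ _ fun a => ?_
      rw [← χ_add, ← S.d_add]; rfl
    by_contra hs
    have h1 := mul_right_cancel₀ hs (key.trans (one_mul _).symm)
    exact hy (S.χ_inj (h1.trans S.χ_zero.symm))
  · simp [h1]

theorem trace_one : Matrix.trace (1 : Matrix α α F) = (Fintype.card α : F) := by simp

/-- The coordinate of a matrix at a monomial. -/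
noncomputable def coef (x : α × α) : Matrix α α F →ₗ[F] F :=
  ((Fintype.card α : F)⁻¹) • (Matrix.traceLinearMap α F F).comp
    (LinearMap.mulLeft F (((S.u x)⁻¹ : GL α F) : Matrix α α F))

theorem coef_E (x y : α × α) : S.coef x (S.E y) = if x = y then 1 else 0 := by
  simp only [coef, LinearMap.smul_apply, LinearMap.comp_apply, LinearMap.mulLeft_apply,
    Matrix.traceLinearMap_apply, smul_eq_mul]
  split_ifs with h
  · subst h
    rw [← S.u_val x, Units.inv_mul, trace_one, inv_mul_cancel₀ S.card_ne]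
  · rw [u_inv_val, smul_mul_assoc, E_mul, Matrix.trace_smul, Matrix.trace_smul,
      S.trace_E (fun e => h (neg_add_eq_zero.1 e)), smul_zero, smul_zero, mul_zero]

theorem linearIndependent_E : LinearIndependent F S.E := by
  rw [Fintype.linearIndependent_iff]
  intro g hg x
  have := congrArg (S.coef x) hg
  simpa [map_sum, coef_E] using this

theorem sum_coef (A : Matrix α α F) : ∑ x, S.coef x A • S.E x = A := by
  haveI : Nonempty α := ⟨0⟩
  have hspan : Submodule.span F (Set.range S.E) = ⊤ :=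
    S.linearIndependent_E.span_eq_top_of_card_eq_finrank (by simp [Module.finrank_matrix])
  have hA : A ∈ Submodule.span F (Set.range S.E) := by rw [hspan]; trivial
  obtain ⟨c, rfl⟩ := (Submodule.mem_span_range_iff_exists_fun F).1 hA
  simp [map_sum, coef_E]

theorem ext_coef {A A' : Matrix α α F} (h : ∀ x, S.coef x A = S.coef x A') : A = A' := by
  rw [← S.sum_coef A, ← S.sum_coef A']; simp [h]

theorem smul_E_eq {c d : F} {x y : α × α} (h : c • S.E x = d • S.E y) (hc : c ≠ 0) : x = y ∧ c = d := by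
  have := congrArg (S.coef x) h
  simp [coef_E] at this
  by_cases hxy : x = y <;> simp [hxy, hc] at this ⊢
  exact this

theorem smul_E_eq_one {c : F} {x : α × α} {d : F} (h : c • S.E x = d • 1) (hc : c ≠ 0) : x = 0 ∧ c = d :=
  S.smul_E_eq (by rw [E_zero]; exact h) hc

theorem coef_cj_u (x w : α × α) (A : Matrix α α F) :
    S.coef w (cj (S.u x) A) = S.χ (S.B x w) * S.coef w A := by
  conv_lhs => rw [← S.sum_coef A]
  simp only [cj, Matrix.mul_sum, Matrix.sum_mul, mul_smul_comm, smul_mul_assoc, map_sum, map_smul, smul_eq_mul]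
  have h : ∀ y, (S.u x : Matrix α α F) * S.E y * (((S.u x)⁻¹ : GL α F) : Matrix α α F) =
      S.χ (S.B x y) • S.E y := fun y => S.cj_u x y
  simp only [h, map_smul, smul_eq_mul, coef_E]
  simp [mul_comm]

/-- A scalar multiple of a monomial. -/
def IsP (A : Matrix α α F) : Prop := ∃ (c : F) (x : α × α), A = c • S.E x

/-- A normalising element of the monomials. -/
def Norm (g : GL α F) : Prop := ∀ x, S.IsP (cj g (S.E x))

/-- The permutation of the indices by a normalising element. -/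
def Perm (g : GL α F) (π : α × α → α × α) : Prop := ∀ x, ∃ c : F, cj g (S.E x) = c • S.E (π x)

theorem Perm.norm {g : GL α F} {π : α × α → α × α} (h : S.Perm g π) : S.Norm g := fun x => by
  obtain ⟨c, hc⟩ := h x
  exact ⟨c, _, hc⟩

theorem cj_ne_zero (g : GL α F) (x : α × α) : cj g (S.E x) ≠ 0 := fun e =>
  S.E_ne x (by rw [← cj_inv_cj g (S.E x), e]; simp [cj])

theorem coeff_ne {g : GL α F} {x y : α × α} {c : F} (h : cj g (S.E x) = c • S.E y) : c ≠ 0 := fun e =>
  S.cj_ne_zero g x (by rw [h, e, zero_smul])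

theorem coeff_cube {g : GL α F} {x y : α × α} {c : F} (h : cj g (S.E x) = c • S.E y) : c ^ 3 = 1 := by
  have h3 : cj g (S.E x ^ 3) = (c • S.E y) ^ 3 := by
    rw [pow_succ, pow_two, cj_mul, cj_mul, h, pow_succ, pow_two]
  rw [E_cube, cj_one, smul_pow, E_cube] at h3
  exact (S.smul_E_eq (x := 0) (y := 0) (c := 1) (d := c ^ 3) (by rw [E_zero, one_smul]; exact h3) one_ne_zero).2.symm

theorem Norm.exists_perm {g : GL α F} (h : S.Norm g) : ∃ π, S.Perm g π := by
  choose c π hc using h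
  exact ⟨π, fun x => ⟨c x, hc x⟩⟩

theorem Perm.unique {g : GL α F} {π σ : α × α → α × α} (h : S.Perm g π) (h' : S.Perm g σ) : π = σ := by
  funext x
  obtain ⟨c, hc⟩ := h x
  obtain ⟨c', hc'⟩ := h' x
  exact (S.smul_E_eq (hc.symm.trans hc') (S.coeff_ne hc)).1

theorem Perm.eq_of_cj {g : GL α F} {π : α × α → α × α} (h : S.Perm g π) {x y : α × α} {c : F}
    (he : cj g (S.E x) = c • S.E y) : π x = y := by
  obtain ⟨c', hc'⟩ := h x
  exact (S.smul_E_eq (hc'.symm.trans he) (S.coeff_ne hc')).1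

theorem Perm.comp {g h : GL α F} {π σ : α × α → α × α} (hg : S.Perm g π) (hh : S.Perm h σ) :
    S.Perm (g * h) (π ∘ σ) := fun x => by
  obtain ⟨c, hc⟩ := hh x
  obtain ⟨c', hc'⟩ := hg (σ x)
  exact ⟨c * c', by rw [cj_comp, hc, cj_smul, hc', smul_smul]; rfl⟩

theorem perm_one : S.Perm (1 : GL α F) id := fun x => ⟨1, by rw [cj_one_left, one_smul]; rfl⟩

theorem perm_u (v : α × α) : S.Perm (S.u v) id := fun x => ⟨_, S.cj_u v x⟩

theorem Perm.injective {g : GL α F} {π : α × α → α × α} (h : S.Perm g π) : Function.Injective π := by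
  intro a b e
  obtain ⟨c, hc⟩ := h a
  obtain ⟨c', hc'⟩ := h b
  rw [← e] at hc'
  have hc'0 := S.coeff_ne hc'
  have h1 : cj g (S.E a) = (c / c') • cj g (S.E b) := by rw [hc, hc', smul_smul, div_mul_cancel₀ _ hc'0]
  have h2 := congrArg (cj g⁻¹) h1
  rw [cj_smul, cj_inv_cj, cj_inv_cj] at h2
  exact (S.smul_E_eq (c := 1) (d := c / c') (by rwa [one_smul]) one_ne_zero).1

theorem Perm.exists_inv {g : GL α F} {π : α × α → α × α} (h : S.Perm g π) :
    ∃ σ, S.Perm g⁻¹ σ ∧ (∀ x, σ (π x) = x) ∧ ∀ x, π (σ x) = x := by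
  have hb : Function.Bijective π := Finite.injective_iff_bijective.1 h.injective
  refine ⟨(Equiv.ofBijective π hb).symm, fun x => ?_, fun x => (Equiv.ofBijective π hb).symm_apply_apply x,
    fun x => (Equiv.ofBijective π hb).apply_symm_apply x⟩
  obtain ⟨c, hc⟩ := h ((Equiv.ofBijective π hb).symm x)
  have e : π ((Equiv.ofBijective π hb).symm x) = x := (Equiv.ofBijective π hb).apply_symm_apply x
  rw [e] at hc
  refine ⟨c⁻¹, ?_⟩
  have h2 := congrArg (cj g⁻¹) hc
  rw [cj_inv_cj, cj_smul] at h2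
  rw [h2, smul_smul, inv_mul_cancel₀ (S.coeff_ne hc), one_smul]

theorem Norm.mul {g h : GL α F} (hg : S.Norm g) (hh : S.Norm h) : S.Norm (g * h) := by
  obtain ⟨π, hπ⟩ := hg.exists_perm
  obtain ⟨σ, hσ⟩ := hh.exists_perm
  exact (hπ.comp S hσ).norm S

theorem Norm.inv {g : GL α F} (hg : S.Norm g) : S.Norm g⁻¹ := by
  obtain ⟨π, hπ⟩ := hg.exists_perm
  obtain ⟨σ, hσ, -⟩ := hπ.exists_inv S
  exact hσ.norm S

theorem norm_one : S.Norm (1 : GL α F) := S.perm_one.norm S

theorem norm_u (v : α × α) : S.Norm (S.u v) := (S.perm_u v).norm S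

/-- The normalising elements. -/
def Nm : Subgroup (GL α F) where
  carrier := {g | S.Norm g}
  mul_mem' := fun hg hh => Norm.mul S hg hh
  one_mem' := S.norm_one
  inv_mem' := fun hg => Norm.inv S hg

theorem mem_Nm {g : GL α F} : g ∈ S.Nm ↔ S.Norm g := Iff.rfl

theorem norm_of_smul {g h : GL α F} {c : F} (e : (g : Matrix α α F) = c • (h : Matrix α α F)) (hh : S.Norm h) :
    S.Norm g := fun x => by rw [cj_of_smul e]; exact hh x

theorem norm_of_isP {g : GL α F} (h : S.IsP (g : Matrix α α F)) : S.Norm g := by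
  obtain ⟨c, v, hv⟩ := h
  exact S.norm_of_smul (h := S.u v) hv (S.norm_u v)

theorem isP_of_fix {g : GL α F} (h : ∀ x, ∃ c : F, cj g (S.E x) = c • S.E x) :
    S.IsP (g : Matrix α α F) := by
  haveI : Nonempty α := ⟨0⟩
  obtain ⟨w, hw⟩ : ∃ w, S.coef w (g : Matrix α α F) ≠ 0 := by
    by_contra hcon
    push Not at hcon
    exact g.ne_zero (S.ext_coef fun x => by rw [hcon x, map_zero])
  refine ⟨S.coef w (g : Matrix α α F), w, S.ext_coef fun y => ?_⟩
  rw [map_smul, coef_E, smul_eq_mul]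
  by_cases hy : y = w
  · subst hy; simp
  rw [if_neg hy, mul_zero]
  by_contra hy0
  obtain ⟨x, hx⟩ := S.B_nd (sub_ne_zero.2 hy)
  obtain ⟨c, hc⟩ := h x
  have hconj : cj (S.u x) (g : Matrix α α F) = c⁻¹ • (g : Matrix α α F) := by
    refine cj_eq_of_mul ?_
    rw [u_val, smul_mul_assoc, mul_eq_of_cj hc, smul_mul_assoc, smul_smul,
      inv_mul_cancel₀ (S.coeff_ne hc), one_smul]
  have h1 := congrArg (S.coef y) hconj
  have h2 := congrArg (S.coef w) hconj
  rw [coef_cj_u, map_smul, smul_eq_mul] at h1 h2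
  have e := S.χ_inj ((mul_right_cancel₀ hy0 h1).trans (mul_right_cancel₀ hw h2).symm)
  exact hx (by rw [B_swap, B_sub, e, sub_self, neg_zero])

theorem isP_of_perm_id {g : GL α F} (h : S.Perm g id) : S.IsP (g : Matrix α α F) := S.isP_of_fix h

theorem eq_scalar {g : GL α F} (h : ∀ x, cj g (S.E x) = S.E x) : ∃ c : F, (g : Matrix α α F) = c • 1 := by
  obtain ⟨c, w, hw⟩ := S.isP_of_fix fun x => ⟨1, by rw [h x, one_smul]⟩
  refine ⟨c, ?_⟩
  by_contra hne
  have hw0 : w ≠ 0 := fun e => hne (by rw [hw, e, E_zero])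
  obtain ⟨x, hx⟩ := S.B_nd hw0
  have h1 := h x
  rw [cj_of_smul (h := S.u w) hw, cj_u] at h1
  exact hx (S.χ_inj ((S.smul_E_eq (d := 1) (by rwa [one_smul]) (S.χ_ne _)).2.trans S.χ_zero.symm))

theorem Perm.add {g : GL α F} {π : α × α → α × α} (h : S.Perm g π) (x y : α × α) : π (x + y) = π x + π y := by
  obtain ⟨a, ha⟩ := h x
  obtain ⟨b, hb⟩ := h y
  refine h.eq_of_cj S (c := (S.χ (S.d x.2 y.1))⁻¹ * (a * b * S.χ (S.d (π x).2 (π y).1))) ?_
  have e : S.E (x + y) = (S.χ (S.d x.2 y.1))⁻¹ • (S.E x * S.E y) := by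
    rw [E_mul, smul_smul, inv_mul_cancel₀ (S.χ_ne _), one_smul]
  rw [e, cj_smul, cj_mul, ha, hb, smul_mul_assoc, mul_smul_comm, E_mul, smul_smul, smul_smul, smul_smul]
  congr 1
  ring

theorem Perm.zero {g : GL α F} {π : α × α → α × α} (h : S.Perm g π) : π 0 = 0 := by
  simpa using h.add S 0 0

theorem Perm.neg {g : GL α F} {π : α × α → α × α} (h : S.Perm g π) (x : α × α) : π (-x) = -π x :=
  eq_neg_of_add_eq_zero_left (by rw [← h.add S, neg_add_cancel, h.zero S])

theorem Perm.sub {g : GL α F} {π : α × α → α × α} (h : S.Perm g π) (x y : α × α) : π (x - y) = π x - π y := by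
  rw [sub_eq_add_neg, h.add S, h.neg S, ← sub_eq_add_neg]

theorem Perm.nsmul {g : GL α F} {π : α × α → α × α} (h : S.Perm g π) (n : ℕ) (x : α × α) :
    π (n • x) = n • π x := by
  induction n with
  | zero => simp [h.zero S]
  | succ n ih => rw [succ_nsmul, succ_nsmul, h.add S, ih]

theorem Perm.symp {g : GL α F} {π : α × α → α × α} (h : S.Perm g π) (x y : α × α) :
    S.B (π x) (π y) = S.B x y := by
  obtain ⟨a, ha⟩ := h x
  obtain ⟨b, hb⟩ := h y
  have e := congrArg (cj g) (S.E_comm x y)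
  rw [cj_smul, cj_mul, cj_mul, ha, hb, smul_mul_smul_comm, smul_mul_smul_comm, smul_smul, S.E_comm (π x),
    E_mul, smul_smul, smul_smul] at e
  rw [smul_smul] at e
  have := (S.smul_E_eq e (mul_ne_zero (mul_ne_zero (mul_ne_zero (S.coeff_ne ha) (S.coeff_ne hb)) (S.χ_ne _)) (S.χ_ne _))).2
  exact S.χ_inj (mul_left_cancel₀ (mul_ne_zero (S.coeff_ne ha) (S.coeff_ne hb))
    (mul_right_cancel₀ (S.χ_ne (S.d (π y).2 (π x).1)) (by linear_combination this)))

/-- The diagonal matrix of a phase. -/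
def dg (f : α → ZMod 3) : GL α F :=
  ⟨Matrix.diagonal fun a => S.χ (f a), Matrix.diagonal fun a => S.χ (-f a),
    by simp [← χ_add, χ_zero], by simp [← χ_add, χ_zero]⟩

theorem dg_val (f : α → ZMod 3) : (S.dg f : Matrix α α F) = Matrix.diagonal fun a => S.χ (f a) := rfl

theorem dg_mul (f g : α → ZMod 3) : S.dg f * S.dg g = S.dg (f + g) := by
  refine Units.ext ?_
  simp [dg_val, χ_add]

theorem dg_zero : S.dg 0 = 1 := by
  refine Units.ext ?_
  simp [dg_val, χ_zero]

theorem dg_inv (f : α → ZMod 3) : (S.dg f)⁻¹ = S.dg (-f) :=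
  inv_eq_of_mul_eq_one_right (by rw [dg_mul, add_neg_cancel, dg_zero])

theorem det_dg (f : α → ZMod 3) : (S.dg f : Matrix α α F).det = S.χ (∑ a, f a) := by
  rw [dg_val, Matrix.det_diagonal, χ_sum]

/-- A phase whose differences are affine. -/
def IsQuad (f : α → ZMod 3) : Prop := ∀ s, ∃ (l : α) (c : ZMod 3), ∀ x, f (x + s) - f x = S.d l x + c

theorem IsQuad.add {f g : α → ZMod 3} (hf : S.IsQuad f) (hg : S.IsQuad g) : S.IsQuad (f + g) := fun s => by
  obtain ⟨l, c, h⟩ := hf s
  obtain ⟨l', c', h'⟩ := hg s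
  refine ⟨l + l', c + c', fun x => ?_⟩
  simp only [Pi.add_apply, d_add_left]
  linear_combination h x + h' x

theorem IsQuad.neg {f : α → ZMod 3} (hf : S.IsQuad f) : S.IsQuad (-f) := fun s => by
  obtain ⟨l, c, h⟩ := hf s
  refine ⟨-l, -c, fun x => ?_⟩
  simp only [Pi.neg_apply, d_neg_left]
  linear_combination -(h x)

theorem isQuad_const (e : ZMod 3) : S.IsQuad fun _ => e := fun _ => ⟨0, 0, fun x => by simp [d_zero_left]⟩

theorem isQuad_lin (m : α) : S.IsQuad fun x => S.d m x := fun s => by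
  refine ⟨0, S.d m s, fun x => ?_⟩
  simp [S.d_add, d_zero_left]

theorem IsQuad.smul {f : α → ZMod 3} (hf : S.IsQuad f) (m : ZMod 3) : S.IsQuad fun x => m * f x := by
  rcases (by revert m; decide : m = 0 ∨ m = 1 ∨ m = -1) with rfl | rfl | rfl
  · simpa using S.isQuad_const 0
  · simpa using hf
  · have h := hf.neg S
    simp only [neg_mul, one_mul]
    exact h

theorem cj_dg {f : α → ZMod 3} {v : α × α} {l : α} {c : ZMod 3}
    (h : ∀ x, f (x + v.1) - f x = S.d l x + c) : cj (S.dg f) (S.E v) = S.χ c • S.E (v.1, v.2 + l) := by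
  refine cj_eq_of_mul ?_
  ext a b
  rw [dg_val, Matrix.diagonal_mul, Matrix.mul_diagonal, Matrix.smul_apply, smul_eq_mul]
  simp only [E_apply]
  by_cases hab : a = b + v.1
  · subst hab
    rw [if_pos rfl, if_pos rfl, ← χ_add, ← χ_add, ← χ_add, d_add_left]
    congr 1
    linear_combination h b
  · simp [hab]

theorem norm_dg {f : α → ZMod 3} (hf : S.IsQuad f) : S.Norm (S.dg f) := fun v => by
  obtain ⟨l, c, h⟩ := hf v.1
  exact ⟨_, _, S.cj_dg h⟩

/-- The matrix of a permutation of the points. -/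
def pm (σ : Equiv.Perm α) : GL α F :=
  ⟨Matrix.of fun a b => if a = σ b then 1 else 0, Matrix.of fun a b => if σ a = b then 1 else 0,
    by
      ext a c
      rw [Matrix.mul_apply, Finset.sum_eq_single (σ.symm a)]
      · simp [Matrix.one_apply, eq_comm]
      · intro b _ hb
        have h : a ≠ σ b := fun e => hb (by simp [e])
        simp [h]
      · simp,
    by
      ext a c
      rw [Matrix.mul_apply, Finset.sum_eq_single (σ a)]
      · simp [Matrix.one_apply]
      · intro b _ hb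
        simp [Ne.symm hb]
      · simp⟩

omit [AddCommGroup α] in
theorem pm_apply (σ : Equiv.Perm α) (a b : α) :
    (pm (F := F) σ : Matrix α α F) a b = if a = σ b then 1 else 0 := rfl

omit [AddCommGroup α] in
theorem pm_mul (σ τ : Equiv.Perm α) : pm (F := F) (σ * τ) = pm σ * pm τ := by
  refine Units.ext ?_
  ext a c
  rw [Units.val_mul, Matrix.mul_apply, Finset.sum_eq_single (τ c)]
  · simp only [pm_apply, Equiv.Perm.mul_apply, if_true, mul_one]
    congr
  · intro b _ hb
    simp [pm_apply, hb]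
  · simp

omit [AddCommGroup α] in
theorem det_pm (σ : Equiv.Perm α) : (pm (F := F) σ : Matrix α α F).det = ((Equiv.Perm.sign σ : ℤ) : F) := by
  have h : (pm (F := F) σ : Matrix α α F) = (σ⁻¹).permMatrix F := by
    ext a b
    simp only [pm_apply, Equiv.Perm.permMatrix, PEquiv.toMatrix_apply, Equiv.toPEquiv_apply, Option.mem_def,
      Option.some.injEq]
    have h : a = σ b ↔ σ⁻¹ a = b := by rw [Equiv.Perm.inv_def, Equiv.symm_apply_eq]
    by_cases hab : a = σ b
    · rw [if_pos hab, if_pos (h.1 hab)]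
    · rw [if_neg hab, if_neg (fun e => hab (h.2 e))]
  rw [h, Matrix.det_permutation, Equiv.Perm.sign_inv]

/-- An affine permutation of the points. -/
def IsAff (σ : Equiv.Perm α) : Prop :=
  (∀ s, ∃ w, ∀ x, σ (x + s) = σ x + w) ∧ ∀ l, ∃ (l' : α) (c : ZMod 3), ∀ x, S.d l x = S.d l' (σ x) + c

theorem cj_pm {σ : Equiv.Perm α} {v : α × α} {w l' : α} {c : ZMod 3}
    (hw : ∀ x, σ (x + v.1) = σ x + w) (hl : ∀ x, S.d v.2 x = S.d l' (σ x) + c) :
    cj (pm σ) (S.E v) = S.χ c • S.E (w, l') := by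
  refine cj_eq_of_mul ?_
  ext a b
  rw [smul_mul_assoc, Matrix.smul_apply, smul_eq_mul, Matrix.mul_apply, Matrix.mul_apply,
    Finset.sum_eq_single (b + v.1), Finset.sum_eq_single (σ b)]
  · simp only [pm_apply, E_apply, if_true, mul_one, hw]
    by_cases hab : a = σ b + w <;> simp [hab, ← χ_add, hl b, add_comm]
  · intro x _ hx
    simp [pm_apply, hx]
  · simp
  · intro x _ hx
    simp [E_apply, hx]
  · simp

theorem norm_pm {σ : Equiv.Perm α} (hσ : S.IsAff σ) : S.Norm (pm σ) := fun v => by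
  obtain ⟨w, hw⟩ := hσ.1 v.1
  obtain ⟨l', c, hl⟩ := hσ.2 v.2
  exact ⟨_, _, S.cj_pm hw hl⟩

end Frm

end CfsgLib.Geo.HeisNine
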