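import Cfsg.Agent.Geo.HeisNine.Three
import Cfsg.Agent.Solvable.CoprimeAbelian

/-!
In dimension three, over any field with cube roots of unity, a group normalised by the normaliser of the monomials
consists of normalising elements or contains a generating monomial up to a scalar: coprime action of the monomials.
-/

set_option autoImplicit false
set_option linter.unusedSectionVars false
set_option linter.style.haveILetI false

namespace CfsgLib.Geo.HeisNine

open Matrix Cfsg.Geo CfsgLib.Geo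
open scoped Pointwise

namespace Frm

variable {α : Type} [AddCommGroup α] [Fintype α] [DecidableEq α] {F : Type*} [Field F] (S : Frm α F)

theorem mk_eq_iff (S : Frm α F) {g h : GL α F} :
    (QuotientGroup.mk g : GL α F ⧸ Subgroup.center (GL α F)) = QuotientGroup.mk h ↔
      ∃ c : F, (g : Matrix α α F) = c • (h : Matrix α α F) := by
  constructor
  · intro e
    have hc := Subgroup.mem_center_iff.1 (QuotientGroup.eq.1 e.symm)
    obtain ⟨c, hc'⟩ := S.eq_scalar (g := h⁻¹ * g) fun x => by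
      refine cj_eq_of_mul ?_
      rw [← u_val, ← Units.val_mul, ← Units.val_mul, hc]
    refine ⟨c, ?_⟩
    rw [show g = h * (h⁻¹ * g) by group, Units.val_mul, hc', mul_smul_comm, mul_one]
  · rintro ⟨c, hc⟩
    refine (QuotientGroup.eq.2 (Subgroup.mem_center_iff.2 fun y => Units.ext ?_)).symm
    have e : ((h⁻¹ * g : GL α F) : Matrix α α F) = c • 1 := by
      rw [Units.val_mul, hc, mul_smul_comm, Units.inv_mul]
    rw [Units.val_mul y, Units.val_mul (h⁻¹ * g), e]; simp

end Frm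

namespace Ctx

variable {F : Type*} [Field F] [Fintype F] (C : Ctx F)

/-- Commuting with a non-scalar element of the diagonal frame and with a shift forces a scalar. -/
theorem scalar_of_frame {Z Y : GL P1 F} (hZ : Z * C.S0.u a0 = C.S0.u a0 * Z)
    (hns : ∀ c : F, (Z : Matrix P1 P1 F) ≠ c • 1) (hYZ : Y * Z = Z * Y) {v : P1 × P1} (hv : v.1 ≠ 0)
    (hYv : Y * C.S0.u v = C.S0.u v * Y) : ∃ c : F, (Y : Matrix P1 P1 F) = c • 1 := by
  obtain ⟨z, hz⟩ : ∃ z : P1 → F, (Z : Matrix P1 P1 F) = Matrix.diagonal z := by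
    refine ⟨fun a => (Z : Matrix P1 P1 F) a a, ?_⟩
    ext a b
    by_cases hab : a = b
    · subst hab; simp
    rw [Matrix.diagonal_apply_ne _ hab]
    have e0 : ((Z * C.S0.u a0 : GL P1 F) : Matrix P1 P1 F) = ((C.S0.u a0 * Z : GL P1 F) : Matrix P1 P1 F) := by rw [hZ]
    have e := congrFun (congrFun e0 a) b
    rw [Units.val_mul, Units.val_mul, Frm.u_val, Matrix.mul_apply, Matrix.mul_apply,
      Finset.sum_eq_single b (fun x _ hx => by simp [Frm.E_apply, a0, hx]) (by simp),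
      Finset.sum_eq_single a (fun x _ hx => by simp [Frm.E_apply, a0, Ne.symm hx]) (by simp)] at e
    simp only [Frm.E_apply, a0, add_zero, if_true, S0_d, one_mul] at e
    have e' : (C.S0.χ b - C.S0.χ a) * (Z : Matrix P1 P1 F) a b = 0 := by linear_combination e
    exact (mul_eq_zero.1 e').resolve_left (sub_ne_zero.2 fun e => hab (C.S0.χ_inj e).symm)
  obtain ⟨k, hk⟩ : ∃ k : P1, ∀ m, m ≠ k → z m ≠ z k := by
    have hcases : ∀ m : P1, m = 0 ∨ m = 1 ∨ m = 2 := by decide
    by_cases h01 : z 0 = z 1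
    · refine ⟨2, fun m hm e => hns (z 0) ?_⟩
      have : ∀ a, z a = z 0 := by
        rcases hcases m with rfl | rfl | rfl
        · intro a; rcases hcases a with rfl | rfl | rfl
          exacts [rfl, h01.symm, e.symm]
        · intro a; rcases hcases a with rfl | rfl | rfl
          exacts [rfl, h01.symm, (h01.trans e).symm]
        · exact absurd rfl hm
      rw [hz, Matrix.smul_one_eq_diagonal]
      exact congrArg _ (funext this)
    by_cases h20 : z 2 = z 0
    · exact ⟨1, fun m hm e => by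
        rcases hcases m with rfl | rfl | rfl
        exacts [h01 e, hm rfl, h01 (h20.symm.trans e)]⟩
    · exact ⟨0, fun m hm e => by
        rcases hcases m with rfl | rfl | rfl
        exacts [hm rfl, h01 e.symm, h20 e]⟩
  have hcol : ∀ m, m ≠ k → (Y : Matrix P1 P1 F) m k = 0 := fun m hm => by
    have e0 : ((Y * Z : GL P1 F) : Matrix P1 P1 F) = ((Z * Y : GL P1 F) : Matrix P1 P1 F) := by rw [hYZ]
    have e := congrFun (congrFun e0 m) k
    rw [Units.val_mul, Units.val_mul, hz, Matrix.mul_diagonal, Matrix.diagonal_mul] at e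
    have e' : (z m - z k) * (Y : Matrix P1 P1 F) m k = 0 := by linear_combination -e
    exact (mul_eq_zero.1 e').resolve_left (sub_ne_zero.2 (hk m hm))
  have hshift : ∀ a b : P1, (Y : Matrix P1 P1 F) (a + v.1) (b + v.1) * C.S0.χ (v.2 * b) =
      C.S0.χ (v.2 * a) * (Y : Matrix P1 P1 F) a b := fun a b => by
    have e0 : ((Y * C.S0.u v : GL P1 F) : Matrix P1 P1 F) = ((C.S0.u v * Y : GL P1 F) : Matrix P1 P1 F) := by rw [hYv]
    have e := congrFun (congrFun e0 (a + v.1)) b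
    rw [Units.val_mul, Units.val_mul, Frm.u_val, Matrix.mul_apply, Matrix.mul_apply,
      Finset.sum_eq_single (b + v.1) (fun x _ hx => by simp [Frm.E_apply, hx]) (by simp),
      Finset.sum_eq_single a (fun x _ hx => by simp [Frm.E_apply, Ne.symm hx]) (by simp)] at e
    simpa [Frm.E_apply, S0_d] using e
  have hstep : ∀ j, (∀ m, m ≠ j → (Y : Matrix P1 P1 F) m j = 0) →
      (∀ m, m ≠ j + v.1 → (Y : Matrix P1 P1 F) m (j + v.1) = 0) ∧
        (Y : Matrix P1 P1 F) (j + v.1) (j + v.1) = (Y : Matrix P1 P1 F) j j := fun j hj => by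
    refine ⟨fun m hm => ?_, mul_right_cancel₀ (C.S0.χ_ne _) ((hshift j j).trans (mul_comm _ _))⟩
    have e := hshift (m - v.1) j
    rw [sub_add_cancel, hj (m - v.1) (fun e => hm (by rw [← e, sub_add_cancel])), mul_zero] at e
    exact (mul_eq_zero.1 e).resolve_right (C.S0.χ_ne _)
  obtain ⟨h1, e1⟩ := hstep k hcol
  obtain ⟨h2, e2⟩ := hstep _ h1
  have hcov : ∀ s k m : P1, s ≠ 0 → m = k ∨ m = k + s ∨ m = k + s + s := by decide
  refine ⟨(Y : Matrix P1 P1 F) k k, ?_⟩
  ext a b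
  rw [Matrix.smul_apply, Matrix.one_apply, smul_eq_mul]
  by_cases hab : a = b
  · subst hab
    rw [if_pos rfl, mul_one]
    rcases hcov v.1 k a hv with rfl | rfl | rfl
    exacts [rfl, e1, e2.trans e1]
  · rw [if_neg hab, mul_zero]
    rcases hcov v.1 k b hv with rfl | rfl | rfl
    exacts [hcol a hab, h1 a hab, h2 a hab]

/-- A subgroup normalised by the normaliser consists of normalising elements or contains a generating
monomial up to a scalar. -/
theorem three_normal {L : Subgroup (GL P1 F)} (hle : L ≤ specialLinear P1 F)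
    (hn : ∀ h ∈ C.G0, ∀ x ∈ L, h * x * h⁻¹ ∈ L) :
    (∀ x ∈ L, C.S0.Norm x) ∨ ∃ y ∈ L, ∃ c : F, (y : Matrix P1 P1 F) = c • C.S0.E a0 := by
  have hid : ∀ x ∈ L, ∀ (c : F) (w : P1 × P1), (x : Matrix P1 P1 F) = c • C.S0.E w → w ≠ 0 →
      ∃ y ∈ L, ∃ c : F, (y : Matrix P1 P1 F) = c • C.S0.E a0 := by
    intro x hx c w hw hw0
    obtain ⟨h, hh, π, hπ, ha⟩ := C.exists_move hw0
    obtain ⟨e, he⟩ := hπ a0
    rw [ha] at he
    have h1 := congrArg (cj h⁻¹) he
    rw [cj_inv_cj, cj_smul] at h1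
    refine ⟨h⁻¹ * x * h⁻¹⁻¹, hn _ (inv_mem hh) x hx, c * e⁻¹, ?_⟩
    rw [← cj_coe, hw, cj_smul, h1, smul_smul, mul_assoc, inv_mul_cancel₀ (C.S0.coeff_ne he), mul_one]
  by_cases hA : ∃ x ∈ L, C.S0.Norm x ∧ ∀ c : F, (x : Matrix P1 P1 F) ≠ c • 1
  · right
    obtain ⟨x, hx, hxN, hxs⟩ := hA
    obtain ⟨π, hπ⟩ := hxN.exists_perm
    by_cases hpi : ∀ v, π v = v
    · obtain ⟨c, w, hw⟩ := C.S0.isP_of_fix (g := x) fun v => by
        obtain ⟨c, hc⟩ := hπ v
        exact ⟨c, by rw [hc, hpi]⟩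
      exact hid x hx c w hw fun e => hxs c (by rw [hw, e, Frm.E_zero])
    · push Not at hpi
      obtain ⟨v, hv⟩ := hpi
      obtain ⟨c, hc⟩ := hπ v
      refine hid (x * (C.S0.u v * x⁻¹ * (C.S0.u v)⁻¹)) (mul_mem hx (hn _ (C.u_mem v) _ (inv_mem hx)))
        (c * (C.S0.χ (C.S0.d v.2 v.1) * C.S0.χ (C.S0.d (π v).2 (-v).1))) (π v - v) ?_ (sub_ne_zero.2 hv)
      rw [show x * (C.S0.u v * x⁻¹ * (C.S0.u v)⁻¹) = (x * C.S0.u v * x⁻¹) * (C.S0.u v)⁻¹ by group, Units.val_mul,
        ← cj_coe, Frm.u_val, hc, Frm.u_inv_val, smul_mul_smul_comm, Frm.E_mul, smul_smul, sub_eq_add_neg, mul_assoc]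
  push Not at hA
  left
  intro x hx
  -- everything happens modulo scalars
  let q := QuotientGroup.mk' (Subgroup.center (GL P1 F))
  let φ : Multiplicative (P1 × P1) →* GL P1 F ⧸ Subgroup.center (GL P1 F) :=
    { toFun := fun v => q (C.S0.u v.toAdd)
      map_one' := by
        rw [← map_one q]
        congr 1
        exact Units.ext C.S0.E_zero
      map_mul' := fun v w => by
        rw [← map_mul]
        refine (C.S0.mk_eq_iff).2 ⟨(C.S0.χ (C.S0.d v.toAdd.2 w.toAdd.1))⁻¹, ?_⟩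
        rw [Units.val_mul, Frm.u_val, Frm.u_val, Frm.u_val, Frm.E_mul, smul_smul,
          inv_mul_cancel₀ (C.S0.χ_ne _), one_smul]
        rfl }
  let Lq := L.map q
  let A := φ.range
  have hφq : ∀ v, φ (Multiplicative.ofAdd v) = q (C.S0.u v) := fun _ => rfl
  have hmemA : ∀ a ∈ A, ∃ v, a = q (C.S0.u v) := by
    rintro _ ⟨v, rfl⟩; exact ⟨v.toAdd, rfl⟩
  haveI hAc : IsMulCommutative A := ⟨⟨fun a b => Subtype.ext (by
    obtain ⟨v, hv⟩ := a.2
    obtain ⟨w, hw⟩ := b.2
    show (a : GL P1 F ⧸ Subgroup.center (GL P1 F)) * b = b * a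
    rw [← hv, ← hw, ← map_mul, ← map_mul, mul_comm])⟩⟩
  have hA3 : ∀ a : A, a ^ 3 = 1 := fun a => Subtype.ext (by
    obtain ⟨v, hv⟩ := a.2
    show (a : GL P1 F ⧸ Subgroup.center (GL P1 F)) ^ 3 = 1
    rw [← hv, ← map_pow]
    convert map_one φ
    apply Multiplicative.toAdd.injective
    show 3 • v.toAdd = 0
    exact (show ∀ v : P1 × P1, 3 • v = 0 by decide) _)
  have hAp : IsPGroup 3 A := fun a => ⟨1, by rw [pow_one, hA3]⟩
  have hφinj : Function.Injective φ := fun v w e => by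
    obtain ⟨c, hc⟩ := C.S0.mk_eq_iff.1 (e : q (C.S0.u v.toAdd) = q (C.S0.u w.toAdd))
    rw [Frm.u_val, Frm.u_val] at hc
    exact Multiplicative.toAdd.injective (C.S0.smul_E_eq (c := 1) ((one_smul F _).trans hc) one_ne_zero).1
  have hAnc : ¬ IsCyclic A := fun h => by
    obtain ⟨a, ha⟩ := IsCyclic.exists_generator (α := A)
    have h1 := Nat.le_of_dvd (by norm_num) (orderOf_dvd_of_pow_eq_one (hA3 a))
    rw [orderOf_eq_card_of_forall_mem_zpowers ha, ← Nat.card_congr (MonoidHom.ofInjective hφinj).toEquiv] at h1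
    simp [ZMod.card, Fintype.card_multiplicative] at h1
  have hnq : ∀ h ∈ C.G0, q h ∈ Subgroup.normalizer (Lq : Set (GL P1 F ⧸ Subgroup.center (GL P1 F))) := by
    intro h hh
    have key : ∀ h ∈ C.G0, ∀ y ∈ Lq, q h * y * (q h)⁻¹ ∈ Lq := by
      rintro h hh _ ⟨y, hy, rfl⟩
      rw [← map_mul, ← map_inv, ← map_mul]
      exact Subgroup.mem_map_of_mem _ (hn h hh y hy)
    refine Subgroup.mem_normalizer_iff.2 fun y => ⟨key h hh y, fun hy => ?_⟩
    have := key h⁻¹ (inv_mem hh) _ hy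
    rw [map_inv, inv_inv] at this
    simpa [mul_assoc] using this
  have hAn : A ≤ Subgroup.normalizer (Lq : Set (GL P1 F ⧸ Subgroup.center (GL P1 F))) := by
    rintro _ ⟨v, rfl⟩; exact hnq _ (C.u_mem _)
  have hcent : ∀ y ∈ Lq, (∀ v, y * q (C.S0.u v) = q (C.S0.u v) * y) → y = 1 := by
    rintro _ ⟨y, hy, rfl⟩ hc
    have hyN : C.S0.Norm y := fun v => by
      have e := hc v
      rw [← map_mul, ← map_mul] at e
      obtain ⟨c, hc'⟩ := C.S0.mk_eq_iff.1 e
      exact ⟨c, v, cj_eq_of_mul (by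
        rw [Units.val_mul, Units.val_mul, Frm.u_val] at hc'
        rw [hc', smul_mul_assoc])⟩
    obtain ⟨c, hc'⟩ := hA y hy hyN
    rw [← map_one q]
    exact C.S0.mk_eq_iff.2 ⟨c, hc'⟩
  have h3 : ¬ 3 ∣ Nat.card Lq := by
    haveI : Fact (Nat.Prime 3) := ⟨Nat.prime_three⟩
    letI : MulAction A Lq :=
      { smul := fun a y => ⟨(a : GL P1 F ⧸ Subgroup.center (GL P1 F)) * y * (a : GL P1 F ⧸ Subgroup.center (GL P1 F))⁻¹,
          (Subgroup.mem_normalizer_iff.1 (hAn a.2) y).1 y.2⟩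
        one_smul := fun y => Subtype.ext (show (1 : GL P1 F ⧸ Subgroup.center (GL P1 F)) * y * (1 : GL P1 F ⧸ Subgroup.center (GL P1 F))⁻¹ = y by simp)
        mul_smul := fun a b y => Subtype.ext (by
          show ((a * b : A) : GL P1 F ⧸ Subgroup.center (GL P1 F)) * y * ((a * b : A) : GL P1 F ⧸ Subgroup.center (GL P1 F))⁻¹ =
            a * (b * y * (b : GL P1 F ⧸ Subgroup.center (GL P1 F))⁻¹) * (a : GL P1 F ⧸ Subgroup.center (GL P1 F))⁻¹
          simp [mul_assoc]) }
    have h := hAp.card_modEq_card_fixedPoints Lq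
    have h1 : Nat.card (MulAction.fixedPoints A Lq) = 1 := by
      rw [Nat.card_eq_one_iff_unique]
      refine ⟨⟨fun a b => ?_⟩, ⟨⟨1, fun a => Subtype.ext (by
        show (a : GL P1 F ⧸ Subgroup.center (GL P1 F)) * (1 : GL P1 F ⧸ Subgroup.center (GL P1 F)) * _ = 1
        simp)⟩⟩⟩
      have hone : ∀ a : MulAction.fixedPoints A Lq, (a : Lq) = 1 := fun a => Subtype.ext (hcent _ (a : Lq).2 fun v => by
        have e := congrArg Subtype.val (a.2 ⟨q (C.S0.u v), Multiplicative.ofAdd v, rfl⟩)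
        exact (mul_inv_eq_iff_eq_mul.1 (e : q (C.S0.u v) * ((a : Lq) : GL P1 F ⧸ Subgroup.center (GL P1 F)) * (q (C.S0.u v))⁻¹ = _)).symm)
      exact Subtype.ext ((hone a).trans (hone b).symm)
    rw [h1] at h
    intro hd
    have := (Nat.modEq_zero_iff_dvd.2 hd).symm.trans h
    exact absurd this (by decide)
  obtain ⟨k, hk⟩ := IsPGroup.exists_card_eq hAp
  have hcopX : ∀ X : Subgroup (GL P1 F ⧸ Subgroup.center (GL P1 F)), X ≤ Lq →
      (Nat.card A).Coprime (Nat.card X) := fun X hX => by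
    rw [hk]
    exact Nat.Coprime.pow_left _ (((Nat.Prime.coprime_iff_not_dvd Nat.prime_three).2 h3).coprime_dvd_right
      (Subgroup.card_dvd_of_le hX))
  -- commutation modulo scalars is commutation
  have hexact : ∀ g ∈ L, ∀ h : GL P1 F, q h * q g = q g * q h → h * g = g * h := by
    intro g hg h e
    rw [← map_mul, ← map_mul] at e
    obtain ⟨c, hc⟩ := C.S0.mk_eq_iff.1 e
    have hc0 : c ≠ 0 := fun e0 => (h * g).ne_zero (by rw [hc, e0, zero_smul])
    have hc3 : c ^ 3 = 1 := by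
      have ed := congrArg Matrix.det hc
      rw [Units.val_mul, Units.val_mul, Matrix.det_mul, Matrix.det_smul, Matrix.det_mul, ZMod.card] at ed
      have hdg : (g : Matrix P1 P1 F).det = 1 := mem_specialLinear.1 (hle hg)
      rw [hdg, mul_one, one_mul] at ed
      exact mul_right_cancel₀ ((Matrix.isUnit_iff_isUnit_det _).1 h.isUnit).ne_zero (ed.symm.trans (one_mul _).symm)
    have hcn : c ^ Nat.card Lq = 1 := by
      have hpow : ∀ n : ℕ, (h : Matrix P1 P1 F) * ((g ^ n : GL P1 F) : Matrix P1 P1 F) =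
          c ^ n • (((g ^ n : GL P1 F) : Matrix P1 P1 F) * h) := fun n => by
        induction n with
        | zero => simp
        | succ n ih =>
          rw [pow_succ g, Units.val_mul, ← mul_assoc, ih, smul_mul_assoc, mul_assoc]
          rw [Units.val_mul, Units.val_mul] at hc
          rw [hc, mul_smul_comm, smul_smul, ← mul_assoc, pow_succ]
      have hs : q (g ^ Nat.card Lq) = q 1 := by
        rw [map_pow, map_one]
        exact congrArg Subtype.val (pow_card_eq_one' : (⟨q g, Subgroup.mem_map_of_mem q hg⟩ : Lq) ^ Nat.card Lq = 1)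
      obtain ⟨s, hs⟩ := C.S0.mk_eq_iff.1 hs
      have e1 := hpow (Nat.card Lq)
      rw [hs, Units.val_one, mul_smul_comm, mul_one, smul_mul_assoc, one_mul, smul_smul] at e1
      have hs0 : s ≠ 0 := fun e0 => (g ^ Nat.card Lq).ne_zero (by rw [hs, e0, zero_smul])
      have := smul_left_injective F h.ne_zero e1
      exact mul_right_cancel₀ hs0 (this.symm.trans (one_mul s).symm)
    have hc1 : c = 1 := by
      have := pow_gcd_eq_one.2 ⟨hc3, hcn⟩
      rwa [((Nat.Prime.coprime_iff_not_dvd Nat.prime_three).2 h3).gcd_eq_one, pow_one] at this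
    rw [hc1, one_smul] at hc
    exact Units.ext hc
  have key : ∀ w v : P1 × P1, C.S0.B w v ≠ 0 → ∀ z ∈ Lq, z ≠ 1 → q (C.S0.u w) * z = z * q (C.S0.u w) →
      ∀ y ∈ Lq, z * y = y * z → q (C.S0.u v) * y = y * q (C.S0.u v) → y = 1 := by
    rintro w v hwv _ ⟨Z, hZ, rfl⟩ hz1 hzw _ ⟨Y, hY, rfl⟩ hzy hyv
    have eZ := hexact Z hZ _ hzw
    have eY := hexact Y hY _ hyv
    have eZY := hexact Y hY Z hzy
    obtain ⟨h, -, π, hπ, ha⟩ := C.exists_move (v := w) fun e => hwv (by rw [e, Frm.B_zero_left])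
    obtain ⟨σ, hσ, hl, hr⟩ := hπ.exists_inv C.S0
    have hcomm : ∀ (X : GL P1 F) (p : P1 × P1), C.S0.u p * X = X * C.S0.u p →
        (h⁻¹ * X * h) * C.S0.u (σ p) = C.S0.u (σ p) * (h⁻¹ * X * h) := by
      intro X p hX
      obtain ⟨e, he⟩ := hπ (σ p)
      rw [hr] at he
      refine Units.ext (smul_right_injective _ (inv_ne_zero (C.S0.coeff_ne he)) ?_)
      have hv : ((h⁻¹ * C.S0.u p * h : GL P1 F) : Matrix P1 P1 F) = e⁻¹ • C.S0.E (σ p) := by
        have h1 := congrArg (cj h⁻¹) he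
        rw [cj_inv_cj, cj_smul] at h1
        rw [h1, smul_smul, inv_mul_cancel₀ (C.S0.coeff_ne he), one_smul, ← C.S0.u_val, cj_coe, inv_inv]
      show e⁻¹ • ((h⁻¹ * X * h * C.S0.u (σ p) : GL P1 F) : Matrix P1 P1 F) =
        e⁻¹ • ((C.S0.u (σ p) * (h⁻¹ * X * h) : GL P1 F) : Matrix P1 P1 F)
      rw [Units.val_mul, Units.val_mul (C.S0.u (σ p)), Frm.u_val, ← mul_smul_comm, ← smul_mul_assoc, ← hv,
        ← Units.val_mul, ← Units.val_mul]
      congr 1
      calc h⁻¹ * X * h * (h⁻¹ * C.S0.u p * h) = h⁻¹ * (X * C.S0.u p) * h := by group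
        _ = _ := by rw [← hX]; group
    have hw : σ w = a0 := by rw [← ha, hl]
    have hv1 : (σ v).1 ≠ 0 := by
      have := hσ.symp C.S0 w v
      rw [hw] at this
      intro e
      apply hwv
      rw [← this, S0_B, e]
      simp [a0]
    obtain ⟨c, hc⟩ := C.scalar_of_frame (Z := h⁻¹ * Z * h) (Y := h⁻¹ * Y * h) (hw ▸ hcomm Z w eZ)
      (fun c hc => hz1 (by
        rw [← map_one q]
        refine C.S0.mk_eq_iff.2 ⟨c, ?_⟩
        rw [show Z = h * (h⁻¹ * Z * h) * h⁻¹ by group, ← cj_coe, hc, cj_smul, cj_one, Units.val_one]))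
      (by
        calc h⁻¹ * Y * h * (h⁻¹ * Z * h) = h⁻¹ * (Y * Z) * h := by group
          _ = _ := by rw [← eZY]; group)
      hv1 (hcomm Y v eY)
    rw [← map_one q]
    refine C.S0.mk_eq_iff.2 ⟨c, ?_⟩
    rw [show Y = h * (h⁻¹ * Y * h) * h⁻¹ by group, ← cj_coe, hc, cj_smul, cj_one, Units.val_one]
  have hbot : Lq = ⊥ := by
    by_contra hne
    obtain ⟨r, hr, hrd⟩ := Nat.exists_prime_and_dvd (show Nat.card Lq ≠ 1 from fun e => hne (Subgroup.card_eq_one.1 e))
    haveI : Fact r.Prime := ⟨hr⟩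
    have hcop := hcopX Lq le_rfl
    have hsol : Group.IsSolvable A ∨ Group.IsSolvable Lq := Or.inl (Group.isSolvable_of_comm fun a b => hAc.is_comm.comm a b)
    obtain ⟨P, hP⟩ := CfsgLib.CoprimeAct.exists_invariant_sylow hAn hcop hsol r
    obtain ⟨S, hS⟩ : ∃ S, S = (P : Subgroup Lq).map Lq.subtype := ⟨_, rfl⟩
    rw [← hS] at hP
    have hSL : S ≤ Lq := hS ▸ Subgroup.map_subtype_le _
    have hPne : (P : Subgroup Lq) ≠ ⊥ := P.ne_bot_of_dvd_card hrd
    haveI : Nontrivial (P : Subgroup Lq) := (Subgroup.nontrivial_iff_ne_bot _).2 hPne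
    haveI := P.2.center_nontrivial
    obtain ⟨⟨z0, hz0⟩, hz0ne⟩ := exists_ne (1 : Subgroup.center (P : Subgroup Lq))
    let Zs := S ⊓ Subgroup.centralizer (S : Set (GL P1 F ⧸ Subgroup.center (GL P1 F)))
    have hZne : Zs ≠ ⊥ := fun e => hz0ne (by
      have hm : ((z0 : Lq) : GL P1 F ⧸ Subgroup.center (GL P1 F)) ∈ Zs := by
        refine ⟨hS ▸ Subgroup.mem_map_of_mem _ z0.2, Subgroup.mem_centralizer_iff.2 ?_⟩
        rintro _ hy
        rw [SetLike.mem_coe, hS] at hy
        obtain ⟨y, hy', rfl⟩ := hy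
        exact congrArg (fun t : (P : Subgroup Lq) => ((t : Lq) : GL P1 F ⧸ Subgroup.center (GL P1 F)))
          (Subgroup.mem_center_iff.1 hz0 ⟨y, hy'⟩)
      rw [e, Subgroup.mem_bot] at hm
      exact Subtype.ext (Subtype.ext (Subtype.ext hm)))
    have hAZ : A ≤ Subgroup.normalizer (Zs : Set (GL P1 F ⧸ Subgroup.center (GL P1 F))) := by
      intro a ha
      have hconj : ∀ a ∈ A, ∀ y ∈ Zs, a * y * a⁻¹ ∈ Zs := by
        intro a ha y hy
        refine ⟨(Subgroup.mem_normalizer_iff.1 (hP ha) y).1 hy.1, Subgroup.mem_centralizer_iff.2 fun s hs => ?_⟩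
        have hs' : a⁻¹ * s * a ∈ S := by
          have := (Subgroup.mem_normalizer_iff.1 (inv_mem (hP ha)) s).1 hs
          rwa [inv_inv] at this
        calc s * (a * y * a⁻¹) = a * ((a⁻¹ * s * a) * y) * a⁻¹ := by group
          _ = a * (y * (a⁻¹ * s * a)) * a⁻¹ := by rw [Subgroup.mem_centralizer_iff.1 hy.2 _ hs']
          _ = _ := by group
      refine Subgroup.mem_normalizer_iff.2 fun y => ⟨hconj a ha y, fun hy => ?_⟩
      have := hconj _ (inv_mem ha) _ hy
      simpa [mul_assoc] using this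
    obtain ⟨a, haA, ha1, z, hz, hz1⟩ : ∃ a ∈ A, a ≠ 1 ∧ ∃ z ∈ Zs ⊓ Subgroup.centralizer {a}, z ≠ 1 := by
      by_contra hno
      push Not at hno
      apply hZne
      rw [← CfsgLib.CoprimeAct.generated_by_centralizers hAnc hAZ (hcopX _ (inf_le_left.trans hSL))]
      exact le_bot_iff.1 (iSup₂_le fun a ha y hy => Subgroup.mem_bot.2 (hno a ha.1 ha.2 y hy))
    obtain ⟨w, rfl⟩ := hmemA a haA
    have hzw : q (C.S0.u w) * z = z * q (C.S0.u w) := (Subgroup.mem_centralizer_singleton_iff.1 hz.2).symm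
    have hSw : ∀ y ∈ S, q (C.S0.u w) * y = y * q (C.S0.u w) := by
      have hle : S ≤ Subgroup.centralizer {q (C.S0.u w)} := by
        rw [← CfsgLib.CoprimeAct.generated_by_centralizers hAnc hP (hcopX _ hSL)]
        refine iSup₂_le fun b hb y hy => ?_
        obtain ⟨v, rfl⟩ := hmemA b hb.1
        have hyv := Subgroup.mem_centralizer_singleton_iff.1 hy.2
        by_cases hwv : C.S0.B w v = 0
        · refine Subgroup.mem_centralizer_singleton_iff.2 ?_
          have hw0 : w ≠ 0 := fun e => ha1 (by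
            rw [← hφq, e]; exact map_one φ)
          have hv0 : v ≠ 0 := fun e => hb.2 (by rw [← hφq, e]; exact map_one φ)
          rcases (show ∀ w1 w2 v1 v2 : ZMod 3, v2 * w1 - w2 * v1 = 0 → (v1, v2) ≠ (0, 0) →
            (w1, w2) = (0, 0) ∨ (w1, w2) = (v1, v2) ∨ (w1, w2) = (-v1, -v2) by decide) w.1 w.2 v.1 v.2 (by
              have := hwv; rw [S0_B] at this; linear_combination -this) hv0 with e | e | e
          · exact absurd e hw0
          · rw [show w = v from e]; exact hyv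
          · rw [← hφq, show w = -v from e,
              show Multiplicative.ofAdd (-v) = (Multiplicative.ofAdd v)⁻¹ from rfl, map_inv, hφq]
            exact ((show Commute y (q (C.S0.u v)) from hyv).inv_right).eq
        · have hzy : z * y = y * z := (Subgroup.mem_centralizer_iff.1 hz.1.2 y hy.1).symm
          rw [key w v hwv z (hSL hz.1.1) hz1 hzw y (hSL hy.1) hzy hyv.symm]
          exact one_mem _
      intro y hy
      exact (Subgroup.mem_centralizer_singleton_iff.1 (hle hy)).symm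
    obtain ⟨h, hh, π, hπ, ha⟩ := C.exists_move (v := w) fun e => ha1 (by rw [← hφq, e]; exact map_one φ)
    obtain ⟨n, hnd⟩ : ∃ n, n = h * C.F0 * h⁻¹ := ⟨_, rfl⟩
    have hnG : n ∈ C.G0 := hnd ▸ mul_mem (mul_mem hh C.F0_mem) (inv_mem hh)
    obtain ⟨σ, hσ, hl, hr'⟩ := hπ.exists_inv C.S0
    have hnP : C.S0.Perm n ((π ∘ fun v => (-v.2, v.1)) ∘ σ) := hnd ▸ (hπ.comp C.S0 C.perm_F0).comp C.S0 hσ
    have hqn : ∀ v, q n * q (C.S0.u v) * (q n)⁻¹ = q (C.S0.u (((π ∘ fun v => (-v.2, v.1)) ∘ σ) v)) := fun v => by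
      rw [← map_mul, ← map_inv, ← map_mul]
      obtain ⟨c, hc⟩ := hnP v
      exact C.S0.mk_eq_iff.2 ⟨c, by rw [← cj_coe, Frm.u_val, hc]; rfl⟩
    obtain ⟨Q, hQ⟩ := CfsgLib.CoprimeAct.conj_smul_sylow_map (hnq n hnG) P
    rw [← hS] at hQ
    have hQn : A ≤ Subgroup.normalizer ((Q : Subgroup Lq).map Lq.subtype : Set (GL P1 F ⧸ Subgroup.center (GL P1 F))) := by
      rw [hQ]
      intro b hb
      obtain ⟨v, rfl⟩ := hmemA b hb
      obtain ⟨v', hv'⟩ : ∃ v', ((π ∘ fun v => (-v.2, v.1)) ∘ σ) v' = v :=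
        (Finite.injective_iff_bijective.1 hnP.injective).2 v
      rw [← hv', ← hqn, Subgroup.mem_normalizer_iff]
      intro y
      have hv'' := Subgroup.mem_normalizer_iff.1 (hP ⟨Multiplicative.ofAdd v', rfl⟩) ((q n)⁻¹ * y * q n)
      rw [hφq] at hv''
      simp only [Subgroup.mem_pointwise_smul_iff_inv_smul_mem, ← map_inv (MulAut.conj), MulAut.smul_def, MulAut.conj_apply, inv_inv]
      rw [hv'']
      simp only [_root_.mul_inv_rev, mul_assoc, inv_mul_cancel_left]
      group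
    obtain ⟨c, hc, hcQ⟩ := CfsgLib.CoprimeAct.invariant_sylow_conj hAn hcop hsol r P Q (hS ▸ hP) hQn
    have hc1 : c = 1 := Subtype.ext (hcent _ c.2 fun v =>
      (Subgroup.mem_centralizer_iff.1 hc _ ⟨Multiplicative.ofAdd v, rfl⟩).symm)
    rw [hc1, map_one, one_smul] at hcQ
    rw [← hcQ, ← hS] at hQ
    have hzn : (q n)⁻¹ * z * q n ∈ S := by
      have h1 : z ∈ MulAut.conj (q n) • S := hQ ▸ hz.1.1
      rw [Subgroup.mem_pointwise_smul_iff_inv_smul_mem, ← map_inv, MulAut.smul_def, MulAut.conj_apply, inv_inv] at h1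
      exact h1
    have hw' : ((π ∘ fun v => (-v.2, v.1)) ∘ σ) w = π (-1, 0) := by
      simp only [Function.comp_apply]
      rw [show σ w = a0 by rw [← ha, hl]]
      simp [a0]
    refine hz1 (key w (π (-1, 0)) ?_ z (hSL hz.1.1) hz1 hzw z (hSL hz.1.1) rfl ?_)
    · rw [← ha, hπ.symp C.S0, S0_B]; decide
    · rw [← hw', ← hqn]
      have := hSw _ hzn
      calc q n * q (C.S0.u w) * (q n)⁻¹ * z = q n * (q (C.S0.u w) * ((q n)⁻¹ * z * q n)) * (q n)⁻¹ := by group
        _ = _ := by rw [this]; group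
  have hq1 : q x = q 1 := by
    rw [map_one]
    exact Subgroup.mem_bot.1 (hbot ▸ Subgroup.mem_map_of_mem q hx)
  obtain ⟨c, hc⟩ := C.S0.mk_eq_iff.1 hq1
  exact C.S0.norm_of_smul hc C.S0.norm_one

end Ctx

end CfsgLib.Geo.HeisNine
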