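import Cfsg.Agent.Geo.HeisNine.Model
import Cfsg.Agent.Geo.HeisNine.ThreeNormal

/-!
Without the cubic phase, the centraliser of a monomial in an overgroup consists of normalising elements.
-/

set_option autoImplicit false
set_option linter.unusedSectionVars false
set_option linter.style.haveILetI false

namespace CfsgLib.Geo.HeisNine

open Matrix Cfsg.Geo CfsgLib.Geo

namespace Ctx

variable {F : Type*} [Field F] [Fintype F] (C : Ctx F)

/-- The cubic phase. -/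
def cube : GL P2 F := C.S.dg fun x => x.2 * x.2 * x.1

theorem p1_cases : ∀ i : P1, i = 0 ∨ i = 1 ∨ i = 2 := by decide

theorem bd_dg (φ : P1 → P1 → ZMod 3) : bd (fun i => C.S0.dg (φ i)) = C.S.dg fun x => φ x.2 x.1 := by
  refine Units.ext ?_
  ext x y
  rw [bd_apply, Frm.dg_val, Frm.dg_val, Matrix.diagonal_apply, Matrix.diagonal_apply]
  by_cases h1 : x.2 = y.2 <;> by_cases h2 : x.1 = y.1 <;> simp [h1, h2, Prod.ext_iff, C.χ_S]

theorem dg_pow {α : Type} [AddCommGroup α] [Fintype α] [DecidableEq α] (S : Frm α F) (f : α → ZMod 3) (n : ℕ) :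
    S.dg f ^ n = S.dg (n • f) := by
  induction n with
  | zero => rw [pow_zero, zero_smul, S.dg_zero]
  | succ n ih => rw [pow_succ, ih, S.dg_mul, succ_nsmul]

theorem bd_relabel (τ : Equiv.Perm P1) (G : P1 → GL P1 F) :
    sp (Equiv.prodCongr (Equiv.refl P1) τ) * bd G * (sp (Equiv.prodCongr (Equiv.refl P1) τ))⁻¹ =
      bd fun i => G (τ.symm i) := by
  rw [mul_inv_eq_iff_eq_mul]
  refine Units.ext ?_
  rw [Units.val_mul, Units.val_mul, sp_val, smul_mul_assoc, mul_smul_comm]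
  congr 1
  ext x y
  rw [Matrix.mul_apply, Matrix.mul_apply, Finset.sum_eq_single (x.1, τ.symm x.2),
    Finset.sum_eq_single (y.1, τ y.2)]
  · simp only [Frm.pm_apply, bd_apply, Equiv.prodCongr_apply, Equiv.coe_refl, Prod.map, id, Equiv.apply_symm_apply]
    by_cases h : τ.symm x.2 = y.2
    · simp [h, show x.2 = τ y.2 by rw [← h, Equiv.apply_symm_apply]]
    · simp [h, show x.2 ≠ τ y.2 from fun e => h (by rw [e, Equiv.symm_apply_apply])]
  · intro z _ hz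
    rw [Frm.pm_apply, if_neg (show ¬ z = Equiv.prodCongr (Equiv.refl P1) τ y from fun e => hz e), mul_zero]
  · simp
  · intro z _ hz
    rw [Frm.pm_apply, if_neg (fun e => hz (by rw [e]; simp)), zero_mul]
  · simp

theorem flip_conj (r : P1 → F) {G : P1 → GL P1 F} (hG : ∀ i, (G i : Matrix P1 P1 F) = r i • 1)
    {ρ : GL P1 F} (hρ : (ρ : Matrix P1 P1 F) = Matrix.diagonal r) :
    sp Over.flip * bd G * (sp Over.flip)⁻¹ = kl ρ := by
  rw [mul_inv_eq_iff_eq_mul]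
  refine Units.ext ?_
  rw [Units.val_mul, Units.val_mul, sp_val, smul_mul_assoc, mul_smul_comm]
  congr 1
  have e1 : (bd G : Matrix P2 P2 F) = Matrix.diagonal fun x : P2 => r x.2 := by
    ext x y
    rw [bd_apply, hG, Matrix.smul_apply, Matrix.one_apply, Matrix.diagonal_apply]
    by_cases h1 : x.2 = y.2 <;> by_cases h2 : x.1 = y.1 <;> simp [h1, h2, Prod.ext_iff]
  have e2 : (kl ρ : Matrix P2 P2 F) = Matrix.diagonal fun x : P2 => r x.1 := by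
    rw [kl_val, hρ, ← Matrix.diagonal_one, Matrix.diagonal_kronecker_diagonal]
    simp
  rw [e1, e2]
  ext x y
  rw [Matrix.mul_diagonal, Matrix.diagonal_mul, Frm.pm_apply]
  split_ifs with h
  · rw [h]; simp [Over.flip]
  · simp

theorem comm_isP {g : GL P1 F} {f : P1 × P1}
    (h : C.S0.IsP ((g * C.S0.u f * g⁻¹ * (C.S0.u f)⁻¹ : GL P1 F) : Matrix P1 P1 F)) :
    C.S0.IsP (cj g (C.S0.E f)) := by
  obtain ⟨c, w, hw⟩ := h
  refine ⟨c * C.S0.χ (C.S0.d w.2 f.1), w + f, ?_⟩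
  have e : g * C.S0.u f * g⁻¹ = (g * C.S0.u f * g⁻¹ * (C.S0.u f)⁻¹) * C.S0.u f := by group
  rw [← C.S0.u_val f, cj_coe, e, Units.val_mul, hw, Frm.u_val, smul_mul_assoc, Frm.E_mul, smul_smul]

theorem kill_transvection : ∀ p q : P1 × P1,
    let π : P1 × P1 → P1 × P1 := fun v => v.1.val • p + v.2.val • q
    let τ : P1 × P1 → P1 × P1 := fun v => π (π v)
    let k1 : P1 × P1 → P1 × P1 := fun v => π ((τ (v.1, v.2 - v.1)).1, (τ (v.1, v.2 - v.1)).2 + (τ (v.1, v.2 - v.1)).1)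
    let k2 : P1 × P1 → P1 × P1 := fun v => π (-(τ (v.2, -v.1)).2, (τ (v.2, -v.1)).1)
    (∀ v, π (π v) + π v + v = 0) → (∀ v, k1 (k1 v) + k1 v + v = 0) → (∀ v, k2 (k2 v) + k2 v + v = 0) →
      ∀ v, π v = v := by
  decide

end Ctx

namespace Over

open Ctx

variable {F : Type*} [Field F] [Fintype F] {C : Ctx F} (O : Over C)

/-- The block diagonal part of the overgroup. -/
def H : Subgroup (P1 → GL P1 F) := O.M.comap bd

theorem mem_H {G : P1 → GL P1 F} : G ∈ O.H ↔ bd G ∈ O.M := Iff.rfl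

theorem const_mem {h : GL P1 F} (hh : h ∈ C.G0) : (fun _ : P1 => h) ∈ O.H := by
  rw [mem_H, bd_const]; exact O.kl_mem hh

theorem pow_mem_H (f : P1 × P1) : (fun i : P1 => C.S0.u f ^ i.val) ∈ O.H := by
  have hA : (fun i : P1 => C.S0.u a0 ^ i.val) ∈ O.H := by
    have e : (fun i : P1 => C.S0.u a0 ^ i.val) = fun i => C.S0.dg fun k => i * k := by
      funext i
      have e1 : C.S0.u a0 = C.S0.dg fun k => k := by
        refine Units.ext ?_
        ext a b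
        rw [Frm.u_val, Frm.E_apply, Frm.dg_val, Matrix.diagonal_apply]
        simp only [a0, add_zero, S0_d, one_mul]
        split_ifs with h <;> first | rfl | rw [h]
      rw [e1, dg_pow]
      congr 1
      funext k
      simp [nsmul_eq_mul]
    rw [e, mem_H, bd_dg]
    exact O.quad_mem 0 0 1 0 0 0 fun x => by ring
  by_cases hf : f = 0
  · have e : (fun i : P1 => C.S0.u f ^ i.val) = 1 := by
      funext i
      rw [hf, show C.S0.u (0 : P1 × P1) = 1 from Units.ext C.S0.E_zero, one_pow]; rfl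
    rw [e]; exact one_mem _
  obtain ⟨h, hh, π, hπ, ha⟩ := C.exists_move hf
  obtain ⟨c, hc⟩ := hπ a0
  rw [ha] at hc
  obtain ⟨e, rfl⟩ := C.S0.exists_χ (C.S0.coeff_cube hc)
  have hconj := mul_mem (mul_mem (O.const_mem hh) hA) (inv_mem (O.const_mem hh))
  have hs : (fun i : P1 => C.S0.dg fun _ => -(i * e)) ∈ O.H := by
    rw [mem_H, bd_dg]
    exact O.quad_mem 0 0 0 0 (-e) 0 fun x => by ring
  have e1 : (fun i : P1 => C.S0.u f ^ i.val) =
      ((fun _ : P1 => h) * (fun i : P1 => C.S0.u a0 ^ i.val) * (fun _ : P1 => h)⁻¹) *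
        fun i : P1 => C.S0.dg fun _ => -(i * e) := by
    funext i
    simp only [Pi.mul_apply, Pi.inv_apply]
    rw [← conj_pow]
    refine Units.ext ?_
    rw [Units.val_mul, Units.val_pow_eq_pow_val, Units.val_pow_eq_pow_val, ← cj_coe]
    simp only [Frm.u_val]
    rw [hc, smul_pow,
      Frm.dg_val, ← Matrix.smul_one_eq_diagonal, mul_smul_comm, mul_one, smul_smul,
      show C.S0.χ e ^ i.val = C.S0.χ (i * e) by
        rw [Frm.χ, Frm.χ, ← pow_mul, ZMod.val_mul, ← pow_eq_pow_mod _ C.S0.ω_cube, mul_comm],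
      Frm.χ_neg_mul, one_smul]
  rw [e1]
  exact mul_mem hconj hs

theorem relabel_mem {G : P1 → GL P1 F} (hG : G ∈ O.H) {τ : Equiv.Perm P1}
    (hτ : Aff (Equiv.prodCongr (Equiv.refl P1) τ)) : (fun i => G (τ.symm i)) ∈ O.H := by
  rw [mem_H, ← bd_relabel]
  exact mul_mem (mul_mem (O.sp_mem hτ) hG) (inv_mem (O.sp_mem hτ))

theorem single_false (hy : C.cube ∉ O.M) {G : P1 → GL P1 F} (hG : G ∈ O.H) {c0 c1 c : F}
    (h0 : (G 0 : Matrix P1 P1 F) = c0 • 1) (h1 : (G 1 : Matrix P1 P1 F) = c1 • 1) {v : P1 × P1}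
    (h2 : (G 2 : Matrix P1 P1 F) = c • C.S0.E v) : v = 0 := by
  by_contra hv
  have step : ∀ {G : P1 → GL P1 F}, G ∈ O.H → (∃ c : F, (G 0 : Matrix P1 P1 F) = c • 1) →
      (∃ c : F, (G 1 : Matrix P1 P1 F) = c • 1) → ∀ {c : F} {v : P1 × P1}, (G 2 : Matrix P1 P1 F) = c • C.S0.E v →
      ∀ {h : GL P1 F}, h ∈ C.G0 → ∀ {π : P1 × P1 → P1 × P1}, C.S0.Perm h π →
      ∃ G' ∈ O.H, G' 0 = 1 ∧ G' 1 = 1 ∧ ∃ c' : F, c' ^ 3 = 1 ∧ (G' 2 : Matrix P1 P1 F) = c' • C.S0.E (π v - v) := by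
    intro G hG h0 h1 c v h2 h hh π hπ
    have hone : ∀ {i : P1}, (∃ c : F, (G i : Matrix P1 P1 F) = c • 1) → h * G i * h⁻¹ * (G i)⁻¹ = 1 := by
      rintro i ⟨c, hc⟩
      have : h * G i = G i * h := Units.ext (by rw [Units.val_mul, Units.val_mul, hc]; simp)
      rw [this, mul_inv_cancel_right, mul_inv_cancel]
    refine ⟨(fun _ => h) * G * (fun _ => h)⁻¹ * G⁻¹,
      mul_mem (mul_mem (mul_mem (O.const_mem hh) hG) (inv_mem (O.const_mem hh))) (inv_mem hG), hone h0, hone h1, ?_⟩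
    obtain ⟨e, he⟩ := hπ v
    refine ⟨e * C.S0.χ (C.S0.d v.2 v.1) * C.S0.χ (C.S0.d (π v).2 (-v).1),
      by rw [mul_pow, mul_pow, C.S0.coeff_cube he, Frm.χ_cube, Frm.χ_cube, one_mul, one_mul], ?_⟩
    have hc : c ≠ 0 := fun e' => (G 2).ne_zero (by rw [h2, e', zero_smul])
    have hinv : (((G 2)⁻¹ : GL P1 F) : Matrix P1 P1 F) = c⁻¹ • ((C.S0.u v)⁻¹ : GL P1 F) := by
      refine Units.inv_eq_of_mul_eq_one_right ?_
      rw [h2, ← C.S0.u_val, smul_mul_smul_comm, mul_inv_cancel₀ hc, one_smul, Units.mul_inv]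
    simp only [Pi.mul_apply, Pi.inv_apply]
    rw [Units.val_mul, ← cj_coe, h2, cj_smul, he, hinv, Frm.u_inv_val, smul_smul, smul_smul, smul_mul_smul_comm,
      Frm.E_mul, smul_smul, sub_eq_add_neg]
    congr 1
    field_simp
  obtain ⟨G1, hG1, a1, b1, c1', hc1, e1⟩ : ∃ G' ∈ O.H, G' 0 = 1 ∧ G' 1 = 1 ∧ ∃ c' : F, c' ^ 3 = 1 ∧
      ∃ s : P1, s ≠ 0 ∧ (G' 2 : Matrix P1 P1 F) = c' • C.S0.E (0, s) := by
    by_cases hv1 : v.1 = 0
    · obtain ⟨G1, hG1, a1, b1, c', hc', e⟩ := step hG ⟨c0, h0⟩ ⟨c1, h1⟩ h2 C.F0_mem C.perm_F0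
      obtain ⟨G2, hG2, a2, b2, c'', hc'', e'⟩ := step hG1 ⟨1, by rw [a1, one_smul]; rfl⟩
        ⟨1, by rw [b1, one_smul]; rfl⟩ e C.x0_mem C.perm_x0
      refine ⟨G2, hG2, a2, b2, c'', hc'', -v.2, ?_, ?_⟩
      · rw [neg_ne_zero]
        exact fun e => hv (Prod.ext hv1 e)
      · rw [e']
        congr 2
        simp [hv1, Prod.ext_iff]
    · obtain ⟨G1, hG1, a1, b1, c', hc', e⟩ := step hG ⟨c0, h0⟩ ⟨c1, h1⟩ h2 C.x0_mem C.perm_x0
      refine ⟨G1, hG1, a1, b1, c', hc', v.1, hv1, ?_⟩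
      rw [e]
      congr 2
      simp [Prod.ext_iff]
  obtain ⟨s, hs, e1⟩ := e1
  obtain ⟨e, rfl⟩ := C.S0.exists_χ hc1
  have hG1' : G1 = fun i => C.S0.dg fun k => (2 * (i * i) + i) * (e + s * k) := by
    funext i
    refine Units.ext ?_
    rw [Frm.dg_val]
    rcases p1_cases i with rfl | rfl | rfl
    · show (G1 0 : Matrix P1 P1 F) = _
      rw [a1]
      simp [Frm.χ_zero]
    · show (G1 1 : Matrix P1 P1 F) = _
      rw [b1]
      simp [Frm.χ_zero, show (2 : ZMod 3) + 1 = 0 from rfl]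
    · show (G1 2 : Matrix P1 P1 F) = Matrix.diagonal fun k : P1 => C.S0.χ ((2 * ((2 : ZMod 3) * 2) + 2) * (e + s * k))
      rw [e1]
      ext a b
      rw [Matrix.smul_apply, Frm.E_apply, Matrix.diagonal_apply, show (2 * ((2 : ZMod 3) * 2) + 2) = 1 from rfl]
      simp only [add_zero, S0_d, one_mul, smul_eq_mul]
      split_ifs with h
      · rw [h, Frm.χ_add]
      · rw [mul_zero]
  rw [mem_H, hG1', bd_dg] at hG1
  have hq : C.S.dg (fun x : P2 => 2 * e * (x.2 * x.2) + e * x.2 + s * (x.1 * x.2)) ∈ O.M :=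
    O.quad_mem 0 (2 * e) s 0 e 0 fun x => by ring
  have h3 := mul_mem hG1 (inv_mem hq)
  rw [Frm.dg_inv, Frm.dg_mul] at h3
  have h4 := pow_mem h3 (2 * s).val
  rw [dg_pow] at h4
  apply hy
  refine (congrArg (· ∈ O.M) (?_ : C.cube = _)).mpr h4
  show C.S.dg _ = C.S.dg _
  congr 1
  funext x
  simp only [Pi.smul_apply, Pi.add_apply, Pi.neg_apply]
  rw [nsmul_eq_mul, ZMod.natCast_zmod_val]
  rcases (by revert hs; clear e1 h3 h4 hq hG1 hG1'; revert s; decide : s = 1 ∨ s = 2) with rfl | rfl <;> ring_nf <;>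
    reduce_mod_char

theorem isP_block_two (hy : C.cube ∉ O.M) {G : P1 → GL P1 F} (hG : G ∈ O.H) {c0 : F}
    (h0 : (G 0 : Matrix P1 P1 F) = c0 • 1) : C.S0.Norm (G 2) := by
  let L := O.H.comap (MonoidHom.mulSingle (fun _ : P1 => GL P1 F) 2)
  have hLle : L ≤ specialLinear P1 F := fun X hX => by
    have h := mem_specialLinear.1 (O.le_sl (hX : bd (Pi.mulSingle (2 : P1) X) ∈ O.M))
    rw [det_bd, Finset.prod_eq_single (2 : P1)] at h
    · simp only [MonoidHom.mulSingle_apply, Pi.mulSingle_eq_same] at h; exact mem_specialLinear.2 h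
    · intro i _ hi; simp [Pi.mulSingle_eq_of_ne hi]
    · simp
  have hLn : ∀ h ∈ C.G0, ∀ X ∈ L, h * X * h⁻¹ ∈ L := fun h hh X hX => by
    show Pi.mulSingle (2 : P1) (h * X * h⁻¹) ∈ O.H
    have e : Pi.mulSingle (2 : P1) (h * X * h⁻¹) = (fun _ => h) * Pi.mulSingle (2 : P1) X * (fun _ => h)⁻¹ := by
      funext i
      by_cases hi : i = 2
      · subst hi; simp
      · simp [Pi.mulSingle_eq_of_ne hi]
    rw [e]
    exact mul_mem (mul_mem (O.const_mem hh) hX) (inv_mem (O.const_mem hh))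
  have hLY : ∀ X ∈ L, ∀ c : F, ∀ w : P1 × P1, (X : Matrix P1 P1 F) = c • C.S0.E w → w = 0 := by
    intro X hX c w hw
    refine O.single_false hy (G := Pi.mulSingle (2 : P1) X) hX (c0 := 1) (c1 := 1) (c := c) ?_ ?_ ?_
    · rw [Pi.mulSingle_eq_of_ne (by decide), one_smul]; rfl
    · rw [Pi.mulSingle_eq_of_ne (by decide), one_smul]; rfl
    · rw [Pi.mulSingle_eq_same, hw]
  have hLs : ∀ X ∈ L, ∃ c : F, (X : Matrix P1 P1 F) = c • 1 := by
    rcases C.three_normal hLle hLn with hN | ⟨y, hy', c, hc⟩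
    swap
    · exact absurd (hLY y hy' c _ hc) (by decide)
    intro X hX
    obtain ⟨c, w, hw⟩ := C.S0.isP_of_fix (g := X) fun f => by
      obtain ⟨c, w, hw⟩ := hN X hX f
      have hm : X * (C.S0.u f * X⁻¹ * (C.S0.u f)⁻¹) ∈ L := mul_mem hX (hLn _ (C.u_mem f) _ (inv_mem hX))
      have hv : ((X * (C.S0.u f * X⁻¹ * (C.S0.u f)⁻¹) : GL P1 F) : Matrix P1 P1 F) =
          (c * (C.S0.χ (C.S0.d f.2 f.1) * C.S0.χ (C.S0.d w.2 (-f).1))) • C.S0.E (w - f) := by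
        rw [show X * (C.S0.u f * X⁻¹ * (C.S0.u f)⁻¹) = (X * C.S0.u f * X⁻¹) * (C.S0.u f)⁻¹ by group, Units.val_mul,
          ← cj_coe, Frm.u_val, hw, Frm.u_inv_val, smul_mul_smul_comm, Frm.E_mul, smul_smul, sub_eq_add_neg, mul_assoc]
      have h := sub_eq_zero.1 (hLY _ hm _ _ hv)
      subst h
      exact ⟨c, hw⟩
    have h := hLY X hX c w hw
    subst h
    exact ⟨c, by rw [hw, Frm.E_zero]⟩
  intro f
  refine C.comm_isP (C.S0.isP_of_fix fun f' => ?_)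
  obtain ⟨Z, hZ⟩ : ∃ Z, Z = G * (fun _ => C.S0.u f) * G⁻¹ * (fun _ => C.S0.u f)⁻¹ := ⟨_, rfl⟩
  have hZm : Z ∈ O.H := hZ ▸ mul_mem (mul_mem (mul_mem hG (O.const_mem (C.u_mem f))) (inv_mem hG))
    (inv_mem (O.const_mem (C.u_mem f)))
  have hZ0 : Z 0 = 1 := by
    have : G 0 * C.S0.u f = C.S0.u f * G 0 := Units.ext (by rw [Units.val_mul, Units.val_mul, h0]; simp)
    rw [hZ]; simp [this]
  obtain ⟨W, hW⟩ : ∃ W, W = (fun i : P1 => C.S0.u f' ^ i.val) * (fun _ : P1 => C.S0.u f')⁻¹ := ⟨_, rfl⟩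
  have hWm : W ∈ O.H := hW ▸ mul_mem (O.pow_mem_H f') (inv_mem (O.const_mem (C.u_mem f')))
  have hW1 : W 1 = 1 := by simp [hW, ZMod.val_one]
  have hW2 : W 2 = C.S0.u f' := by
    rw [hW, Pi.mul_apply, Pi.inv_apply, show (2 : P1).val = 2 from rfl, pow_two, mul_inv_cancel_right]
  have e : Pi.mulSingle (2 : P1) (Z 2 * C.S0.u f' * (Z 2)⁻¹ * (C.S0.u f')⁻¹) = Z * W * Z⁻¹ * W⁻¹ := by
    funext i
    rcases p1_cases i with rfl | rfl | rfl
    · show Pi.mulSingle (2 : P1) _ (0 : P1) = _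
      rw [Pi.mulSingle_eq_of_ne (by decide)]
      show 1 = Z 0 * W 0 * (Z 0)⁻¹ * (W 0)⁻¹
      simp [hZ0]
    · show Pi.mulSingle (2 : P1) _ (1 : P1) = _
      rw [Pi.mulSingle_eq_of_ne (by decide)]
      show 1 = Z 1 * W 1 * (Z 1)⁻¹ * (W 1)⁻¹
      simp [hW1]
    · show Pi.mulSingle (2 : P1) _ (2 : P1) = _
      rw [Pi.mulSingle_eq_same]
      show _ = Z 2 * W 2 * (Z 2)⁻¹ * (W 2)⁻¹
      rw [hW2]
  obtain ⟨c, hc⟩ := hLs _ (show Pi.mulSingle (2 : P1) (Z 2 * C.S0.u f' * (Z 2)⁻¹ * (C.S0.u f')⁻¹) ∈ O.H by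
    rw [e]; exact mul_mem (mul_mem (mul_mem hZm hWm) (inv_mem hZm)) (inv_mem hWm))
  refine ⟨c, ?_⟩
  have e2 : Z 2 = G 2 * C.S0.u f * (G 2)⁻¹ * (C.S0.u f)⁻¹ := by rw [hZ]; rfl
  rw [← e2, ← C.S0.u_val, cj_coe, show Z 2 * C.S0.u f' * (Z 2)⁻¹ =
    (Z 2 * C.S0.u f' * (Z 2)⁻¹ * (C.S0.u f')⁻¹) * C.S0.u f' by group, Units.val_mul, hc, smul_mul_assoc, one_mul]

/-- A reflection of the labels. -/
def negLabel : Equiv.Perm P1 := Equiv.neg P1

theorem norm_blocks (hy : C.cube ∉ O.M) {G : P1 → GL P1 F} (hG : G ∈ O.H) {c0 : F}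
    (h0 : (G 0 : Matrix P1 P1 F) = c0 • 1) (i : P1) : C.S0.Norm (G i) := by
  rcases p1_cases i with rfl | rfl | rfl
  · exact C.S0.norm_of_smul (h := 1) (by rw [show G _ = G 0 from rfl, h0]; rfl) C.S0.norm_one
  · exact O.isP_block_two hy (O.relabel_mem hG (τ := negLabel) (by decide)) (c0 := c0) h0
  · exact O.isP_block_two hy hG h0

theorem relation (hy : C.cube ∉ O.M) {G : P1 → GL P1 F} (hG : G ∈ O.H) {c0 : F}
    (h0 : (G 0 : Matrix P1 P1 F) = c0 • 1) {π σ : P1 × P1 → P1 × P1} (h1 : C.S0.Perm (G 1) π)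
    (h2 : C.S0.Perm (G 2) σ) (f : P1 × P1) : σ f = -π f - f := by
  have hcom : ∀ (i : P1) (ρ : P1 × P1 → P1 × P1), C.S0.Perm (G i) ρ → ∃ c : F,
      ((G i * C.S0.u f * (G i)⁻¹ * (C.S0.u f)⁻¹ : GL P1 F) : Matrix P1 P1 F) = c • C.S0.E (ρ f - f) := by
    intro i ρ hρ
    obtain ⟨c, hc⟩ := hρ f
    exact ⟨_, by rw [Units.val_mul, ← cj_coe, Frm.u_val, hc, Frm.u_inv_val, smul_mul_smul_comm, Frm.E_mul,
      smul_smul, sub_eq_add_neg]⟩
  obtain ⟨K, hK⟩ : ∃ K, K = G * (fun _ => C.S0.u f) * G⁻¹ * (fun _ => C.S0.u f)⁻¹ *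
      (fun i : P1 => C.S0.u (π f - f) ^ i.val)⁻¹ := ⟨_, rfl⟩
  have hKm : K ∈ O.H := hK ▸ mul_mem (mul_mem (mul_mem (mul_mem hG (O.const_mem (C.u_mem f))) (inv_mem hG))
    (inv_mem (O.const_mem (C.u_mem f)))) (inv_mem (O.pow_mem_H _))
  have hK0 : K 0 = 1 := by
    have : G 0 * C.S0.u f = C.S0.u f * G 0 := Units.ext (by rw [Units.val_mul, Units.val_mul, h0]; simp)
    rw [hK]; simp [this]
  obtain ⟨c, hc⟩ := hcom 1 π h1
  have hK1 : (K 1 : Matrix P1 P1 F) = c • 1 := by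
    rw [hK]
    simp only [Pi.mul_apply, Pi.inv_apply, ZMod.val_one, pow_one]
    rw [Units.val_mul, hc, smul_mul_assoc, ← C.S0.u_val, Units.mul_inv]
  obtain ⟨c', hc'⟩ := hcom 2 σ h2
  obtain ⟨d, hd⟩ : ∃ d, d = π f - f := ⟨_, rfl⟩
  obtain ⟨e, he⟩ : ∃ e : F, ((((C.S0.u d) ^ 2)⁻¹ : GL P1 F) : Matrix P1 P1 F) = e • C.S0.E d := by
    refine ⟨1, ?_⟩
    rw [one_smul]
    refine Units.inv_eq_of_mul_eq_one_right ?_
    rw [Units.val_pow_eq_pow_val, Frm.u_val, ← pow_succ, Frm.E_cube]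
  have hK2 : (K 2 : Matrix P1 P1 F) = (c' * e * C.S0.χ (C.S0.d (σ f - f).2 d.1)) • C.S0.E (σ f - f + d) := by
    rw [hK]
    simp only [Pi.mul_apply, Pi.inv_apply, show (2 : P1).val = 2 from rfl, ← hd]
    rw [Units.val_mul, hc', he, smul_mul_smul_comm, Frm.E_mul, smul_smul]
  have h := O.single_false hy hKm (c0 := 1) (by rw [hK0, one_smul]; rfl) hK1 hK2
  rw [hd] at h
  have h3 : f + f + f = 0 := Prod.ext (C.S0.tors _) (C.S0.tors _)
  calc σ f = (σ f - f + (π f - f)) - π f - f + (f + f + f) := by abel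
    _ = _ := by rw [h, h3, zero_sub, add_zero]

theorem perm_one_blocks (hy : C.cube ∉ O.M) {G : P1 → GL P1 F} (hG : G ∈ O.H) {c0 : F}
    (h0 : (G 0 : Matrix P1 P1 F) = c0 • 1) : C.S0.Perm (G 1) id ∧ C.S0.Perm (G 2) id := by
  have hsq : ∀ {G : P1 → GL P1 F}, G ∈ O.H → (∃ c : F, (G 0 : Matrix P1 P1 F) = c • 1) →
      ∀ {π : P1 × P1 → P1 × P1}, C.S0.Perm (G 1) π → ∀ v, π (π v) + π v + v = 0 := by
    rintro G hG ⟨c0, h0⟩ π h1 v
    obtain ⟨σ, h2⟩ := (O.norm_blocks hy hG h0 2).exists_perm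
    have hr := O.relation hy hG h0 h1 h2
    have h0' : ((G * G) 0 : Matrix P1 P1 F) = (c0 * c0) • 1 := by
      rw [Pi.mul_apply, Units.val_mul, h0, smul_mul_smul_comm, one_mul]
    have hr2 := O.relation hy (mul_mem hG hG) h0' (h1.comp C.S0 h1) (h2.comp C.S0 h2) v
    simp only [Function.comp_apply, hr, h1.sub C.S0, h1.neg C.S0] at hr2
    have h3 : ∀ x : P1 × P1, x + x + x = 0 := fun x => Prod.ext (C.S0.tors _) (C.S0.tors _)
    have e0 : π (π v) + π (π v) + (π v + π v) + (v + v) = 0 := by rw [← sub_eq_zero] at hr2; rw [← hr2]; abel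
    calc π (π v) + π v + v = (π (π v) + π (π v) + π (π v)) + (π v + π v + π v) + (v + v + v)
          - (π (π v) + π (π v) + (π v + π v) + (v + v)) := by abel
      _ = 0 := by rw [h3, h3, h3, e0]; simp
  obtain ⟨π, h1⟩ := (O.norm_blocks hy hG h0 1).exists_perm
  obtain ⟨σ, h2⟩ := (O.norm_blocks hy hG h0 2).exists_perm
  have hπ := hsq hG ⟨c0, h0⟩ h1
  have hπ3 : ∀ v, π (π (π v)) = v := fun v => by
    have e1 := hπ (π v)
    have e2 := hπ v
    calc π (π (π v)) = (π (π (π v)) + π (π v) + π v) - (π (π v) + π v + v) + v := by abel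
      _ = v := by rw [e1, e2, sub_zero, zero_add]
  obtain ⟨τ, hτ, hl, hr⟩ := h1.exists_inv C.S0
  have hτ' : ∀ v, τ v = π (π v) := fun v => by
    conv_lhs => rw [← hπ3 v, hl]
  have hcomm : ∀ {h : GL P1 F}, h ∈ C.G0 → ∀ {ρ : P1 × P1 → P1 × P1} (ρ' : P1 × P1 → P1 × P1),
      C.S0.Perm h ρ → (∀ v, ρ' (ρ v) = v) → ∀ v, (fun w => π (ρ (τ (ρ' w)))) ((fun w => π (ρ (τ (ρ' w)))) v) +
        (fun w => π (ρ (τ (ρ' w)))) v + v = 0 := by
    intro h hh ρ ρ' hρ hρ'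
    obtain ⟨ρ'', hρ2, hl', hr'⟩ := hρ.exists_inv C.S0
    have : ρ' = ρ'' := funext fun v => by conv_lhs => rw [← hr' v, hρ']
    subst this
    refine hsq (mul_mem (mul_mem (mul_mem hG (O.const_mem hh)) (inv_mem hG)) (inv_mem (O.const_mem hh))) ⟨1, ?_⟩
      (((h1.comp C.S0 hρ).comp C.S0 hτ).comp C.S0 hρ2)
    have hc : G 0 * h = h * G 0 := Units.ext (by rw [Units.val_mul, Units.val_mul, h0]; simp)
    simp [hc]
  have e1 := hcomm C.x0_mem (fun v => (v.1, v.2 - v.1)) C.perm_x0 fun v => by simp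
  have e2 := hcomm C.F0_mem (fun v => (v.2, -v.1)) C.perm_F0 fun v => by simp
  simp only [hτ'] at e1 e2
  obtain ⟨p, hp⟩ : ∃ p, p = π b0 := ⟨_, rfl⟩
  obtain ⟨q, hq⟩ : ∃ q, q = π a0 := ⟨_, rfl⟩
  have hlin : π = fun v => v.1.val • p + v.2.val • q := funext fun v => by
    conv_lhs => rw [show v = v.1.val • b0 + v.2.val • a0 by revert v; decide]
    rw [h1.add C.S0, h1.nsmul C.S0, h1.nsmul C.S0, hp, hq]
  clear hp hq hcomm hτ' hl hr hπ3 hsq
  subst hlin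
  have hid := kill_transvection p q hπ e1 e2
  refine ⟨fun v => ?_, fun v => ?_⟩
  · obtain ⟨c, hc⟩ := h1 v
    exact ⟨c, by rw [hc, hid]; rfl⟩
  · obtain ⟨c, hc⟩ := h2 v
    have := O.relation hy hG h0 h1 h2 v
    simp only [hid] at this
    refine ⟨c, by rw [hc, this]; congr 2; generalize v = w; revert w; decide⟩

theorem norm_bd (hy : C.cube ∉ O.M) {G : P1 → GL P1 F} (hG : G ∈ O.H) {c0 : F}
    (h0 : (G 0 : Matrix P1 P1 F) = c0 • 1) : C.S.Norm (bd G) := by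
  obtain ⟨h1, h2⟩ := O.perm_one_blocks hy hG h0
  obtain ⟨c1, w1, hw1⟩ := C.S0.isP_of_fix h1
  obtain ⟨c2, w2, hw2⟩ := C.S0.isP_of_fix h2
  obtain ⟨K, hK⟩ : ∃ K, K = G * (fun i : P1 => C.S0.u w1 ^ i.val)⁻¹ := ⟨_, rfl⟩
  have hKm : K ∈ O.H := hK ▸ mul_mem hG (inv_mem (O.pow_mem_H _))
  have hu : (((C.S0.u w1 ^ 2)⁻¹ : GL P1 F) : Matrix P1 P1 F) = C.S0.E w1 := by
    refine Units.inv_eq_of_mul_eq_one_right ?_
    rw [Units.val_pow_eq_pow_val, Frm.u_val, ← pow_succ, Frm.E_cube]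
  have k0 : (K 0 : Matrix P1 P1 F) = c0 • 1 := by simp [hK, h0]
  have k1 : (K 1 : Matrix P1 P1 F) = c1 • 1 := by
    simp only [hK, Pi.mul_apply, Pi.inv_apply, ZMod.val_one, pow_one]
    rw [Units.val_mul, hw1, smul_mul_assoc, ← C.S0.u_val, Units.mul_inv]
  have k2 : (K 2 : Matrix P1 P1 F) = (c2 * C.S0.χ (C.S0.d w2.2 w1.1)) • C.S0.E (w2 + w1) := by
    simp only [hK, Pi.mul_apply, Pi.inv_apply, show (2 : P1).val = 2 from rfl]
    rw [Units.val_mul, hu, hw2, smul_mul_assoc, Frm.E_mul, smul_smul]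
  have hz := O.single_false hy hKm k0 k1 k2
  obtain ⟨r, hr⟩ : ∃ r : P1 → F, ∀ i, (K i : Matrix P1 P1 F) = r i • 1 := by
    have hex : ∀ i, ∃ c : F, (K i : Matrix P1 P1 F) = c • 1 := fun i => by
      rcases p1_cases i with rfl | rfl | rfl
      exacts [⟨_, k0⟩, ⟨_, k1⟩, ⟨_, by rw [show K _ = K 2 from rfl, k2, hz, C.S0.E_zero]⟩]
    choose r hr using hex
    exact ⟨r, hr⟩
  have hr0 : ∀ i, r i ≠ 0 := fun i e => (K i).ne_zero (by rw [hr, e, zero_smul])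
  obtain ⟨ρ, hρ⟩ : ∃ ρ : GL P1 F, (ρ : Matrix P1 P1 F) = Matrix.diagonal r :=
    ⟨Matrix.GeneralLinearGroup.mkOfDetNeZero (Matrix.diagonal r) (by
      rw [Matrix.det_diagonal]; exact Finset.prod_ne_zero_iff.2 fun i _ => hr0 i), rfl⟩
  have hfl : Aff flip := by decide
  have hρm : (fun _ : P1 => ρ) ∈ O.H := by
    rw [mem_H, bd_const, ← flip_conj r hr hρ]
    exact mul_mem (mul_mem (O.sp_mem hfl) hKm) (inv_mem (O.sp_mem hfl))
  obtain ⟨Z, hZ⟩ : ∃ Z, Z = (fun _ : P1 => ρ) * (fun i : P1 => C.S0.u b0 ^ i.val) * (fun _ : P1 => ρ)⁻¹ *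
      (fun i : P1 => C.S0.u b0 ^ i.val)⁻¹ := ⟨_, rfl⟩
  have hZm : Z ∈ O.H := hZ ▸ mul_mem (mul_mem (mul_mem hρm (O.pow_mem_H b0)) (inv_mem hρm)) (inv_mem (O.pow_mem_H b0))
  have hZ1 := C.S0.isP_of_fix (O.perm_one_blocks hy hZm (c0 := 1) (by rw [hZ]; simp)).1
  have hρN : C.S0.Norm ρ := by
    refine C.norm_of_two ⟨1, a0, ?_⟩ (C.comm_isP ?_)
    · rw [one_smul]
      refine cj_eq_of_mul ?_
      ext x y
      rw [hρ, Matrix.diagonal_mul, Matrix.mul_diagonal, Frm.E_apply]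
      simp only [a0, add_zero]
      split_ifs with h
      · rw [h, mul_comm]
      · simp
    · have e : Z 1 = ρ * C.S0.u b0 * ρ⁻¹ * (C.S0.u b0)⁻¹ := by rw [hZ]; simp [ZMod.val_one]
      rw [← e]
      exact hZ1
  obtain ⟨π, hπ⟩ := hρN.exists_perm
  have hKN : C.S.Norm (bd K) := by
    have e := flip_conj r hr hρ
    have e' : bd K = (sp flip)⁻¹ * kl ρ * sp flip := by rw [← e]; group
    rw [e']
    exact ((norm_sp hfl).inv C.S |>.mul C.S ((C.perm_kl hπ).norm C.S)).mul C.S (norm_sp hfl)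
  have hf : ∀ f : P1 × P1, C.S.Norm (bd fun i : P1 => C.S0.u f ^ i.val) := fun f =>
    (Over.pow_mem_H (⟨specialLinear P2 F ⊓ C.S.Nm, inf_le_left, fun g h1 h2 => ⟨h1, h2⟩⟩ : Over C) f).2
  have e : G = K * fun i : P1 => C.S0.u w1 ^ i.val := by rw [hK, inv_mul_cancel_right]
  rw [e, map_mul]
  exact hKN.mul C.S (hf w1)

theorem norm_of_fix_va (hy : C.cube ∉ O.M) {g : GL P2 F} (hg : g ∈ O.M) (h : cj g (C.S.E va) = C.S.E va) :
    C.S.Norm g := by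
  obtain ⟨G, rfl⟩ := C.exists_bd h
  have hblock : ∀ {G : P1 → GL P1 F}, G ∈ O.H → C.S0.Norm (G 1) := by
    intro G hG f
    obtain ⟨Z, hZ⟩ : ∃ Z, Z = G * (fun i : P1 => C.S0.u f ^ i.val) * G⁻¹ * (fun i : P1 => C.S0.u f ^ i.val)⁻¹ :=
      ⟨_, rfl⟩
    have hZm : Z ∈ O.H := hZ ▸ mul_mem (mul_mem (mul_mem hG (O.pow_mem_H f)) (inv_mem hG)) (inv_mem (O.pow_mem_H f))
    have h1 := C.S0.isP_of_fix (O.perm_one_blocks hy hZm (c0 := 1) (by rw [hZ]; simp)).1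
    refine C.comm_isP ?_
    have e : Z 1 = G 1 * C.S0.u f * (G 1)⁻¹ * (C.S0.u f)⁻¹ := by rw [hZ]; simp [ZMod.val_one]
    rw [← e]
    exact h1
  have hG : G ∈ O.H := hg
  have hG0 : C.S0.Norm (G 0) := by
    have := hblock (O.relabel_mem hG (τ := Equiv.addRight (1 : P1)) (by decide))
    simpa using this
  obtain ⟨k, hk, c, hc⟩ := C.exists_scaled hG0
  have hm := mul_mem (inv_mem (O.const_mem hk)) hG
  have hN := O.norm_bd hy hm (c0 := c) (by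
    rw [Pi.mul_apply, Pi.inv_apply, Units.val_mul, hc, mul_smul_comm, Units.inv_mul])
  obtain ⟨π, hπ⟩ := hk.1.exists_perm
  have e : bd G = kl k * bd ((fun _ : P1 => k)⁻¹ * G) := by
    rw [map_mul, map_inv, bd_const, mul_inv_cancel_left]
  rw [e]
  exact ((C.perm_kl hπ).norm C.S).mul C.S hN

end Over

end CfsgLib.Geo.HeisNine
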