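import Mathlib.GroupTheory.Sylow
import Mathlib.GroupTheory.Nilpotent

/-!
A subgroup containing the centraliser of one class of involutions and separating the conjugates of another
contains all the latter.
-/

set_option autoImplicit false
set_option linter.style.haveILetI false

namespace CfsgLib.Geo.HeisNine

open Subgroup

theorem commuting_involutions {G : Type*} [Group G] {s t : G} (hs : s * s = 1) (ht : t * t = 1)
    (hst : Commute s t) : IsPGroup 2 (closure ({s, t} : Set G)) := by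
  have h1 : ∀ x ∈ closure ({s, t} : Set G), Commute x s ∧ Commute x t := by
    intro x hx
    induction hx using closure_induction with
    | mem x hx =>
      rcases hx with rfl | rfl
      exacts [⟨Commute.refl _, hst⟩, ⟨hst.symm, Commute.refl _⟩]
    | one => exact ⟨Commute.one_left _, Commute.one_left _⟩
    | mul x y _ _ hx hy => exact ⟨hx.1.mul_left hy.1, hx.2.mul_left hy.2⟩
    | inv x _ hx => exact ⟨hx.1.inv_left, hx.2.inv_left⟩
  have h2 : ∀ x ∈ closure ({s, t} : Set G), ∀ y ∈ closure ({s, t} : Set G), Commute x y := by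
    intro x hx y hy
    induction hy using closure_induction with
    | mem y hy =>
      rcases hy with rfl | rfl
      exacts [(h1 x hx).1, (h1 x hx).2]
    | one => exact Commute.one_right _
    | mul a b _ _ ha hb => exact ha.mul_right hb
    | inv a _ ha => exact ha.inv_right
  have h3 : ∀ x ∈ closure ({s, t} : Set G), x * x = 1 := by
    intro x hx
    induction hx using closure_induction with
    | mem x hx => rcases hx with rfl | rfl <;> assumption
    | one => simp
    | mul a b ha hb iha ihb => rw [(h2 b hb a ha).mul_mul_mul_comm, iha, ihb, one_mul]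
    | inv a _ iha => rw [← mul_inv_rev, iha, inv_one]
  exact fun x => ⟨1, Subtype.ext (by rw [pow_one, coe_pow, pow_two, h3 _ x.2, coe_one])⟩

theorem all_conj_mem {G : Type*} [Group G] [Finite G] {K : Type*} (N : Subgroup G) (τ : G → K) {j t : G} {a b : K}
    (hab : a ≠ b) (hτ : ∀ g x, τ (g * x * g⁻¹) = τ x)
    (hj : j ∈ N) (hjj : j * j = 1) (hja : τ j = a) (ht : t ∈ N) (htt : t * t = 1) (htb : τ t = b)
    (hcls : ∀ x ∈ N, x * x = 1 → x ≠ 1 → (τ x = a ∧ ∃ n ∈ N, x = n * j * n⁻¹) ∨ (τ x = b ∧ ∃ n ∈ N, x = n * t * n⁻¹))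
    (hcent : ∀ g, g * j = j * g → g ∈ N)
    (huniq : ∀ x ∈ N, ∀ y ∈ N, x * x = 1 → y * y = 1 → τ x = b → τ y = b → x * y = y * x → x = y)
    (hj1 : j ≠ 1) (g : G) : g * t * g⁻¹ ∈ N := by
  haveI : Fact (Nat.Prime 2) := ⟨Nat.prime_two⟩
  have hsq : ∀ {u x : G}, x * x = 1 → (u * x * u⁻¹) * (u * x * u⁻¹) = 1 := fun {u x} h => by
    calc (u * x * u⁻¹) * (u * x * u⁻¹) = u * (x * x) * u⁻¹ := by group
      _ = 1 := by rw [h]; group
  have hback : ∀ u, u * j * u⁻¹ ∈ N → u ∈ N := by
    intro u hu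
    rcases hcls _ hu (hsq hjj) (fun e => hj1 (conj_eq_one_iff.1 e)) with ⟨-, n, hn, he⟩ | ⟨he, -⟩
    · have h1 : n⁻¹ * u ∈ N := hcent _ (by
        calc n⁻¹ * u * j = n⁻¹ * (u * j * u⁻¹) * u := by group
          _ = j * (n⁻¹ * u) := by rw [he]; group)
      simpa using mul_mem hn h1
    · rw [hτ, hja] at he; exact absurd he hab
  have hC : ∀ x ∈ N, x * x = 1 → τ x = a → x ≠ 1 → ∀ u, u * x = x * u → u ∈ N := by
    intro x hx hxx hxa hx1 u hu
    rcases hcls x hx hxx hx1 with ⟨-, n, hn, he⟩ | ⟨he, -⟩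
    · have h1 : n⁻¹ * u * n ∈ N := hcent _ (by
        rw [he] at hu
        calc n⁻¹ * u * n * j = n⁻¹ * (u * (n * j * n⁻¹)) * n := by group
          _ = _ := by rw [hu]; group)
      have h2 := mul_mem (mul_mem hn h1) (inv_mem hn)
      rwa [show n * (n⁻¹ * u * n) * n⁻¹ = u by group] at h2
    · rw [hxa] at he; exact absurd he hab
  -- a Sylow subgroup of the subgroup is one of the whole group
  have hjp : IsPGroup 2 (zpowers (⟨j, hj⟩ : N)) := by
    have h := commuting_involutions (s := (⟨j, hj⟩ : N)) (t := ⟨j, hj⟩) (Subtype.ext hjj) (Subtype.ext hjj) (Commute.refl _)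
    exact h.to_le (zpowers_le.2 (subset_closure (Set.mem_insert _ _)))
  obtain ⟨S, hS⟩ := hjp.exists_le_sylow
  have hjS : j ∈ (S : Subgroup N).map N.subtype := ⟨⟨j, hj⟩, hS (mem_zpowers _), rfl⟩
  obtain ⟨P, hP⟩ := (S.2.map N.subtype).exists_le_sylow
  have hPS : (P : Subgroup G) = (S : Subgroup N).map N.subtype := by
    refine le_antisymm ?_ hP
    have hint : ∀ x ∈ (P : Subgroup G), x ∈ N → x ∈ (S : Subgroup N).map N.subtype := by
      intro x hx hxN
      have h1 := S.is_maximal' (Q := (P : Subgroup G).comap N.subtype) (P.2.comap_subtype)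
        (fun y hy => hP ⟨y, hy, rfl⟩)
      exact ⟨⟨x, hxN⟩, by rw [← h1]; exact hx, rfl⟩
    by_contra hlt
    obtain ⟨T, hT⟩ : ∃ T, T = ((S : Subgroup N).map N.subtype).subgroupOf P := ⟨_, rfl⟩
    haveI : Group.IsNilpotent P := P.2.isNilpotent
    have hne : T < ⊤ := lt_top_iff_ne_top.2 fun h => hlt (subgroupOf_eq_top.1 (hT ▸ h))
    obtain ⟨x, hxN, hxn⟩ := SetLike.exists_of_lt (Group.normalizerCondition_of_isNilpotent _ hne)
    have h1 : (⟨j, hP hjS⟩ : P) ∈ T := by rw [hT]; exact hjS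
    have h2 := (mem_normalizer_iff.1 hxN _).1 h1
    rw [hT] at h2 hxn
    have h3 : (x : G) ∈ N := hback _ (map_subtype_le _ h2)
    exact hxn (hint _ x.2 h3)
  have hconjN : ∀ Q : Subgroup G, IsPGroup 2 Q → ∃ u : G, ∀ x ∈ Q, u * x * u⁻¹ ∈ N := by
    intro Q hQ
    obtain ⟨P', hP'⟩ := hQ.exists_le_sylow
    obtain ⟨u, hu⟩ := MulAction.exists_smul_eq G P' P
    refine ⟨u, fun x hx => ?_⟩
    have h : u * x * u⁻¹ ∈ (P : Subgroup G) := by
      rw [← hu, Sylow.coe_subgroup_smul]
      exact Subgroup.smul_mem_pointwise_smul x (MulAut.conj u) _ (hP' hx)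
    rw [hPS] at h
    exact map_subtype_le _ h
  have hcomm : ∀ u v : G, Commute (u * t * u⁻¹) (v * t * v⁻¹) → u * t * u⁻¹ = v * t * v⁻¹ := by
    intro u v huv
    obtain ⟨w, hw⟩ := hconjN _ (commuting_involutions (hsq htt) (hsq htt) huv)
    have h1 := hw (u * t * u⁻¹) (subset_closure (Set.mem_insert _ _))
    have h2 := hw (v * t * v⁻¹) (subset_closure (Set.mem_insert_of_mem _ rfl))
    have e := huniq _ h1 _ h2 (hsq (hsq htt)) (hsq (hsq htt)) (by rw [hτ, hτ, htb]) (by rw [hτ, hτ, htb]) (by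
      calc _ = w * ((u * t * u⁻¹) * (v * t * v⁻¹)) * w⁻¹ := by group
        _ = w * ((v * t * v⁻¹) * (u * t * u⁻¹)) * w⁻¹ := by rw [huv.eq]
        _ = _ := by group)
    exact mul_left_cancel (mul_right_cancel e)
  -- dihedral argument, with the roles conjugated back
  obtain ⟨s, hs⟩ : ∃ s, s = g * t * g⁻¹ := ⟨_, rfl⟩
  rw [← hs]
  have hss : s * s = 1 := hs ▸ hsq htt
  have hsb : τ s = b := by rw [hs, hτ, htb]
  obtain ⟨r, hr⟩ : ∃ r, r = s * j := ⟨_, rfl⟩
  have hinv : s * r * s⁻¹ = r⁻¹ := by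
    rw [hr, _root_.mul_inv_rev, inv_eq_of_mul_eq_one_right hjj, inv_eq_of_mul_eq_one_right hss, ← mul_assoc, hss,
      one_mul]
  rcases Nat.even_or_odd' (orderOf r) with ⟨k, hk | hk⟩
  · have hz1 : r ^ k ≠ 1 := fun e => by
      have hk0 : 0 < k := by have := orderOf_pos r; omega
      have := Nat.le_of_dvd hk0 (orderOf_dvd_of_pow_eq_one e)
      omega
    have hzz : r ^ k * r ^ k = 1 := by rw [← pow_add, ← two_mul, ← hk, pow_orderOf_eq_one]
    have hzi : (r ^ k)⁻¹ = r ^ k := inv_eq_of_mul_eq_one_right hzz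
    have hzs : Commute s (r ^ k) := by
      show s * r ^ k = r ^ k * s
      rw [← mul_inv_eq_iff_eq_mul, ← conj_pow, hinv, inv_pow, hzi]
    have hzj : Commute j (r ^ k) := by
      have : j = s * r := by rw [hr, ← mul_assoc, hss, one_mul]
      rw [this]
      exact hzs.mul_left (Commute.refl r |>.pow_right k)
    have hzN : r ^ k ∈ N := hcent _ hzj.symm.eq
    rcases hcls _ hzN hzz hz1 with ⟨hza, -⟩ | ⟨hzb, n, hn, he⟩
    · exact hC _ hzN hzz hza hz1 s hzs.eq
    · have e : s = r ^ k := by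
        rw [hs, he]
        refine hcomm g n ?_
        rw [← hs, ← he]; exact hzs
      exact hcent s (by rw [e]; exact hzj.symm.eq)
  · exfalso
    have e : j = r ^ k * s * (r ^ k)⁻¹ := by
      have h1 : s * (r ^ k)⁻¹ = r ^ k * s := by
        rw [← mul_inv_eq_iff_eq_mul, ← inv_pow, ← conj_pow,
          show s * r⁻¹ * s⁻¹ = (s * r * s⁻¹)⁻¹ by group, hinv, inv_inv]
      have h2 : r ^ k * (r ^ k * r) = 1 := by
        rw [← pow_succ, ← pow_add, show k + (k + 1) = orderOf r by omega, pow_orderOf_eq_one]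
      have h3 : j = s * r := by rw [hr, ← mul_assoc, hss, one_mul]
      calc j = s * r := h3
        _ = s * ((r ^ k)⁻¹ * (r ^ k)⁻¹) := by
              congr 1
              rw [← mul_inv_rev, eq_inv_iff_mul_eq_one, ← h2]
              rw [← pow_succ, ← pow_add, ← pow_add, ← pow_succ']
              congr 1
        _ = r ^ k * s * (r ^ k)⁻¹ := by rw [← mul_assoc, h1]
    apply hab
    rw [← hja, e, hτ, hsb]

end CfsgLib.Geo.HeisNine
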