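import Cfsg.Agent.Geo.HeisNine.Reflect
import Cfsg.Agent.Geo.HeisNine.Isolated

/-!
An overgroup without the cubic phase consists of normalising elements.
-/

set_option autoImplicit false
set_option linter.unusedSectionVars false
set_option linter.style.haveILetI false

namespace CfsgLib.Geo.HeisNine

open Matrix Cfsg.Geo CfsgLib.Geo

variable {F : Type*} [Field F] [Fintype F]

/-- The inversion of the points. -/
def tM : GL P2 F := Frm.pm (Equiv.neg P2)

theorem symp_involution : ∀ p q : P1 × P1,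
    (q.2 * p.1 - p.2 * q.1 = 1) →
    let π : P1 × P1 → P1 × P1 := fun v => v.1.val • p + v.2.val • q
    (∀ v, π (π v) = v) → (∀ v, π v = v) ∨ (∀ v, π v = -v) := by
  decide

namespace Ctx

variable (C : Ctx F)

theorem perm_tM : C.S.Perm (tM : GL P2 F) fun v => -v := fun v =>
  ⟨C.S.χ 0, C.S.cj_pm (w := -v.1) (l' := -v.2) (c := 0) (fun x => by
    show -(x + v.1) = -x + -v.1
    rw [neg_add]) fun x => by
    show C.S.d v.2 x = C.S.d (-v.2) (-x) + 0
    rw [Frm.d_neg, Frm.d_neg_left, neg_neg, add_zero]⟩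

theorem not_conj_tM_jM (C : Ctx F) : ¬ IsConj (toQ (tM : GL P2 F)) (toQ (jM : GL P2 F)) := by
  classical
  intro h
  obtain ⟨k, hk⟩ := isConj_iff.1 h
  obtain ⟨g, rfl⟩ := QuotientGroup.mk'_surjective (Subgroup.center (GL P2 F)) k
  have hk' : toQ g * toQ (tM : GL P2 F) * (toQ g)⁻¹ = toQ (jM : GL P2 F) := hk
  rw [← map_mul, ← map_inv, ← map_mul] at hk'
  obtain ⟨c, hc⟩ := C.toQ_eq_iff.1 hk'.symm
  have hj : (jM : GL P2 F).val - 1 = -(Wm F * (Wm F)ᵀ) := by
    ext ⟨a, t⟩ ⟨b, s⟩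
    rw [Matrix.neg_apply, Matrix.mul_apply, Matrix.sub_apply, Matrix.one_apply, jM, Frm.pm_apply,
      Finset.sum_eq_single t (fun i _ hi => by simp [Wm, Prod.ext_iff, Ne.symm hi]) (by simp)]
    simp only [Wm, Matrix.transpose_apply, Matrix.of_apply, Prod.ext_iff, jσ, Equiv.prodCongr_apply, Prod.map,
      Equiv.neg_apply, Equiv.coe_refl, id]
    rcases p1_cases a with rfl | rfl | rfl <;> rcases p1_cases b with rfl | rfl | rfl <;>
      by_cases hts : t = s <;>
      simp (decide := true) [hts, eq_comm (a := s)]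
  have ht : c • (tM : GL P2 F).val - 1 =
      (-(((g⁻¹ : GL P2 F) : Matrix P2 P2 F) * Wm F)) * ((Wm F)ᵀ * (g : Matrix P2 P2 F)) := by
    have e : c • (tM : GL P2 F).val = ((g⁻¹ * jM * g : GL P2 F) : Matrix P2 P2 F) := by
      rw [Units.val_mul, Units.val_mul, hc, mul_smul_comm, smul_mul_assoc, ← Units.val_mul, ← Units.val_mul]
      congr 2
      group
    calc c • (tM : GL P2 F).val - 1
        = ((g⁻¹ : GL P2 F) : Matrix P2 P2 F) * ((jM : GL P2 F).val - 1) * (g : Matrix P2 P2 F) := by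
          rw [mul_sub, sub_mul, mul_one, Units.inv_mul, e, Units.val_mul, Units.val_mul]
      _ = _ := by simp only [hj, mul_neg, neg_mul, Matrix.mul_assoc, Matrix.neg_mul]
  let f : Fin 4 → P2 := ![(1, 0), (0, 1), (1, 1), (1, 2)]
  have hsub : (c • (tM : GL P2 F).val - 1).submatrix f f = -(1 : Matrix (Fin 4) (Fin 4) F) := by
    ext a b
    rw [Matrix.submatrix_apply, Matrix.sub_apply, Matrix.smul_apply, tM, Frm.pm_apply, Matrix.neg_apply,
      Matrix.one_apply, Matrix.one_apply]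
    have h1 : ∀ a b : Fin 4, f a ≠ (Equiv.neg P2) (f b) := by decide
    have h2 : ∀ a b : Fin 4, f a = f b → a = b := by decide
    rw [if_neg (h1 a b), smul_zero, zero_sub]
    by_cases hab : a = b
    · rw [if_pos hab, if_pos (congrArg f hab)]
    · rw [if_neg hab, if_neg (fun e => hab (h2 a b e))]
  rw [ht, Matrix.submatrix_mul _ _ f id f Function.bijective_id] at hsub
  have hr := Matrix.rank_mul_le_left ((-(((g⁻¹ : GL P2 F) : Matrix P2 P2 F) * Wm F)).submatrix f id)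
    (((Wm F)ᵀ * (g : Matrix P2 P2 F)).submatrix id f)
  rw [hsub] at hr
  have h4 : (-(1 : Matrix (Fin 4) (Fin 4) F)).rank = 4 := by
    rw [Matrix.rank_of_isUnit _ ((isUnit_one (M := Matrix (Fin 4) (Fin 4) F)).neg), Fintype.card_fin]
  rw [h4] at hr
  have := hr.trans (Matrix.rank_le_card_width _)
  simp [ZMod.card] at this

theorem trace_jM : Matrix.trace ((jM : GL P2 F) : Matrix P2 P2 F) = 3 := by
  rw [Matrix.trace]
  simp only [Matrix.diag_apply, jM, Frm.pm_apply, Finset.sum_boole]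
  rw [show (Finset.univ.filter fun x : P2 => x = jσ x).card = 3 by decide]
  norm_num

theorem toQ_conj_u {P : GL P2 F} {π : V → V} (hP : C.S.Perm P π) (x : V) :
    toQ (C.S.u x * P * (C.S.u x)⁻¹) = toQ (C.S.u (x - π x) * P) := by
  obtain ⟨e, he⟩ := hP x
  have hne := C.S.coeff_ne he
  rw [C.toQ_eq_iff]
  have h1 : ((P * C.S.u x * P⁻¹ : GL P2 F) : Matrix P2 P2 F) = e • C.S.E (π x) := by rw [← cj_coe, Frm.u_val, he]
  have h2 : (((P * C.S.u x * P⁻¹)⁻¹ : GL P2 F) : Matrix P2 P2 F) =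
      e⁻¹ • (((C.S.u (π x))⁻¹ : GL P2 F) : Matrix P2 P2 F) := by
    refine Units.inv_eq_of_mul_eq_one_right ?_
    rw [h1, smul_mul_smul_comm, mul_inv_cancel₀ hne, one_smul, ← C.S.u_val, Units.mul_inv]
  refine ⟨e⁻¹ * C.S.χ (C.S.d (π x).2 (π x).1) * C.S.χ (C.S.d x.2 (-π x).1), ?_⟩
  rw [show C.S.u x * P * (C.S.u x)⁻¹ = C.S.u x * (P * C.S.u x * P⁻¹)⁻¹ * P by group, Units.val_mul, Units.val_mul,
    h2, Frm.u_val, Frm.u_inv_val, smul_smul, mul_smul_comm, Frm.E_mul, smul_smul, smul_mul_assoc, Units.val_mul,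
    Frm.u_val, sub_eq_add_neg]

theorem isP_left {g P : GL P2 F} {π : V → V} (hg : C.S.Perm g π) (hP : C.S.Perm P π) :
    ∃ w, toQ g = toQ (C.S.u w * P) := by
  obtain ⟨σ, hσ, -, hr⟩ := hP.exists_inv C.S
  obtain ⟨c, w, hw⟩ := C.S.isP_of_fix (g := g * P⁻¹) fun x => by
    obtain ⟨d, hd⟩ := (hg.comp C.S hσ) x
    exact ⟨d, by rw [hd]; simp only [Function.comp_apply, hr]⟩
  refine ⟨w, C.toQ_eq_iff.2 ⟨c, ?_⟩⟩
  rw [show g = g * P⁻¹ * P by group, Units.val_mul, hw, Units.val_mul, smul_mul_assoc, Frm.u_val]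

theorem toQ_sq_mul {P : GL P2 F} {π : V → V} (hP : C.S.Perm P π) (hP2 : P * P = 1) {g : GL P2 F} {w : V}
    (hg : toQ g = toQ (C.S.u w * P)) (h2 : toQ g * toQ g = 1) : w + π w = 0 := by
  rw [hg, ← map_mul, ← map_one (toQ (F := F)), C.toQ_eq_iff] at h2
  obtain ⟨c, hc⟩ := h2
  obtain ⟨e, he⟩ := hP w
  have h : (C.S.u w * P) * (C.S.u w * P) = C.S.u w * (P * C.S.u w * P⁻¹) * (P * P) := by group
  rw [h, hP2, mul_one, Units.val_mul, ← cj_coe, Frm.u_val, he, Units.val_one, mul_smul_comm, Frm.E_mul, smul_smul] at hc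
  exact (C.S.smul_E_eq_one hc (mul_ne_zero (C.S.coeff_ne he) (C.S.χ_ne _))).1

end Ctx

namespace Over

open Ctx

variable {C : Ctx F} (O : Over C)

theorem classify {g : GL P2 F} (hN : C.S.Norm g) (h2 : toQ g * toQ g = 1) (h1 : toQ g ≠ 1) :
    (∃ n ∈ O.M, C.S.Norm n ∧ toQ g = toQ (n * jM * n⁻¹)) ∨
      ((∃ n ∈ O.M, C.S.Norm n ∧ toQ g = toQ (n * tM * n⁻¹)) ∧
        ∃ w, toQ g = toQ (C.S.u w * tM)) := by
  classical
  obtain ⟨π, hπ⟩ := hN.exists_perm
  have hinv : ∀ v, π (π v) = v := fun v => by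
    rw [← map_mul, ← map_one (toQ (F := F)), C.toQ_eq_iff] at h2
    obtain ⟨c, hc⟩ := h2
    obtain ⟨d, hd⟩ := (hπ.comp C.S hπ) v
    rw [cj_of_smul hc, cj_one_left] at hd
    exact ((C.S.smul_E_eq (c := 1) ((one_smul F _).trans hd) one_ne_zero).1).symm
  have htM2 : (tM : GL P2 F) * tM = 1 := by
    rw [tM, ← Frm.pm_mul, show (Equiv.neg P2 * Equiv.neg P2 : Equiv.Perm P2) = 1 by decide]
    refine Units.ext ?_; ext a b; simp [Frm.pm_apply, Matrix.one_apply]; congr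
  have hjM2 : (jM : GL P2 F) * jM = 1 := by
    rw [jM, ← Frm.pm_mul, show (jσ * jσ : Equiv.Perm P2) = 1 by decide]
    refine Units.ext ?_; ext a b; simp [Frm.pm_apply, Matrix.one_apply]; congr
  have hidc : ∀ {h : GL P2 F}, C.S.Perm h id → toQ h * toQ h = 1 → toQ h = 1 := by
    intro h hh hh2
    obtain ⟨w, hw⟩ := C.isP_left hh C.S.perm_one
    have h0 := C.toQ_sq_mul C.S.perm_one (one_mul _) hw hh2
    have : w = 0 := by
      revert h0; generalize w = z; intro h0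
      have h3 : z + z + z = 0 := Prod.ext (C.S.tors _) (C.S.tors _)
      simp only [id] at h0
      rwa [h0, zero_add] at h3
    rw [hw, this, mul_one, show C.S.u 0 = 1 from Units.ext C.S.E_zero, map_one]
  by_cases hfix : ∀ v, π v = v → v = 0
  · right
    have hneg : π = fun v => -v := funext fun v => by
      have := hfix (π v + v) (by rw [hπ.add C.S, hinv, add_comm])
      exact eq_neg_of_add_eq_zero_left this
    subst hneg
    obtain ⟨w, hw⟩ := C.isP_left hπ C.perm_tM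
    have hn : toQ g = toQ (C.S.u (w + w) * tM * (C.S.u (w + w))⁻¹) := by
      rw [C.toQ_conj_u C.perm_tM, hw]
      congr 3
      have h3 : w + w + w = 0 := Prod.ext (C.S.tors _) (C.S.tors _)
      calc w = (w + w + w) + w := by rw [h3, zero_add]
        _ = w + w - -(w + w) := by abel
    exact ⟨⟨_, O.u_mem _, C.S.norm_u _, hn⟩, w, hw⟩
  · left
    push Not at hfix
    obtain ⟨e, he, he0⟩ := hfix
    obtain ⟨f, hf⟩ := C.S.B_nd_one he0
    obtain ⟨f', hf'⟩ : ∃ f', f' = (f + π f) + (f + π f) := ⟨_, rfl⟩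
    have hff : π f' = f' := by rw [hf', hπ.add C.S, hπ.add C.S, hinv, add_comm f]
    have hBf : C.S.B e f' = 1 := by
      have h1 : C.S.B e (π f) = 1 := by
        rw [show e = π e from he.symm, hπ.symp C.S, hf]
      rw [hf', Frm.B_add, Frm.B_add, hf, h1]
      rfl
    obtain ⟨n, hn, σ, hσ, hσa, hσb⟩ := O.exists_pair hBf
    obtain ⟨σ', hσ', hl, hr⟩ := hσ.exists_inv C.S
    have hh : C.S.Perm (n⁻¹ * g * n) ((σ' ∘ π) ∘ σ) := (hσ'.comp C.S hπ).comp C.S hσ
    obtain ⟨ρ, hρ⟩ : ∃ ρ, ρ = (σ' ∘ π) ∘ σ := ⟨_, rfl⟩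
    rw [← hρ] at hh
    have hρa : ρ va = va := by rw [hρ]; rw [Function.comp_apply, Function.comp_apply, hσa, he, ← hσa, hl]
    have hρb : ρ vb = vb := by rw [hρ]; rw [Function.comp_apply, Function.comp_apply, hσb, hff, ← hσb, hl]
    have hρ2 : ∀ v, ρ (ρ v) = v := fun v => by rw [hρ]; simp only [Function.comp_apply, hr, hinv, hl]
    have hp2 : ∀ x, p2 (ρ (pr x 0)) = 0 := fun x => by
      have h1 := hh.symp C.S (pr x 0) va
      have h2 := hh.symp C.S (pr x 0) vb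
      rw [hρa, S_B_split, S_B_split] at h1
      rw [hρb, S_B_split, S_B_split] at h2
      simp only [p1_pr, p2_pr, va, vb, Frm.B_zero, Frm.B_zero_left, zero_add, add_zero, S0_B] at h1 h2
      generalize p2 (ρ (pr x 0)) = y at h1 h2 ⊢
      revert h1 h2
      revert y
      decide
    have hval : ∀ v, ρ v = pr (p1 (ρ (pr (p1 v) 0))) (p2 v) := fun v => by
      have e1 : v = pr (p1 v) 0 + ((p2 v).1.val • vb + (p2 v).2.val • va) := by
        revert v; decide
      have e2 : pr (p1 (ρ (pr (p1 v) 0))) (p2 v) = ρ (pr (p1 v) 0) + ((p2 v).1.val • vb + (p2 v).2.val • va) := by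
        have h := hp2 (p1 v)
        generalize ρ (pr (p1 v) 0) = z at h ⊢
        generalize p2 v = y
        revert h; revert z y; decide
      conv_lhs => rw [e1]
      rw [hh.add C.S, hh.add C.S, hh.nsmul C.S, hh.nsmul C.S, hρa, hρb, e2]
    obtain ⟨μ, hμ⟩ : ∃ μ : P1 × P1 → P1 × P1, ∀ x, μ x = p1 (ρ (pr x 0)) := ⟨_, fun _ => rfl⟩
    have hμadd : ∀ x y, μ (x + y) = μ x + μ y := fun x y => by
      rw [hμ, hμ, hμ, show pr (x + y) 0 = pr x 0 + pr y 0 by simp [pr, Prod.ext_iff], hh.add C.S]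
      rfl
    have hμ2 : ∀ x, μ (μ x) = x := fun x => by
      have := congrArg p1 (hρ2 (pr x 0))
      rw [hval (pr x 0)] at this
      rw [hval] at this
      simp only [p1_pr] at this
      rw [hμ, hμ]
      exact this
    have hμlin : ∀ x : P1 × P1, μ x = x.1.val • μ b0 + x.2.val • μ a0 := fun x => by
      have hsm : ∀ (k : ℕ) y, μ (k • y) = k • μ y := fun k y => by
        induction k with
        | zero =>
          have := hμadd 0 0
          simpa using this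
        | succ k ih => rw [succ_nsmul, succ_nsmul, hμadd, ih]
      conv_lhs => rw [show x = x.1.val • b0 + x.2.val • a0 by revert x; decide]
      rw [hμadd, hsm, hsm]
    have hμs : (μ a0).2 * (μ b0).1 - (μ b0).2 * (μ a0).1 = 1 := by
      have h := hh.symp C.S (pr a0 0) (pr b0 0)
      rw [hval (pr a0 0), hval (pr b0 0), S_B_split, S_B_split] at h
      simp only [p1_pr, p2_pr, ← hμ, Frm.B_zero, add_zero, S0_B] at h
      rw [h]; rfl
    rcases symp_involution (μ b0) (μ a0) hμs (fun v => by simp only [← hμlin]; exact hμ2 v) with hid | hneg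
    · exfalso
      have hρid : ρ = id := funext fun v => by
        rw [hval, ← hμ, (hμlin _).trans (hid _), pr_eta]; rfl
      rw [hρid] at hh
      have h3 : toQ (n⁻¹ * g * n) = 1 := by
        refine hidc hh ?_
        calc toQ (n⁻¹ * g * n) * toQ (n⁻¹ * g * n) = (toQ n)⁻¹ * (toQ g * toQ g) * toQ n := by
              simp only [map_mul, map_inv]; group
          _ = 1 := by rw [h2]; group
      apply h1
      calc toQ g = toQ n * toQ (n⁻¹ * g * n) * (toQ n)⁻¹ := by simp only [map_mul, map_inv]; group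
        _ = 1 := by rw [h3]; group
    · have hρj : ρ = fun v => pr (-p1 v) (p2 v) := funext fun v => by
        rw [hval, ← hμ, (hμlin _).trans (hneg _)]
      rw [hρj] at hh
      obtain ⟨w, hw⟩ := C.isP_left hh C.perm_jM
      have hw2 := C.toQ_sq_mul C.perm_jM hjM2 hw (by
        calc toQ (n⁻¹ * g * n) * toQ (n⁻¹ * g * n) = (toQ n)⁻¹ * (toQ g * toQ g) * toQ n := by
              simp only [map_mul, map_inv]; group
          _ = 1 := by rw [h2]; group)
      have hw' : (w + w) - pr (-p1 (w + w)) (p2 (w + w)) = w := by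
        revert hw2; clear hw; revert w; decide
      have hq : toQ g = toQ ((n * C.S.u (w + w)) * jM * (n * C.S.u (w + w))⁻¹) := by
        have h4 := C.toQ_conj_u C.perm_jM (w + w)
        rw [hw', ← hw] at h4
        calc toQ g = toQ n * toQ (n⁻¹ * g * n) * (toQ n)⁻¹ := by simp only [map_mul, map_inv]; group
          _ = _ := by rw [← h4]; simp only [map_mul, map_inv]; group
      exact ⟨_, mul_mem hn (O.u_mem _), (hσ.norm C.S).mul C.S (C.S.norm_u _), hq⟩

theorem all_norm (hy : C.cube ∉ O.M) {g : GL P2 F} (hg : g ∈ O.M) : C.S.Norm g := by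
  let G : Subgroup (PQ F) := O.M.map toQ
  let N : Subgroup G := ((O.M ⊓ C.S.Nm).map toQ).subgroupOf G
  have hsj : toQ (jM : GL P2 F) = toQ (sp jσ) := (C.toQ_eq_iff.2 ⟨_, sp_val jσ⟩).symm
  have hst : toQ (tM : GL P2 F) = toQ (sp (Equiv.neg P2)) := (C.toQ_eq_iff.2 ⟨_, sp_val _⟩).symm
  have hjN : toQ (jM : GL P2 F) ∈ (O.M ⊓ C.S.Nm).map toQ :=
    ⟨_, ⟨O.sp_mem (by decide), norm_sp (by decide)⟩, hsj.symm⟩
  have htN : toQ (tM : GL P2 F) ∈ (O.M ⊓ C.S.Nm).map toQ :=
    ⟨_, ⟨O.sp_mem (by decide), norm_sp (by decide)⟩, hst.symm⟩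
  let j : G := ⟨toQ jM, Subgroup.map_mono inf_le_left hjN⟩
  let t : G := ⟨toQ tM, Subgroup.map_mono inf_le_left htN⟩
  let τ : G → Prop := fun x => IsConj (toQ (tM : GL P2 F)) (x : PQ F)
  have hlift : ∀ x ∈ N, ∃ h ∈ O.M, C.S.Norm h ∧ toQ h = ((x : G) : PQ F) := fun x hx => by
    obtain ⟨h, ⟨hm, hn⟩, e⟩ := hx
    exact ⟨h, hm, hn, e⟩
  have hmem : ∀ (x : G) (h : GL P2 F), h ∈ O.M → toQ h = (x : PQ F) → (x ∈ N ↔ C.S.Norm h) := by
    intro x h hm e
    constructor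
    · intro hx
      obtain ⟨h', -, hn, e'⟩ := hlift x hx
      obtain ⟨c, hc⟩ := C.toQ_eq_iff.1 (e.trans e'.symm)
      exact C.S.norm_of_smul hc hn
    · intro hn; exact ⟨h, ⟨hm, hn⟩, e⟩
  have hτn : ∀ (n : GL P2 F), IsConj (toQ (tM : GL P2 F)) (toQ (n * tM * n⁻¹)) := fun n =>
    isConj_iff.2 ⟨toQ n, by rw [map_mul, map_mul, map_inv]⟩
  have hτj : ∀ (n : GL P2 F), ¬ IsConj (toQ (tM : GL P2 F)) (toQ (n * jM * n⁻¹)) := fun n h =>
    C.not_conj_tM_jM (h.trans (isConj_iff.2 ⟨(toQ n)⁻¹, by rw [map_mul, map_mul, map_inv]; group⟩))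
  have hτ1 : ∀ x : G, τ x → x ≠ 1 := fun x hx e => by
    have h1 : toQ (tM : GL P2 F) = 1 := isConj_one_left.1 (by rw [e] at hx; exact hx)
    obtain ⟨c, hc⟩ := C.toQ_eq_iff.1 (h1.trans (map_one toQ).symm)
    obtain ⟨d, hd⟩ := C.perm_tM va
    rw [cj_of_smul hc, cj_one_left] at hd
    exact absurd (C.S.smul_E_eq (c := 1) ((one_smul F _).trans hd) one_ne_zero).1 (by decide)
  have hj1 : j ≠ 1 := fun e => by
    obtain ⟨c, hc⟩ := C.toQ_eq_iff.1 ((show toQ (jM : GL P2 F) = 1 from congrArg Subtype.val e).trans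
      (map_one toQ).symm)
    obtain ⟨d, hd⟩ := C.perm_jM (pr a0 0)
    rw [cj_of_smul hc, cj_one_left] at hd
    exact absurd (C.S.smul_E_eq (c := 1) ((one_smul F _).trans hd) one_ne_zero).1 (by decide)
  have hcls : ∀ x ∈ N, x * x = 1 → x ≠ 1 →
      (τ x = False ∧ ∃ n ∈ N, x = n * j * n⁻¹) ∨ (τ x = True ∧ ∃ n ∈ N, x = n * t * n⁻¹) := by
    intro x hx hx2 hx1
    obtain ⟨h, hm, hn, e⟩ := hlift x hx
    rcases O.classify hn (by rw [e]; exact congrArg Subtype.val hx2) (fun e' => hx1 (Subtype.ext (e ▸ e')))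
      with ⟨n, hnM, hnN, hn'⟩ | ⟨⟨n, hnM, hnN, hn'⟩, -⟩
    · refine Or.inl ⟨eq_false (fun hc => hτj n (hn' ▸ e ▸ hc)), ⟨toQ n, Subgroup.mem_map_of_mem _ hnM⟩, ⟨n, ⟨hnM, hnN⟩, rfl⟩, Subtype.ext ?_⟩
      show (x : PQ F) = toQ n * toQ jM * (toQ n)⁻¹
      rw [← e, hn', map_mul, map_mul, map_inv]
    · refine Or.inr ⟨eq_true (show IsConj _ (x : PQ F) by rw [← e, hn']; exact hτn n), ⟨toQ n, Subgroup.mem_map_of_mem _ hnM⟩, ⟨n, ⟨hnM, hnN⟩, rfl⟩, Subtype.ext ?_⟩
      show (x : PQ F) = toQ n * toQ tM * (toQ n)⁻¹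
      rw [← e, hn', map_mul, map_mul, map_inv]
  have hcent : ∀ x : G, x * j = j * x → x ∈ N := by
    intro x hx
    obtain ⟨h, hm, e⟩ := x.2
    refine (hmem x h hm e).2 (O.norm_of_jC hy hm ?_)
    have hx' : toQ (h * jM * h⁻¹) = toQ jM := by
      rw [map_mul, map_mul, map_inv, e]
      rw [show (x : PQ F) * toQ jM = toQ jM * (x : PQ F) from congrArg Subtype.val hx, mul_inv_cancel_right]
    obtain ⟨c, hc⟩ := C.toQ_eq_iff.1 hx'
    have htr := congrArg Matrix.trace hc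
    rw [Units.val_mul, Matrix.trace_mul_comm, ← Units.val_mul, inv_mul_cancel_left, Matrix.trace_smul, trace_jM,
      smul_eq_mul] at htr
    have hc1 : c = 1 := mul_right_cancel₀ C.three (by rw [one_mul]; exact htr.symm)
    rw [hc1, one_smul] at hc
    exact mul_inv_eq_iff_eq_mul.1 (Units.ext hc)
  have huniq : ∀ x ∈ N, ∀ y ∈ N, x * x = 1 → y * y = 1 → τ x = True → τ y = True → x * y = y * x → x = y := by
    intro x hx y hy' hxx hyy hτx hτy hxy
    have hrep : ∀ z ∈ N, z * z = 1 → τ z = True → ∃ w, ((z : G) : PQ F) = toQ (C.S.u w * tM) := by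
      intro z hz hzz hτz
      obtain ⟨h, hm, hn, e⟩ := hlift z hz
      have hτ' : IsConj (toQ (tM : GL P2 F)) (z : PQ F) := of_eq_true hτz
      have hne : toQ h ≠ 1 := fun e1 => hτ1 z hτ' (Subtype.ext (e ▸ e1))
      rcases O.classify hn (by rw [e]; exact congrArg Subtype.val hzz) hne with ⟨n, -, -, hn'⟩ | ⟨-, w, hw⟩
      · exact absurd (hn' ▸ e ▸ hτ') (hτj n)
      · exact ⟨w, by rw [← e, hw]⟩
    obtain ⟨a, ha⟩ := hrep x hx hxx hτx
    obtain ⟨b, hb⟩ := hrep y hy' hyy hτy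
    have hmul : ∀ a b : V, toQ (C.S.u a * tM) * toQ (C.S.u b * tM) = toQ (C.S.u (a - b)) := by
      intro a b
      have htM2 : (tM : GL P2 F) * tM = 1 := by
        rw [tM, ← Frm.pm_mul, show (Equiv.neg P2 * Equiv.neg P2 : Equiv.Perm P2) = 1 by decide]
        refine Units.ext ?_; ext p q; simp [Frm.pm_apply, Matrix.one_apply]; congr
      obtain ⟨d, hd⟩ := C.perm_tM b
      rw [← map_mul, C.toQ_eq_iff]
      refine ⟨d * C.S.χ (C.S.d a.2 (-b).1), ?_⟩
      rw [show C.S.u a * tM * (C.S.u b * tM) = C.S.u a * (tM * C.S.u b * tM⁻¹) * (tM * tM) by group, htM2, mul_one,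
        Units.val_mul, ← cj_coe]
      simp only [Frm.u_val]
      rw [hd, mul_smul_comm, Frm.E_mul, smul_smul, sub_eq_add_neg]
    have e : toQ (C.S.u (a - b)) = toQ (C.S.u (b - a)) := by
      rw [← hmul, ← hmul, ← ha, ← hb]
      exact congrArg Subtype.val hxy
    obtain ⟨c, hc⟩ := C.toQ_eq_iff.1 e
    have hab' := (C.S.smul_E_eq (c := 1) ((one_smul F _).trans hc) one_ne_zero).1
    have : a = b := by
      rw [← sub_eq_zero] at hab'
      have h3 : (a - b) + (a - b) + (a - b) = 0 := Prod.ext (C.S.tors _) (C.S.tors _)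
      have h2 : a - b + (a - b) = 0 := by rw [← hab']; abel
      rw [h2, zero_add, sub_eq_zero] at h3
      exact h3
    exact Subtype.ext (by rw [ha, hb, this])
  have hsq : ∀ σ : Equiv.Perm P2, σ * σ = 1 → toQ (Frm.pm (F := F) σ) * toQ (Frm.pm σ) = 1 := fun σ h => by
    rw [← map_mul, ← Frm.pm_mul, h, ← map_one (toQ (F := F))]
    congr 1
  have main := all_conj_mem (G := G) N τ (j := j) (t := t) (a := False) (b := True) (by simp)
    (fun u x => propext ⟨fun h => h.trans (isConj_iff.2 ⟨(u : PQ F)⁻¹, by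
        show (u : PQ F)⁻¹ * ((u : PQ F) * x * (u : PQ F)⁻¹) * ((u : PQ F)⁻¹)⁻¹ = x
        group⟩), fun h => h.trans (isConj_iff.2 ⟨(u : PQ F), rfl⟩)⟩)
    hjN (Subtype.ext (hsq jσ (by decide))) (eq_false (fun h => C.not_conj_tM_jM h))
    htN (Subtype.ext (hsq (Equiv.neg P2) (by decide))) (eq_true (IsConj.refl _))
    hcls hcent huniq hj1
  obtain ⟨x, hx⟩ : ∃ x : G, (x : PQ F) = toQ g := ⟨⟨_, Subgroup.mem_map_of_mem _ hg⟩, rfl⟩
  obtain ⟨v, hv⟩ : ∃ v : G, (v : PQ F) = toQ (C.S.u (va + va)) := ⟨⟨_, Subgroup.mem_map_of_mem _ (O.u_mem _)⟩, rfl⟩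
  have h1 := main x
  have h2 : x * v * t * (x * v)⁻¹ ∈ N := main (x * v)
  -- the product of the two conjugates is a conjugate of a monomial
  have h3 := mul_mem h2 h1
  have hval : ((x * v * t * (x * v)⁻¹ * (x * t * x⁻¹) : G) : PQ F) =
      toQ (g * ((C.S.u (va + va) * tM * (C.S.u (va + va))⁻¹) * tM) * g⁻¹) := by
    simp only [Subgroup.coe_mul, Subgroup.coe_inv, hx, hv, map_mul, map_inv, t]
    group
  have heq : toQ (C.S.u (va + va) * tM * (C.S.u (va + va))⁻¹) = toQ (C.S.u va * tM) := by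
    rw [C.toQ_conj_u C.perm_tM, show va + va - -(va + va) = va by decide]
  have hval2 : ((x * v * t * (x * v)⁻¹ * (x * t * x⁻¹) : G) : PQ F) = toQ (g * C.S.u va * g⁻¹) := by
    rw [hval, map_mul, map_mul (toQ (F := F)) g, map_mul (toQ (F := F)) (C.S.u (va + va) * tM * _) tM, heq,
      ← map_mul, ← map_mul, ← map_mul, mul_assoc (C.S.u va), show (tM : GL P2 F) * tM = 1 by
        rw [tM, ← Frm.pm_mul, show (Equiv.neg P2 * Equiv.neg P2 : Equiv.Perm P2) = 1 by decide]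
        refine Units.ext ?_; ext a b; simp [Frm.pm_apply, Matrix.one_apply]; congr, mul_one]
  exact O.norm_of_conj_va hy hg
    ((hmem _ _ (mul_mem (mul_mem hg (O.u_mem va)) (inv_mem hg)) hval2.symm).1 h3)

end Over

end CfsgLib.Geo.HeisNine
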