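import Cfsg.Agent.Geo.HeisNine.Perms
import Cfsg.Agent.Geo.Transvection

/-!
An overgroup with the cubic phase is the whole special linear group: all permutations of the nine points, then
transvections from the restriction to three antisymmetric lines.
-/

set_option autoImplicit false
set_option linter.unusedSectionVars false
set_option linter.style.haveILetI false

namespace CfsgLib.Geo.HeisNine

open Matrix Cfsg.Geo CfsgLib.Geo
open scoped Kronecker

namespace Over

open Ctx

variable {F : Type*} [Field F] [Fintype F] {C : Ctx F} (O : Over C)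

theorem two_ne (hp : (Fintype.card F).Prime) (hmod : Fintype.card F % 3 = 1) : (2 : F) ≠ 0 := fun e => by
  haveI := CfsgLib.Geo.SL3.Hessian.charP_of_card_prime (F := F) hp
  have h7 := CfsgLib.Geo.SL3.Hessian.seven_le_of_mod hmod hp
  have := Nat.le_of_dvd (by norm_num) ((CharP.cast_eq_zero_iff F (Fintype.card F) 2).1 (by exact_mod_cast e))
  omega

theorem jC_conj_block (hp : (Fintype.card F).Prime) (hmod : Fintype.card F % 3 = 1) (hy : C.cube ∈ O.M) : ∀ (i j : P1), i ≠ j → ∀ c : F,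
    HasTv O.M (c • (Pi.single ((1, i) : P2) (1 : F) - Pi.single ((2, i) : P2) 1))
      (Pi.single ((1, j) : P2) (1 : F) - Pi.single ((2, j) : P2) 1) := by
  let X : Subgroup (GL P1 F) :=
    { carrier := {x | x ∈ specialLinear P1 F ∧ ∃ h ∈ O.M, ∃ hh : JC h, resU h hh = x}
      mul_mem' := by
        rintro _ _ ⟨h1, h, hm, hh, rfl⟩ ⟨h1', h', hm', hh', rfl⟩
        exact ⟨mul_mem h1 h1', h * h', mul_mem hm hm', hh.mul hh', resU_mul hh hh'⟩
      one_mem' := ⟨one_mem _, 1, one_mem _, jC_one, Units.ext res_one⟩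
      inv_mem' := by
        rintro _ ⟨h1, h, hm, hh, rfl⟩
        exact ⟨inv_mem h1, h⁻¹, inv_mem hm, hh.inv, Units.ext rfl⟩ }
  have hX : ∀ x ∈ specialLinear P1 F, C.S0.Norm x → x ∈ X := fun x hx hn =>
    ⟨hx, kr x, O.kr_mem ⟨hn, by rw [mem_specialLinear.1 hx, one_pow]⟩, jC_kr x, Units.ext (res_kr x)⟩
  let r : GL P2 F := sp (Equiv.swap ((1, 0) : P2) (2, 0))
  have hrv : (r : Matrix P2 P2 F) = -(Frm.pm (F := F) (Equiv.swap ((1, 0) : P2) (2, 0)) : Matrix P2 P2 F) := by
    rw [sp_val, Equiv.Perm.sign_swap (by decide)]; simp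
  have hrM : r ∈ O.M := O.sp_mem_all hy _
  have hrj : JC r := by
    show r * jM = jM * r
    refine Units.ext ?_
    rw [Units.val_mul, Units.val_mul, hrv, jM, neg_mul, mul_neg]
    congr 1
    rw [← Units.val_mul, ← Units.val_mul, ← Frm.pm_mul, ← Frm.pm_mul]
    congr 2
    decide
  let dv : P1 → F := fun a => if a = 0 then 1 else -1
  have hres : res (r : Matrix P2 P2 F) = Matrix.diagonal dv := by
    ext i j
    rw [res_eq, hrv, Matrix.neg_apply, Matrix.neg_apply, Frm.pm_apply, Frm.pm_apply, Matrix.diagonal_apply]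
    rcases p1_cases i with rfl | rfl | rfl <;> rcases p1_cases j with rfl | rfl | rfl <;>
      simp (decide := true) [dv, Equiv.swap_apply_def, Prod.ext_iff]
  have hrX : resU r hrj ∈ X := ⟨mem_specialLinear.2 (by
    show (res (r : Matrix P2 P2 F)).det = 1
    rw [hres, Matrix.det_diagonal, show (Finset.univ : Finset P1) = {0, 1, 2} by decide,
      Finset.prod_insert (by decide), Finset.prod_insert (by decide), Finset.prod_singleton]
    simp [dv, show (1 : P1) ≠ 0 by decide, show (2 : P1) ≠ 0 by decide]), r, hrM, hrj, rfl⟩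
  have hbig : specialLinear P1 F ≤ X := by
    refine (C.three_cases hp hmod X (fun x hx => hx.1) hX).resolve_left fun hN => ?_
    obtain ⟨c, w, hw⟩ := hN _ hrX b0
    have hcube := C.S0.coeff_cube hw
    have e := mul_eq_of_cj hw
    rw [show ((resU r hrj : GL P1 F) : Matrix P1 P1 F) = Matrix.diagonal dv from hres, smul_mul_assoc] at e
    have e' := congrFun (congrFun e 1) 0
    rw [Matrix.diagonal_mul, Matrix.smul_apply, Matrix.mul_diagonal, smul_eq_mul] at e'
    simp only [Frm.E_apply, b0, S0_d, zero_mul, mul_zero, Frm.χ_zero, zero_add, dv,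
      if_neg (show (1 : P1) ≠ 0 by decide), if_true, mul_one] at e'
    split_ifs at e' with hh
    · have hc : c = -1 := by linear_combination -e'
      rw [hc] at hcube
      exact two_ne hp hmod (by linear_combination -hcube)
    · simp at e'
  -- elements trivial on the symmetric part
  let L : Subgroup (GL P1 F) :=
    { carrier := {x | ∃ h ∈ O.M, ∃ hh : JC h, resU h hh = x ∧
        (h : Matrix P2 P2 F) * (1 + (jM : GL P2 F)) = 1 + (jM : GL P2 F)}
      mul_mem' := by
        rintro _ _ ⟨h, hm, hh, rfl, h1⟩ ⟨h', hm', hh', rfl, h1'⟩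
        exact ⟨h * h', mul_mem hm hm', hh.mul hh', resU_mul hh hh', by
          rw [Units.val_mul, mul_assoc, h1', h1]⟩
      one_mem' := ⟨1, one_mem _, jC_one, Units.ext res_one, by rw [Units.val_one, one_mul]⟩
      inv_mem' := by
        rintro _ ⟨h, hm, hh, rfl, h1⟩
        refine ⟨h⁻¹, inv_mem hm, hh.inv, Units.ext rfl, ?_⟩
        conv_lhs => rw [← h1, Units.inv_mul_cancel_left] }
  have hLn : ∀ x ∈ specialLinear P1 F, ∀ y ∈ L, x * y * x⁻¹ ∈ L := by
    rintro x hx _ ⟨h, hm, hh, rfl, h1⟩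
    obtain ⟨-, g, hg, hgj, rfl⟩ := hbig hx
    refine ⟨g * h * g⁻¹, mul_mem (mul_mem hg hm) (inv_mem hg), (hgj.mul hh).mul hgj.inv,
      Units.ext (res_conj hgj hh), ?_⟩
    have hcomm : ∀ {k : GL P2 F}, JC k →
        (k : Matrix P2 P2 F) * (1 + (jM : GL P2 F)) = (1 + (jM : GL P2 F) : Matrix P2 P2 F) * k := fun {k} hk => by
      rw [mul_add, add_mul, mul_one, one_mul, ← Units.val_mul, ← Units.val_mul, hk]
    rw [Units.val_mul, Units.val_mul, mul_assoc, hcomm hgj.inv, ← mul_assoc, mul_assoc (g : Matrix P2 P2 F), h1,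
      hcomm hgj, mul_assoc, Units.mul_inv, mul_one]
  -- the commutator with the label shift
  let b : GL P2 F := C.S.u vb
  have hbj : JC b := C.jC_u rfl
  have hr6 : (r : Matrix P2 P2 F) * (1 + (jM : GL P2 F)) = -(1 + (jM : GL P2 F) : Matrix P2 P2 F) := by
    rw [hrv, neg_mul, neg_inj, mul_add, mul_one]
    ext x y
    rw [Matrix.add_apply, Matrix.add_apply, ← Units.val_mul, jM, ← Frm.pm_mul, Frm.pm_apply, Frm.pm_apply,
      Frm.pm_apply, Matrix.one_apply]
    revert x y
    have key : ∀ x y : P2, ((x = Equiv.swap ((1, 0) : P2) (2, 0) y ↔ x = y) ∧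
        (x = (Equiv.swap ((1, 0) : P2) (2, 0) * jσ) y ↔ x = jσ y)) ∨
        ((x = Equiv.swap ((1, 0) : P2) (2, 0) y ↔ x = jσ y) ∧
        (x = (Equiv.swap ((1, 0) : P2) (2, 0) * jσ) y ↔ x = y)) := by decide
    intro x y
    rcases key x y with ⟨k1, k2⟩ | ⟨k1, k2⟩
    · simp only [k1, k2]
    · simp only [k1, k2]; exact add_comm _ _
  have hrr : r * r = 1 := by rw [← sp_mul, Equiv.swap_mul_self, sp_one]
  let d3 : P1 → F := fun a => if a = 2 then 1 else -1
  obtain ⟨x3, hx3, hxv⟩ : ∃ x ∈ L, (x : Matrix P1 P1 F) = Matrix.diagonal d3 := by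
    refine ⟨resU (r * b * r⁻¹ * b⁻¹) (((hrj.mul hbj).mul hrj.inv).mul hbj.inv), ⟨r * b * r⁻¹ * b⁻¹,
      mul_mem (mul_mem (mul_mem hrM (O.u_mem _)) (inv_mem hrM)) (inv_mem (O.u_mem _)), _, rfl, ?_⟩, ?_⟩
    · have hcomm : ∀ {k : GL P2 F}, JC k →
          (k : Matrix P2 P2 F) * (1 + (jM : GL P2 F)) = (1 + (jM : GL P2 F) : Matrix P2 P2 F) * k := fun {k} hk => by
        rw [mul_add, add_mul, mul_one, one_mul, ← Units.val_mul, ← Units.val_mul, hk]
      rw [inv_eq_of_mul_eq_one_right hrr, Units.val_mul, Units.val_mul, Units.val_mul, mul_assoc, hcomm hbj.inv,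
        ← mul_assoc, mul_assoc ((r : Matrix P2 P2 F) * b), hr6, mul_neg, mul_assoc (r : Matrix P2 P2 F), hcomm hbj,
        neg_mul, mul_assoc, mul_assoc, Units.mul_inv, mul_one, hr6, neg_neg]
    · show res ((r * b * r⁻¹ * b⁻¹ : GL P2 F) : Matrix P2 P2 F) = _
      rw [res_gl_mul _ hbj.inv, res_gl_mul _ hrj.inv, res_gl_mul _ hbj, inv_eq_of_mul_eq_one_right hrr, hres,
        show b = C.S.u vb from rfl, C.u_plane (v := vb) rfl, ← map_inv, res_kr, res_kr, Frm.u_inv_val, Frm.u_val]
      show Matrix.diagonal dv * C.S0.E b0 * Matrix.diagonal dv * (C.S0.χ (C.S0.d b0.2 b0.1) • C.S0.E (-b0)) = _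
      rw [show C.S0.d b0.2 b0.1 = 0 from rfl, Frm.χ_zero, one_smul]
      ext x y
      rw [Matrix.mul_apply, Finset.sum_eq_single (y + -1)]
      · rw [Matrix.mul_diagonal, Matrix.diagonal_mul, Frm.E_apply, Frm.E_apply, Matrix.diagonal_apply]
        simp only [b0, Prod.fst_neg, Prod.snd_neg, neg_zero, S0_d, zero_mul, Frm.χ_zero, if_true, mul_one]
        rcases p1_cases x with rfl | rfl | rfl <;> rcases p1_cases y with rfl | rfl | rfl <;> simp (decide := true) [dv, d3]
      · intro z _ hz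
        rw [Frm.E_apply (v := -b0), if_neg (fun e => hz (by rw [e]; rfl)), mul_zero]
      · simp
  have hpat : ∀ i j : P1, i ≠ j → ∃ n : P1,
      (i - n = 2 ∧ j - n ≠ 2) ∨ (i - n ≠ 2 ∧ j - n = 2) := by decide
  have hTL : ∀ (i j : P1) (hij : i ≠ j) (c : F),
      Matrix.SpecialLinearGroup.toGL (Matrix.SpecialLinearGroup.transvection hij c) ∈ L := by
    intro i j hij c
    obtain ⟨n, hn⟩ := hpat i j hij
    let dn : P1 → F := fun a => d3 (a - n)
    obtain ⟨D, hD, hDv⟩ : ∃ D ∈ L, (D : Matrix P1 P1 F) = Matrix.diagonal dn := by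
      obtain ⟨p, hp⟩ : ∃ p, p = C.S0.u ((n, 0) : P1 × P1) := ⟨_, rfl⟩
      refine ⟨p * x3 * p⁻¹, hLn _ (hp ▸ mem_specialLinear.2 (C.det_E0 _)) _ hx3, ?_⟩
      rw [← cj_coe, hxv, hp]
      refine cj_eq_of_mul ?_
      ext a b
      rw [Frm.u_val, Matrix.mul_diagonal, Matrix.diagonal_mul, Frm.E_apply]
      simp only [S0_d, zero_mul, Frm.χ_zero]
      split_ifs with h
      · simp [dn, h]
      · simp
    have hneg : dn i = -dn j ∧ dn j * dn j = 1 := by
      rcases hn with ⟨h1, h2⟩ | ⟨h1, h2⟩ <;> simp [dn, d3, h1, h2]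
    obtain ⟨t, ht⟩ : ∃ t, t = Matrix.SpecialLinearGroup.toGL (Matrix.SpecialLinearGroup.transvection hij (-c / 2)) :=
      ⟨_, rfl⟩
    have hts : t ∈ specialLinear P1 F :=
      ht ▸ mem_specialLinear.2 (Matrix.SpecialLinearGroup.transvection hij (-c / 2)).2
    have hm : D * (t * D⁻¹ * t⁻¹) ∈ L := mul_mem hD (hLn _ hts _ (inv_mem hD))
    have e : D * t = t⁻¹ * D := by
      rw [ht, ← map_inv, Matrix.SpecialLinearGroup.transvection_inv]
      refine Units.ext ?_
      rw [Units.val_mul, Units.val_mul, hDv]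
      ext a b
      show ((Matrix.diagonal dn : Matrix P1 P1 F) * Matrix.transvection i j (-c / 2)) a b =
        (Matrix.transvection i j (-(-c / 2)) * Matrix.diagonal dn) a b
      rw [Matrix.diagonal_mul, Matrix.mul_diagonal, Matrix.transvection, Matrix.transvection, Matrix.add_apply,
        Matrix.add_apply, Matrix.one_apply, Matrix.single_apply, Matrix.single_apply]
      by_cases hab : a = b
      · subst hab
        have : ¬(i = a ∧ j = a) := fun h => hij (h.1.trans h.2.symm)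
        simp [this, mul_comm]
      · by_cases hij' : i = a ∧ j = b
        · obtain ⟨rfl, rfl⟩ := hij'
          simp [hij, hneg.1]; ring
        · simp [hab, hij']
    have e2 : D * (t * D⁻¹ * t⁻¹) = t⁻¹ * t⁻¹ := by
      rw [show D * (t * D⁻¹ * t⁻¹) = (D * t) * D⁻¹ * t⁻¹ by group, e]; group
    rw [e2, ht, ← map_inv, ← map_mul, Matrix.SpecialLinearGroup.transvection_inv,
      ← Matrix.SpecialLinearGroup.transvection_add hij] at hm
    convert hm using 3
    have h2 := two_ne (F := F) hp hmod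
    field_simp
    ring
  intro i j hij c
  obtain ⟨h, hm, hh, hres', h6⟩ := hTL i j hij (c * 2)
  have hresv : res (h : Matrix P2 P2 F) = Matrix.transvection i j (c * 2) := congrArg Units.val hres'
  let a : P2 → F := c • (Pi.single ((1, i) : P2) (1 : F) - Pi.single ((2, i) : P2) 1)
  let φ : P2 → F := Pi.single ((1, j) : P2) (1 : F) - Pi.single ((2, j) : P2) 1
  have hdot : φ ⬝ᵥ a = 0 := by
    simp [φ, a, Prod.ext_iff, hij, Ne.symm hij, sub_dotProduct, single_dotProduct, Pi.single_apply]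
  refine ⟨hdot, ?_⟩
  have hWW : Wm F * (Wm F)ᵀ = 1 - ((jM : GL P2 F) : Matrix P2 P2 F) := by
    ext ⟨k, t⟩ ⟨l, s⟩
    rw [Matrix.mul_apply, Matrix.sub_apply, Matrix.one_apply, jM, Frm.pm_apply,
      Finset.sum_eq_single t (fun i _ hi => by simp [Wm, Prod.ext_iff, Ne.symm hi]) (by simp)]
    simp only [Wm, Matrix.transpose_apply, Matrix.of_apply, Prod.ext_iff, jσ, Equiv.prodCongr_apply, Prod.map,
      Equiv.neg_apply, Equiv.coe_refl, id]
    rcases p1_cases k with rfl | rfl | rfl <;> rcases p1_cases l with rfl | rfl | rfl <;>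
      by_cases hts : t = s <;>
      simp (decide := true) [hts, eq_comm (a := s)]
  have hval : (h : Matrix P2 P2 F) = (tvec a φ hdot : Matrix P2 P2 F) := by
    rw [tvec_val]
    obtain ⟨D, hD⟩ : ∃ D, D = (h : Matrix P2 P2 F) - 1 := ⟨_, rfl⟩
    have h1 : D * (1 + (jM : GL P2 F)) = 0 := by rw [hD, sub_mul, one_mul, h6, sub_self]
    have h2 : D * (1 - ((jM : GL P2 F) : Matrix P2 P2 F)) = (2 : F) • vecMulVec a φ := by
      rw [← hWW, hD, ← Matrix.mul_assoc, Matrix.sub_mul, Matrix.one_mul, mul_Wm hh, hresv]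
      rw [Matrix.transvection, Matrix.mul_add, Matrix.mul_one, add_sub_cancel_left]
      ext x y
      rw [Matrix.mul_apply, Finset.sum_eq_single j (fun k _ hk => by
        rw [Matrix.mul_apply, Finset.sum_eq_zero fun l _ => by simp [Ne.symm hk], zero_mul]) (by simp),
        Matrix.mul_apply, Finset.sum_eq_single i (fun k _ hk => by simp [Ne.symm hk]) (by simp),
        Matrix.single_apply_same, Matrix.smul_apply, vecMulVec_apply]
      simp only [Wm, Matrix.of_apply, Matrix.transpose_apply, a, φ, Pi.smul_apply, Pi.sub_apply, Pi.single_apply,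
        smul_eq_mul]
      have h12 : ∀ t : P1, ((1 : P1), t) ≠ ((2 : P1), t) := fun t e => absurd (congrArg Prod.fst e) (by simp; decide)
      by_cases hx : x = (1, i) <;> by_cases hx' : x = (2, i) <;> by_cases hy : y = (1, j) <;>
        by_cases hy' : y = (2, j) <;> simp [hx, hx', hy, hy', h12, (h12 _).symm] <;>
        first | ring | exact absurd (hx.symm.trans hx') (h12 _) | exact absurd (hy.symm.trans hy') (h12 _)
    have h3 : (2 : F) • D = (2 : F) • vecMulVec a φ := by
      rw [← h2, two_smul, mul_sub, mul_one]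
      rw [mul_add, mul_one] at h1
      linear_combination (norm := abel) h1
    have := smul_right_injective (Matrix P2 P2 F) (two_ne (F := F) hp hmod) h3
    rw [← this, hD]; abel
  have e : tvec a φ hdot = h := (Units.ext hval).symm
  show tvec a φ hdot ∈ O.M
  rw [e]; exact hm

theorem hasTv_scale {a φ : P2 → F} {s t : F} (hst : t * s = 1)
    (h : HasTv O.M (s • a) (t • φ)) : HasTv O.M a φ := by
  obtain ⟨hd, hm⟩ := h
  have hd' : φ ⬝ᵥ a = 0 := by
    rw [dotProduct_smul, smul_dotProduct, smul_smul, smul_eq_mul, mul_comm s, hst, one_mul] at hd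
    exact hd
  refine ⟨hd', ?_⟩
  have : tvec a φ hd' = tvec (s • a) (t • φ) hd := Units.ext (by
    rw [tvec_val, tvec_val, vecMulVec_smul, smul_vecMulVec, smul_smul, hst, one_smul])
  rw [this]; exact hm

theorem sl_le_of_cube (hp : (Fintype.card F).Prime) (hmod : Fintype.card F % 3 = 1) (hy : C.cube ∈ O.M) : specialLinear P2 F ≤ O.M := by
  refine specialLinear_le_of_elementary fun Q S hQS c => ?_
  have hfour : ∀ P Q R S : P2, P ≠ Q → P ≠ R → P ≠ S → Q ≠ R → Q ≠ S → R ≠ S → ∀ c : F,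
      HasTv O.M (c • (Pi.single P (1 : F) - Pi.single Q 1)) (Pi.single R (1 : F) - Pi.single S 1) := by
    intro P Q R S h1 h2 h3 h4 h5 h6 c
    obtain ⟨σ, hσ⟩ := exists_perm_mapping ![((1, 0) : P2), (2, 0), (1, 1), (2, 1)] ![P, Q, R, S] (by decide) (by
      intro a b e; fin_cases a <;> fin_cases b <;> simp_all)
    have h := (O.jC_conj_block hp hmod hy 0 1 (by decide) c).conj (O.sp_mem_all hy σ)
    obtain ⟨ε, hε⟩ : ∃ ε : F, ε = ((Equiv.Perm.sign σ : ℤ) : F) := ⟨_, rfl⟩
    have hεε : ε * ε = 1 := by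
      rw [hε]; rcases Int.units_eq_one_or (Equiv.Perm.sign σ) with e | e <;> simp [e]
    have hinv : (((sp σ)⁻¹ : GL P2 F) : Matrix P2 P2 F) = ε • (Frm.pm (F := F) σ⁻¹ : Matrix P2 P2 F) := by
      rw [show (sp σ : GL P2 F)⁻¹ = sp σ⁻¹ from inv_eq_of_mul_eq_one_right (by rw [← sp_mul, mul_inv_cancel, sp_one]),
        sp_val, Equiv.Perm.sign_inv, hε]
    have e1 : ∀ v : P2 → F, (sp (F := F) σ : Matrix P2 P2 F) *ᵥ v = ε • fun x => v (σ.symm x) := fun v => by
      rw [sp_val, ← hε, Matrix.smul_mulVec]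
      congr 1
      funext x
      rw [Matrix.mulVec, dotProduct, Finset.sum_eq_single (σ.symm x)]
      · simp [Frm.pm_apply]
      · intro y _ hy'
        rw [Frm.pm_apply, if_neg (fun e => hy' (by rw [e, Equiv.symm_apply_apply])), zero_mul]
      · simp
    have e2 : ∀ v : P2 → F, v ᵥ* (((sp σ)⁻¹ : GL P2 F) : Matrix P2 P2 F) = ε • fun x => v (σ.symm x) := fun v => by
      rw [hinv, Matrix.vecMul_smul]
      congr 1
      funext x
      rw [Matrix.vecMul, dotProduct, Finset.sum_eq_single (σ.symm x)]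
      · simp [Frm.pm_apply, Equiv.Perm.inv_def]
      · intro y _ hy'
        rw [Frm.pm_apply, if_neg (fun e => hy' (by rw [e, Equiv.Perm.inv_def])), mul_zero]
      · simp
    rw [e1, e2] at h
    have h' := O.hasTv_scale hεε h
    have hs : ∀ A : P2, (fun x => (Pi.single A (1 : F) : P2 → F) (σ.symm x)) = Pi.single (σ A) 1 := fun A => by
      funext x
      simp [Pi.single_apply, Equiv.symm_apply_eq]
    have p0 : σ ((1, 0) : P2) = P := hσ 0
    have p1' : σ ((2, 0) : P2) = Q := hσ 1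
    have p2' : σ ((1, 1) : P2) = R := hσ 2
    have p3' : σ ((2, 1) : P2) = S := hσ 3
    convert h' using 1
    · funext x
      show c * _ = c * ((Pi.single ((1, 0) : P2) (1 : F) : P2 → F) (σ.symm x) - (Pi.single ((2, 0) : P2) (1 : F) : P2 → F) (σ.symm x))
      rw [congrFun (hs _) x, congrFun (hs _) x, p0, p1']
      rfl
    · funext x
      show _ = (Pi.single ((1, 1) : P2) (1 : F) : P2 → F) (σ.symm x) - (Pi.single ((2, 1) : P2) (1 : F) : P2 → F) (σ.symm x)
      rw [congrFun (hs _) x, congrFun (hs _) x, p2', p3']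
      rfl
  have hω : C.ω ≠ 1 := C.prim.ne_one (by norm_num)
  have hdg : ∀ {a φ : P2 → F}, HasTv O.M a φ → ∀ (f : P2 → ZMod 3), C.S.dg f ∈ O.M →
      HasTv O.M (fun x => C.S.χ (f x) * a x) (fun x => φ x * C.S.χ (-f x)) := fun {a φ} h f hf => by
    have h' := h.conj hf
    rw [Frm.dg_inv, Frm.dg_val, Frm.dg_val] at h'
    convert h' using 1 <;> funext x <;> simp [Matrix.mulVec_diagonal, Matrix.vecMul_diagonal]
  obtain ⟨P, R, X, hP, hR, hX⟩ : ∃ P R X : P2, (P ≠ Q ∧ P ≠ S) ∧ (R ≠ Q ∧ R ≠ S ∧ R ≠ P) ∧ (X ≠ Q ∧ X ≠ S ∧ X ≠ P ∧ X ≠ R) := by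
    have key : ∀ s : Finset P2, s.card < 9 → ∃ z, z ∉ s := fun s hs => by
      by_contra hcon
      push Not at hcon
      rw [Finset.eq_univ_of_forall hcon, Finset.card_univ] at hs
      exact absurd hs (by decide)
    obtain ⟨P, hP⟩ := key {Q, S} (lt_of_le_of_lt Finset.card_le_two (by norm_num))
    obtain ⟨R, hR⟩ := key {Q, S, P} (lt_of_le_of_lt Finset.card_le_three (by norm_num))
    obtain ⟨X, hX⟩ := key {Q, S, P, R} (lt_of_le_of_lt Finset.card_le_four (by norm_num))
    simp only [Finset.mem_insert, Finset.mem_singleton, not_or] at hP hR hX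
    exact ⟨P, R, X, hP, hR, hX⟩
  have hcentre : ∀ c : F, HasTv O.M (c • (Pi.single Q (1 : F) : P2 → F)) (Pi.single R (1 : F) - Pi.single S 1) := by
    intro c
    have hA := hfour P Q R S hP.1 hR.2.2.symm hP.2 hR.1.symm hQS hR.2.1 (c / (C.ω - 1))
    have hB := hfour Q P R S hP.1.symm hR.1.symm hQS hR.2.2.symm hP.2 hR.2.1 (c / (C.ω - 1))
    have hB' := hdg hB _ (O.two_points hy (Ne.symm hX.1) 1)
    have h := hA.add_center (b := fun x => C.S.χ (1 * ((if x = Q then 1 else 0) - (if x = X then 1 else 0))) *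
      ((c / (C.ω - 1)) • (Pi.single Q (1 : F) - Pi.single P 1) : P2 → F) x) (φ := _) (by
      convert hB' using 1
      funext x
      by_cases h1 : x = R
      · subst h1; simp [hR.1, hR.2.1, Ne.symm hX.2.2.2, Frm.χ_zero]
      by_cases h2 : x = S
      · subst h2; simp [h1, Ne.symm hQS, Ne.symm hX.2.1, Frm.χ_zero]
      simp [h1, h2])
    convert h using 1
    funext x
    simp only [Pi.add_apply, Pi.smul_apply, Pi.sub_apply, smul_eq_mul]
    by_cases h1 : x = Q
    · subst h1
      simp [Pi.single_apply, hP.1.symm, Ne.symm hX.1, C.S.χ_one]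
      have : C.ω - 1 ≠ 0 := sub_ne_zero.2 hω
      show c = -(c / (C.ω - 1)) + C.ω * (c / (C.ω - 1))
      field_simp
      ring
    by_cases h2 : x = P
    · subst h2
      simp [Pi.single_apply, h1, Ne.symm hX.2.2.1, Frm.χ_zero]
    simp [Pi.single_apply, h1, h2]
  have h21 : C.ω ^ 2 - 1 ≠ 0 := sub_ne_zero.2 (C.prim.pow_ne_one_of_pos_of_lt (by norm_num) (by norm_num))
  have hA := hcentre ((C.ω ^ 2 - 1)⁻¹ * c)
  have hB := hdg (hcentre (-((C.ω ^ 2 - 1)⁻¹ * c))) _ (O.two_points hy (Ne.symm hX.2.1) 1)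
  have hB2 : HasTv O.M (((C.ω ^ 2 - 1)⁻¹ * c) • (Pi.single Q (1 : F) : P2 → F))
      (fun x => -((Pi.single R (1 : F) - Pi.single S 1 : P2 → F) x * C.S.χ (-(1 * ((if x = S then 1 else 0) - (if x = X then 1 else 0)))))) := by
    refine O.hasTv_scale (s := -1) (t := -1) (by norm_num) ?_
    convert hB using 1
    · funext x
      by_cases h1 : x = Q
      · subst h1; simp [hQS, Ne.symm hX.1, Frm.χ_zero]
      simp [Pi.single_apply, h1]
    · funext x; simp
  refine O.hasTv_scale (s := (C.ω ^ 2 - 1)⁻¹) (t := C.ω ^ 2 - 1) (mul_inv_cancel₀ h21) ?_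
  have hχ : C.S.χ (-1) = C.ω ^ 2 := rfl
  convert hA.add_axis hB2 using 1
  · rw [smul_smul]
  · funext x
    simp only [Pi.add_apply, Pi.smul_apply, Pi.sub_apply, smul_eq_mul]
    by_cases h1 : x = R
    · subst h1; simp [hR.2.1, Ne.symm hX.2.2.2, Frm.χ_zero]
    by_cases h2 : x = S
    · subst h2; simp [h1, Ne.symm hX.2.1, hχ]; ring
    simp [h1, h2]

end Over

end CfsgLib.Geo.HeisNine
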