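import Cfsg.Agent.Geo.HeisNine.Data
import Cfsg.Agent.Geo.HeisNine.Global
import Cfsg.Agent.Geo.HeisNine.Top

/-!
The normaliser of an absolutely irreducible symplectic-type 3-group in dimension nine is maximal in the special
linear group over a prime field with cube roots of unity.
-/

set_option autoImplicit false
set_option linter.unusedSectionVars false
set_option linter.style.haveILetI false

namespace CfsgLib.Geo.HeisNine

open Matrix Cfsg Cfsg.Geo CfsgLib.Geo

namespace Ctx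

variable {F : Type*} [Field F] [Fintype F] (C : Ctx F)

theorem conj_mem_RS {g : GL P2 F} (hg : C.S.Norm g) {x : GL P2 F} (hx : x ∈ C.RS) : g * x * g⁻¹ ∈ C.RS := by
  obtain ⟨k, v, hxv⟩ := hx
  obtain ⟨c, w, hw⟩ := hg v
  obtain ⟨a, rfl⟩ := C.S.exists_χ (C.S.coeff_cube hw)
  refine ⟨k + a, w, ?_⟩
  rw [← cj_coe, hxv, cj_smul, hw, smul_smul, ← Frm.χ_add]

theorem mem_normalizer_RS {g : GL P2 F} : g ∈ subgroupNormalizer C.RS ↔ C.S.Norm g := by
  rw [subgroupNormalizer, Subgroup.mem_normalizer_iff]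
  constructor
  · intro h x
    obtain ⟨k, v, hv⟩ := (h (C.S.u x)).1 (C.u_mem_RS x)
    exact ⟨C.S.χ k, v, by rw [← Frm.u_val, cj_coe, hv]⟩
  · intro hg x
    refine ⟨fun hx => C.conj_mem_RS hg hx, fun hx => ?_⟩
    have h1 := C.conj_mem_RS (hg.inv C.S) hx
    simpa [mul_assoc] using h1

theorem exists_sl_not_norm : ∃ g ∈ specialLinear P2 F, ¬ C.S.Norm g := by
  obtain ⟨P, hP⟩ : ∃ P : P2, P = (0, 0) := ⟨_, rfl⟩
  obtain ⟨Q, hQ⟩ : ∃ Q : P2, Q = (0, 1) := ⟨_, rfl⟩
  have hPQ : P ≠ Q := by rw [hP, hQ]; decide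
  refine ⟨Matrix.SpecialLinearGroup.toGL (Matrix.SpecialLinearGroup.transvection hPQ (1 : F)),
    mem_specialLinear.2 (Matrix.SpecialLinearGroup.transvection hPQ (1 : F)).2, fun hN => ?_⟩
  obtain ⟨c, w, hw⟩ := hN va
  have hD : C.S.E va = Matrix.diagonal fun y : P2 => C.S0.χ y.2 := by
    ext x y
    rw [C.E_va, Matrix.diagonal_apply]
    split_ifs with h <;> simp [h]
  have hv : cj (Matrix.SpecialLinearGroup.toGL (Matrix.SpecialLinearGroup.transvection hPQ (1 : F))) (C.S.E va) =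
      (1 + Matrix.single P Q (1 : F)) * (Matrix.diagonal fun y : P2 => C.S0.χ y.2) * (1 + Matrix.single P Q (-1 : F)) := by
    rw [hD, cj, ← map_inv, Matrix.SpecialLinearGroup.transvection_inv]
    rfl
  rw [hv] at hw
  have hQ2 : C.S0.χ Q.2 = C.ω := by rw [hQ]; exact C.S0.χ_one
  have hP2 : C.S0.χ P.2 = 1 := by rw [hP]; exact C.S0.χ_zero
  have h1 := congrFun (congrFun hw Q) Q
  have h2 := congrFun (congrFun hw P) Q
  change (Matrix.transvection P Q (1 : F) * Matrix.diagonal (fun y : P2 => C.S0.χ y.2) *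
    Matrix.transvection P Q (-1 : F)) Q Q = _ at h1
  change (Matrix.transvection P Q (1 : F) * Matrix.diagonal (fun y : P2 => C.S0.χ y.2) *
    Matrix.transvection P Q (-1 : F)) P Q = _ at h2
  rw [Matrix.mul_transvection_apply_same, Matrix.transvection_mul_apply_of_ne _ _ _ _ (Ne.symm hPQ),
    Matrix.transvection_mul_apply_of_ne _ _ _ _ (Ne.symm hPQ)] at h1
  rw [Matrix.mul_transvection_apply_same, Matrix.transvection_mul_apply_same,
    Matrix.transvection_mul_apply_same] at h2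
  simp [Matrix.smul_apply, Matrix.diagonal_apply, hPQ, Ne.symm hPQ, hQ2, hP2] at h1 h2
  by_cases hw0 : w.1 = 0
  · rw [Frm.E_apply, if_neg (show ¬ P = Q + w.1 by rw [hw0, add_zero]; exact hPQ), mul_zero] at h2
    exact C.prim.ne_one (by norm_num) (by linear_combination h2)
  · rw [Frm.E_apply, if_neg (fun e' => hw0 (left_eq_add.1 e')), mul_zero] at h1
    exact C.prim.ne_zero (by norm_num) h1

theorem std_maximal (hp : (Fintype.card F).Prime) (hmod : Fintype.card F % 3 = 1) :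
    IsMaximalIn (specialLinear P2 F) (subgroupNormalizer C.RS ⊓ specialLinear P2 F) := by
  refine isMaximalIn_of_key (fun hle => ?_) fun M hM hMI hMX => ?_
  · obtain ⟨g, hg, hn⟩ := C.exists_sl_not_norm
    exact hn (C.mem_normalizer_RS.1 (hle hg))
  · let O : Over C := ⟨M, hMI, fun g hg hn => hM ⟨C.mem_normalizer_RS.2 hn, hg⟩⟩
    by_cases hy : C.cube ∈ M
    · exact O.sl_le_of_cube hp hmod hy
    · exact absurd (fun g hg => C.mem_normalizer_RS.2 (O.all_norm hy hg)) hMX

end Ctx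

/-- The normaliser of a symplectic-type 3-group in dimension nine is maximal. -/
theorem symplectic_maximal {ι : Type} [Fintype ι] [DecidableEq ι] {F : Type*} [Field F] [Fintype F]
    (hι : Fintype.card ι = 9) {p : ℕ} (hp : p.Prime) (hF : Fintype.card F = p) (hmod : p % 3 = 1)
    {R : Subgroup (GL ι F)} (h : IsLinearSymplecticTypeData 3 R) :
    IsMaximalIn (specialLinear ι F) (subgroupNormalizer R ⊓ specialLinear ι F) := by
  obtain ⟨ω, hω⟩ : ∃ ω : F, IsPrimitiveRoot ω 3 := by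
    classical
    obtain ⟨u, hu⟩ := IsCyclic.exists_ofOrder_eq_natCard (α := Fˣ)
    rw [Nat.card_units, Nat.card_eq_fintype_card, hF] at hu
    have hd : 3 ∣ p - 1 := by omega
    have hu' : IsPrimitiveRoot (u : F) (p - 1) := by
      rw [IsPrimitiveRoot.coe_units_iff, ← hu]; exact IsPrimitiveRoot.orderOf u
    exact ⟨_, hu'.pow (by have := hp.two_le; omega) (Nat.eq_mul_of_div_eq_left hd rfl)⟩
  obtain ⟨C, -⟩ : ∃ C : Ctx F, C.ω = ω := ⟨⟨ω, hω⟩, rfl⟩
  obtain ⟨e, P, hR⟩ := exists_conj C hι h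
  obtain ⟨ψ, hψ⟩ : ∃ ψ, ψ = Tensor.glTransport (F := F) e P := ⟨_, rfl⟩
  have h0 := Tensor.isMaximalIn_map ψ (C.std_maximal (hF ▸ hp) (by rw [hF]; exact hmod))
  have hN : (subgroupNormalizer C.RS).map ψ.toMonoidHom = subgroupNormalizer R := by
    rw [subgroupNormalizer, subgroupNormalizer, Subgroup.map_equiv_normalizer_eq, hψ, hR]
  rwa [Subgroup.map_inf_eq _ _ ψ.toMonoidHom ψ.injective, hN, hψ, Tensor.specialLinear_map_glTransport] at h0

end CfsgLib.Geo.HeisNine
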