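import Cfsg.Agent.Geo.HeisNine.Res
import Cfsg.Agent.Solvable.CoprimeAbelian
import Mathlib.GroupTheory.Transfer
import Mathlib.GroupTheory.Nilpotent

/-!
Without the cubic phase, an element of an overgroup commuting with the reflection normalises the monomials:
transfer on the kernel of the restriction.
-/

set_option autoImplicit false
set_option linter.unusedSectionVars false
set_option linter.style.haveILetI false

namespace CfsgLib.Geo.HeisNine

open Matrix Cfsg.Geo CfsgLib.Geo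
open scoped Kronecker Pointwise

variable {F : Type*} [Field F] [Fintype F]

/-- The projective group. -/
abbrev PQ (F : Type*) [Field F] := GL P2 F ⧸ Subgroup.center (GL P2 F)

/-- The projection. -/
abbrev toQ : GL P2 F →* PQ F := QuotientGroup.mk' _

theorem f3_zero : (3 • fun x : P2 => (1 : ZMod 3) - x.1 * x.1) = 0 := by decide

theorem idx_three : ∀ a : ZMod 3 × (P1 × P1), 3 • a = 0 := by decide

namespace Ctx

variable (C : Ctx F)

theorem mem_center_of_scalar {g : GL P2 F} {c : F} (h : (g : Matrix P2 P2 F) = c • 1) :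
    g ∈ Subgroup.center (GL P2 F) :=
  Subgroup.mem_center_iff.2 fun y => Units.ext (by rw [Units.val_mul, Units.val_mul, h]; simp)

theorem toQ_eq_iff (C : Ctx F) {g h : GL P2 F} :
    toQ g = toQ h ↔ ∃ c : F, (g : Matrix P2 P2 F) = c • (h : Matrix P2 P2 F) := by
  constructor
  · intro e
    have hc := Subgroup.mem_center_iff.1 (QuotientGroup.eq.1 e.symm)
    obtain ⟨c, hc'⟩ := C.S.eq_scalar (g := h⁻¹ * g) fun x => by
      refine cj_eq_of_mul ?_
      rw [← Frm.u_val, ← Units.val_mul, ← Units.val_mul, hc]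
    refine ⟨c, ?_⟩
    rw [show g = h * (h⁻¹ * g) by group, Units.val_mul, hc', mul_smul_comm, mul_one]
  · rintro ⟨c, hc⟩
    refine (QuotientGroup.eq.2 (mem_center_of_scalar (c := c) ?_)).symm
    rw [Units.val_mul, hc, mul_smul_comm, Units.inv_mul]

/-- The phase of the kernel. -/
def s3 : GL P2 F := C.S.dg fun x => 1 - x.1 * x.1

theorem s3_eq : C.s3 = kl (C.S0.dg fun k => 1 - k * k) := by
  rw [← bd_const, bd_dg]
  rfl

theorem s3_jC : JC C.s3 := by
  refine Units.ext ?_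
  ext x y
  rw [Units.val_mul, Units.val_mul, s3, Frm.dg_val, Matrix.diagonal_mul, Matrix.mul_diagonal, jM, Frm.pm_apply]
  by_cases h : x = jσ y
  · subst h
    rw [if_pos rfl, mul_one, one_mul]
    congr 1
    show 1 - (-y.1) * (-y.1) = 1 - y.1 * y.1
    ring
  · rw [if_neg h, mul_zero, zero_mul]

theorem s3_res : res (C.s3 : Matrix P2 P2 F) = 1 := by
  ext i j
  rw [res_eq, s3, Frm.dg_val, Matrix.one_apply, Matrix.diagonal_apply, Matrix.diagonal_apply]
  by_cases h : i = j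
  · subst h
    simp [Prod.ext_iff, show (1 : P1) ≠ 2 by decide, Frm.χ_zero]
  · simp [Prod.ext_iff, h]

theorem s3_fix {v : V} (hv : p1 v = 0) : cj C.s3 (C.S.E v) = C.S.E v := by
  have h1 : v.1.1 = 0 := congrArg Prod.fst hv
  rw [s3, C.S.cj_dg (l := 0) (c := 0) fun x => by simp [h1, Frm.d_zero_left]]
  simp [Frm.χ_zero]

theorem s3_comm {v : V} (hv : p1 v = 0) : Commute C.s3 (C.S.u v) :=
  Units.ext (by rw [Units.val_mul, Units.val_mul, Frm.u_val]; exact mul_eq_of_cj (C.s3_fix hv))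

theorem dg_f_pow (n : ℕ) : C.s3 ^ n = C.S.dg (n • fun x => 1 - x.1 * x.1) := dg_pow _ _ _

theorem trace_s3_pow (e : ℕ) : Matrix.trace ((C.s3 ^ e : GL P2 F) : Matrix P2 P2 F) = 3 * C.ω ^ e + 6 := by
  rw [C.s3_eq, ← map_pow, dg_pow, kl_val, Matrix.trace_kronecker, Matrix.trace_one, Frm.dg_val,
    Matrix.trace_diagonal, show (Finset.univ : Finset P1) = {0, 1, 2} by decide,
    Finset.sum_insert (by decide), Finset.sum_insert (by decide), Finset.sum_singleton]
  simp only [Pi.smul_apply, show (1 : P1) - 0 * 0 = 1 by decide, show (1 : P1) - 1 * 1 = 0 by decide,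
    show (1 : P1) - 2 * 2 = 0 by decide, smul_zero, Frm.χ_zero, nsmul_one, ZMod.card]
  rw [show C.S0.χ (e : ZMod 3) = C.ω ^ e by
    rw [Frm.χ, ZMod.val_natCast]; exact (pow_eq_pow_mod e C.S0.ω_cube).symm]
  push_cast
  ring

end Ctx

namespace Over

open Ctx

variable {C : Ctx F} (O : Over C)

/-- The kernel of the restriction. -/
def K6 : Subgroup (GL P2 F) where
  carrier := {g | g ∈ O.M ∧ ∃ _ : JC g, res (g : Matrix P2 P2 F) = 1}
  mul_mem' := fun {g h} hg hh => ⟨mul_mem hg.1 hh.1, hg.2.1.mul hh.2.1, by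
    rw [res_gl_mul g hh.2.1, hg.2.2, hh.2.2, one_mul]⟩
  one_mem' := ⟨one_mem _, jC_one, by rw [Units.val_one, res_one]⟩
  inv_mem' := fun {g} hg => ⟨inv_mem hg.1, hg.2.1.inv, by
    have h := res_gl_mul g⁻¹ hg.2.1
    rw [inv_mul_cancel, Units.val_one, res_one, hg.2.2, mul_one] at h
    exact h.symm⟩

theorem s3_mem : C.s3 ∈ O.K6 :=
  ⟨O.quad_mem (-1) 0 0 0 0 1 fun x => by ring, C.s3_jC, C.s3_res⟩

theorem conj_plane_mem {k : GL P2 F} (hk : k ∈ O.K6) {v : V} (hv : p1 v = 0) :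
    C.S.u v * k * (C.S.u v)⁻¹ ∈ O.K6 := by
  obtain ⟨hm, hj, hr⟩ := hk
  refine ⟨mul_mem (mul_mem (O.u_mem v) hm) (inv_mem (O.u_mem v)), ((C.jC_u hv).mul hj).mul (C.jC_u hv).inv, ?_⟩
  rw [res_conj (C.jC_u hv) hj]
  have : resU k hj = 1 := Units.ext hr
  rw [this, mul_one, mul_inv_cancel, Units.val_one]

theorem plane_fix {k : GL P2 F} (hk : k ∈ O.K6) (hN : C.S.Norm k) {v : V} (hv : p1 v = 0) :
    cj k (C.S.E v) = C.S.E v := by
  obtain ⟨-, hj, hr⟩ := hk
  obtain ⟨c, w, hw⟩ := hN v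
  have hw1 := C.plane_image hj hv hw
  have e := congrArg res hw
  rw [← Frm.u_val, cj_coe, res_conj hj (C.jC_u hv), show resU k hj = 1 from Units.ext hr, one_mul, inv_one, mul_one,
    res_smul, C.res_E hw1] at e
  have e2 : (1 : F) • C.S0.E (p2 v) = c • C.S0.E (p2 w) := by
    rw [one_smul, ← C.res_E hv]; exact e
  obtain ⟨h1, h2⟩ := C.S0.smul_E_eq e2 one_ne_zero
  rw [hw, ← h2, one_smul, ← pr_eta w, hw1, ← h1, ← hv, pr_eta]

theorem exists_kl {k : GL P2 F} (hk : k ∈ O.K6) (hN : C.S.Norm k) : ∃ h : GL P1 F, k = kl h := by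
  obtain ⟨G, rfl⟩ := C.exists_bd (O.plane_fix hk hN (v := va) rfl)
  have hb := O.plane_fix hk hN (v := vb) rfl
  have e1 : C.S.u vb = Frm.pm (F := F) (Equiv.prodCongr (Equiv.refl P1) (Equiv.addRight (1 : P1))) := by
    refine Units.ext ?_
    ext x y
    rw [Frm.u_val, Frm.E_apply, Frm.pm_apply]
    have : (Equiv.prodCongr (Equiv.refl P1) (Equiv.addRight (1 : P1))) y = y + vb.1 := by
      simp [vb, pr, b0, Prod.ext_iff]
    rw [this, show vb.2 = 0 from rfl, Frm.d_zero_left, Frm.χ_zero]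
  have hG : ∀ i, G (i + 1) = G i := by
    intro i
    have h2 := mul_eq_of_cj hb
    rw [← Frm.u_val, e1] at h2
    refine Units.ext ?_
    ext a b
    have h3 := congrFun (congrFun h2 (a, i + 1)) (b, i)
    rw [Matrix.mul_apply, Matrix.mul_apply, Finset.sum_eq_single ((b, i + 1) : P2),
      Finset.sum_eq_single ((a, i) : P2)] at h3
    · simpa [Frm.pm_apply, bd_apply] using h3
    · intro z _ hz
      rw [Frm.pm_apply, if_neg, zero_mul]
      intro e
      apply hz
      have h1 := congrArg Prod.fst e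
      have h2 := congrArg Prod.snd e
      simp at h1 h2
      exact Prod.ext h1.symm h2.symm
    · simp
    · intro z _ hz
      rw [Frm.pm_apply, if_neg, mul_zero]
      exact fun e => hz e
    · simp
  refine ⟨G 0, ?_⟩
  rw [← bd_const]
  congr 1
  funext i
  rcases p1_cases i with rfl | rfl | rfl
  · rfl
  · simpa using hG 0
  · rw [show (2 : P1) = 0 + 1 + 1 by decide, hG, hG]

theorem mem_sylow_part {k : GL P2 F} (hk : k ∈ O.K6) (hN : C.S.Norm k) (hs : k * C.s3 = C.s3 * k)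
    {n : ℕ} (hn : Odd n) (hkn : k ^ n = 1) : ∃ e : ℕ, k = C.s3 ^ e := by
  obtain ⟨h, rfl⟩ := O.exists_kl hk hN
  have hk0 := hk
  obtain ⟨-, hj, hr⟩ := hk
  have hval : ∀ a b : P1, (h : Matrix P1 P1 F) a b = (kl h : Matrix P2 P2 F) (a, 0) (b, 0) := fun a b => by
    rw [kl_val, Matrix.kroneckerMap_apply]; simp
  have hsym : ∀ a b : P1, (h : Matrix P1 P1 F) (-a) (-b) = (h : Matrix P1 P1 F) a b := fun a b => by
    rw [hval, hval]
    exact hj.apply (a, 0) (b, 0)
  have hres : (h : Matrix P1 P1 F) 1 1 - (h : Matrix P1 P1 F) 1 2 = 1 := by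
    have e := congrFun (congrFun hr 0) 0
    rw [res_eq, ← hval, ← hval, Matrix.one_apply_eq] at e
    exact e
  have hcomm : ∀ a b : P1, (h : Matrix P1 P1 F) a b * C.S0.χ (1 - b * b) =
      C.S0.χ (1 - a * a) * (h : Matrix P1 P1 F) a b := fun a b => by
    have e : ((kl h * C.s3 : GL P2 F) : Matrix P2 P2 F) (a, 0) (b, 0) = ((C.s3 * kl h : GL P2 F) : Matrix P2 P2 F) (a, 0) (b, 0) := by
      rw [hs]
    rw [Units.val_mul, Units.val_mul, s3, Frm.dg_val, Matrix.mul_diagonal, Matrix.diagonal_mul, ← hval, C.χ_S] at e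
    exact e
  have hz : ∀ a b : P1, 1 - b * b ≠ 1 - a * a → (h : Matrix P1 P1 F) a b = 0 := fun a b hne => by
    have e : (h : Matrix P1 P1 F) a b * (C.S0.χ (1 - b * b) - C.S0.χ (1 - a * a)) = 0 := by
      linear_combination hcomm a b
    exact (mul_eq_zero.1 e).resolve_right (sub_ne_zero.2 fun e => hne (C.S0.χ_inj e))
  have h01 : (h : Matrix P1 P1 F) 0 1 = 0 := hz _ _ (by decide)
  have h02 : (h : Matrix P1 P1 F) 0 2 = 0 := hz _ _ (by decide)
  have h10 : (h : Matrix P1 P1 F) 1 0 = 0 := hz _ _ (by decide)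
  have h20 : (h : Matrix P1 P1 F) 2 0 = 0 := hz _ _ (by decide)
  have h22 : (h : Matrix P1 P1 F) 2 2 = (h : Matrix P1 P1 F) 1 1 := hsym 1 1
  have h21 : (h : Matrix P1 P1 F) 2 1 = (h : Matrix P1 P1 F) 1 2 := hsym 1 2
  have hh0 : C.S0.Norm h := by
    intro v
    obtain ⟨c, w, hw⟩ := hN (pr v 0)
    have hw2 : p2 w = 0 := by
      by_contra hne
      obtain ⟨y, hy⟩ := C.S0.B_nd hne
      obtain ⟨π, hπ⟩ := hN.exists_perm
      have h1 : π (pr v 0) = w := hπ.eq_of_cj C.S hw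
      have h2 : π (pr 0 y) = pr 0 y := hπ.eq_of_cj C.S (c := 1) (by
        rw [O.plane_fix hk0 hN (v := pr 0 y) rfl, one_smul])
      have := hπ.symp C.S (pr v 0) (pr 0 y)
      rw [h1, h2, S_B_split, S_B_split] at this
      simp only [p1_pr, p2_pr, Frm.B_zero, Frm.B_zero_left, zero_add, add_zero] at this
      exact hy this
    refine ⟨c, p1 w, ?_⟩
    rw [E_kron, E_kron, hw2, p1_pr, p2_pr, Frm.E_zero] at hw
    have e : cj h (C.S0.E v) ⊗ₖ (1 : Matrix P1 P1 F) = (c • C.S0.E (p1 w)) ⊗ₖ 1 := by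
      rw [Matrix.smul_kronecker, ← hw, cj, cj, kl_val]
      show _ = ((h : Matrix P1 P1 F) ⊗ₖ (1 : Matrix P1 P1 F)) * _ * (((h⁻¹ : GL P1 F) : Matrix P1 P1 F) ⊗ₖ 1)
      rw [← Matrix.mul_kronecker_mul, ← Matrix.mul_kronecker_mul, one_mul, one_mul]
    ext a b
    have := congrFun (congrFun e (a, 0)) (b, 0)
    simpa [Matrix.kroneckerMap_apply] using this
  obtain ⟨ρ, hρ⟩ := hh0.exists_perm
  -- the image of the phase index is plus or minus itself
  have hρa : (ρ a0).1 = 0 := by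
    have hx : h * C.x0 = C.x0 * h := by
      refine Units.ext ?_
      ext a b
      rw [Units.val_mul, Units.val_mul, x0, Frm.dg_val, Matrix.mul_diagonal, Matrix.diagonal_mul]
      by_cases he : 1 - b * b = 1 - a * a
      · rw [show 2 * (b * b) = 2 * (a * a) by rw [sub_right_inj.1 he], mul_comm]
      · rw [hz a b he, zero_mul, mul_zero]
    have hc := (hρ.comp C.S0 C.perm_x0)
    rw [hx] at hc
    have e := congrFun (hc.unique C.S0 (C.perm_x0.comp C.S0 hρ)) b0
    simp only [Function.comp_apply] at e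
    have hb : ((b0.1, b0.2 + b0.1) : P1 × P1) = b0 + a0 := rfl
    rw [hb, hρ.add C.S0] at e
    have := congrArg Prod.fst e
    simpa using this
  obtain ⟨c, hc⟩ := hρ a0
  have hA : ∀ a b : P1, (h : Matrix P1 P1 F) a b * C.S0.χ b =
      c * (C.S0.χ ((ρ a0).2 * a) * (h : Matrix P1 P1 F) a b) := fun a b => by
    have e := congrFun (congrFun (mul_eq_of_cj hc) a) b
    rw [smul_mul_assoc, Matrix.smul_apply, smul_eq_mul, Matrix.mul_apply, Matrix.mul_apply,
      Finset.sum_eq_single b, Finset.sum_eq_single a] at e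
    · simpa [Frm.E_apply, S0_d, show (ρ ((0, 1) : P1 × P1)).1 = 0 from hρa, a0] using e
    · intro x _ hx; simp [Frm.E_apply, hρa, Ne.symm hx]
    · simp
    · intro x _ hx; simp [Frm.E_apply, a0, hx]
    · simp
  have h00 : (h : Matrix P1 P1 F) 0 0 ≠ 0 := by
    intro e
    have hd : (h : Matrix P1 P1 F).det = 0 := Matrix.det_eq_zero_of_column_eq_zero (0 : P1) fun i => by
      rcases p1_cases i with rfl | rfl | rfl
      exacts [e, h10, h20]
    exact ((Matrix.isUnit_iff_isUnit_det _).1 h.isUnit).ne_zero hd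
  have hc1 : c = 1 := by
    have e := hA 0 0
    rw [mul_zero, Frm.χ_zero, mul_one, one_mul] at e
    exact mul_right_cancel₀ h00 (by linear_combination -e)
  subst hc1
  have hd2 : (ρ a0).2 ≠ 0 := fun e => by
    have hne : ρ a0 ≠ 0 := fun e' => absurd (hρ.injective C.S0 (e'.trans (hρ.zero C.S0).symm)) (by decide)
    exact hne (Prod.ext hρa e)
  rcases (show ∀ m : P1, m ≠ 0 → m = 1 ∨ m = 2 by decide) _ hd2 with hm | hm
  · -- diagonal case
    have h12 : (h : Matrix P1 P1 F) 1 2 = 0 := by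
      have e := hA 1 2
      rw [hm, one_mul] at e
      have e' : (h : Matrix P1 P1 F) 1 2 * (C.S0.χ 2 - C.S0.χ (1 * 1)) = 0 := by linear_combination e
      exact (mul_eq_zero.1 e').resolve_right (sub_ne_zero.2 fun e => absurd (C.S0.χ_inj e) (by decide))
    have h11 : (h : Matrix P1 P1 F) 1 1 = 1 := by linear_combination hres + h12
    obtain ⟨c', hc'⟩ := hρ b0
    have hs1 : (ρ b0).1 = 1 := by
      have := hρ.symp C.S0 a0 b0
      rw [S0_B, S0_B, hρa, hm] at this
      simpa [a0, b0] using this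
    have hB : ∀ b : P1, (h : Matrix P1 P1 F) (b + 1) (b + 1) =
        c' * (C.S0.χ ((ρ b0).2 * b) * (h : Matrix P1 P1 F) b b) := fun b => by
      have e := congrFun (congrFun (mul_eq_of_cj hc') (b + 1)) b
      rw [smul_mul_assoc, Matrix.smul_apply, smul_eq_mul, Matrix.mul_apply, Matrix.mul_apply,
        Finset.sum_eq_single (b + 1), Finset.sum_eq_single b] at e
      · simpa [Frm.E_apply, S0_d, show (ρ ((1, 0) : P1 × P1)).1 = 1 from hs1, b0, Frm.χ_zero] using e
      · intro x _ hx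
        have : ¬ b + 1 = x + 1 := fun e => hx (add_right_cancel e).symm
        simp [Frm.E_apply, hs1, this]
      · simp
      · intro x _ hx; simp [Frm.E_apply, b0, hx]
      · simp
    obtain ⟨l, hl⟩ : ∃ l, l = (ρ b0).2 := ⟨_, rfl⟩
    have e0 := hB 0
    have e1 := hB 1
    rw [show (0 : P1) + 1 = 1 by decide, mul_zero, Frm.χ_zero, one_mul, h11] at e0
    rw [show (1 : P1) + 1 = 2 by decide, mul_one, h22, h11, mul_one, ← hl] at e1
    have hα : (h : Matrix P1 P1 F) 0 0 = C.S0.χ l := by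
      have hne : c' ≠ 0 := C.S0.coeff_ne hc'
      exact mul_left_cancel₀ hne (e0.symm.trans e1)
    refine ⟨l.val, ?_⟩
    rw [C.s3_eq, ← map_pow, dg_pow]
    congr 1
    refine Units.ext ?_
    ext a b
    rw [Frm.dg_val, Matrix.diagonal_apply]
    have hl' : ∀ k : P1, (l.val • fun k : P1 => 1 - k * k) k = l * (1 - k * k) := fun k => by
      rw [Pi.smul_apply, nsmul_eq_mul, ZMod.natCast_zmod_val]
    rcases p1_cases a with rfl | rfl | rfl <;> rcases p1_cases b with rfl | rfl | rfl <;>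
      simp [hl', hα, h01, h02, h10, h11, h12, h20, h21, h22, Frm.χ_zero,
        show (1 : P1) - 2 * 2 = 0 by decide, show (1 : P1) ≠ 2 by decide, show (2 : P1) ≠ 1 by decide,
        show (2 : P1) ≠ 0 by decide, show (0 : P1) ≠ 2 by decide]
  · -- the exchanged case has even order
    exfalso
    have h11 : (h : Matrix P1 P1 F) 1 1 = 0 := by
      have e := hA 1 1
      rw [hm] at e
      have e' : (h : Matrix P1 P1 F) 1 1 * (C.S0.χ 1 - C.S0.χ (2 * 1)) = 0 := by linear_combination e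
      exact (mul_eq_zero.1 e').resolve_right (sub_ne_zero.2 fun e => absurd (C.S0.χ_inj e) (by decide))
    have h12 : (h : Matrix P1 P1 F) 1 2 = -1 := by linear_combination h11 - hres
    let e1 : P1 → F := Pi.single 1 1
    have hsq : (h : Matrix P1 P1 F) *ᵥ ((h : Matrix P1 P1 F) *ᵥ e1) = e1 := by
      funext a
      simp only [e1, Matrix.mulVec_single_one]
      rw [Matrix.mulVec, dotProduct, show (Finset.univ : Finset P1) = {0, 1, 2} by decide,
        Finset.sum_insert (by decide), Finset.sum_insert (by decide), Finset.sum_singleton]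
      rcases p1_cases a with rfl | rfl | rfl <;>
        simp [Matrix.col_apply, h01, h02, h10, h11, h12, h20, h21, h22, Pi.single_apply,
          show (2 : P1) ≠ 1 by decide]
    have hpow : ∀ m : ℕ, ((h ^ (2 * m + 1) : GL P1 F) : Matrix P1 P1 F) *ᵥ e1 = (h : Matrix P1 P1 F) *ᵥ e1 := fun m => by
      induction m with
      | zero => rw [Nat.mul_zero, zero_add, pow_one]
      | succ m ih =>
        rw [show 2 * (m + 1) + 1 = (2 * m + 1) + 1 + 1 by ring, pow_succ, pow_succ, Units.val_mul, Units.val_mul,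
          mul_assoc, ← Matrix.mulVec_mulVec, ← Matrix.mulVec_mulVec, hsq, ih]
    have hh1 : h ^ n = 1 := by
      refine Units.ext ?_
      ext a b
      have e0 : (kl (h ^ n) : Matrix P2 P2 F) = 1 := by rw [map_pow, hkn, Units.val_one]
      have e := congrFun (congrFun e0 (a, 0)) (b, 0)
      rw [kl_val, Matrix.kroneckerMap_apply] at e
      simpa [Matrix.one_apply] using e
    obtain ⟨m, rfl⟩ := hn
    have e := congrFun (hpow m) 1
    rw [hh1, Units.val_one, Matrix.one_mulVec] at e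
    simp [e1, h11] at e

theorem K6_le_norm (hy : C.cube ∉ O.M) {k : GL P2 F} (hk : k ∈ O.K6) : C.S.Norm k := by
  haveI : Fact (Nat.Prime 3) := ⟨Nat.prime_three⟩
  -- the plane
  let φ : Multiplicative (P1 × P1) →* PQ F :=
    { toFun := fun v => toQ (C.S.u (pr 0 v.toAdd))
      map_one' := by
        rw [← map_one (toQ (F := F))]
        congr 1
        exact Units.ext C.S.E_zero
      map_mul' := fun v w => by
        rw [← map_mul, C.toQ_eq_iff]
        refine ⟨(C.S.χ (C.S.d (pr 0 v.toAdd).2 (pr 0 w.toAdd).1))⁻¹, ?_⟩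
        rw [Units.val_mul, Frm.u_val, Frm.u_val, Frm.u_val, Frm.E_mul, smul_smul, inv_mul_cancel₀ (C.S.χ_ne _), one_smul]
        rfl }
  let B := O.K6.map toQ
  have hnorm : φ.range ≤ Subgroup.normalizer (B : Set (PQ F)) := by
    rintro _ ⟨v, rfl⟩
    refine Subgroup.mem_normalizer_iff.2 fun x => ?_
    have key : ∀ w : P1 × P1, ∀ x ∈ B, toQ (C.S.u (pr 0 w)) * x * (toQ (C.S.u (pr 0 w)))⁻¹ ∈ B := by
      rintro w _ ⟨g, hg, rfl⟩
      rw [← map_mul, ← map_inv, ← map_mul]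
      exact Subgroup.mem_map_of_mem _ (O.conj_plane_mem hg rfl)
    refine ⟨key _ x, fun hx => ?_⟩
    have h1 : (φ v)⁻¹ = toQ (C.S.u (pr 0 (-v.toAdd))) := by rw [← map_inv]; rfl
    have h2 := key (-v.toAdd) _ hx
    rw [← h1, inv_inv] at h2
    simpa [mul_assoc] using h2
  let G := B ⊔ φ.range
  have hdec : ∀ x ∈ G, ∃ g ∈ O.K6, ∃ v : P1 × P1, x = toQ g * φ (Multiplicative.ofAdd v) := by
    intro x hx
    have : (x : PQ F) ∈ ((B : Set (PQ F)) * (φ.range : Set (PQ F))) := by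
      rwa [← Subgroup.coe_mul_of_right_le_normalizer_left B φ.range hnorm]
    obtain ⟨a, ⟨g, hg, rfl⟩, b, ⟨v, rfl⟩, rfl⟩ := this
    exact ⟨g, hg, v.toAdd, rfl⟩
  -- the abelian three-group
  let ψ : Multiplicative (ZMod 3 × (P1 × P1)) →* PQ F :=
    { toFun := fun v => toQ (C.s3 ^ v.toAdd.1.val) * φ (Multiplicative.ofAdd v.toAdd.2)
      map_one' := by
        show toQ (C.s3 ^ (0 : ZMod 3).val) * φ 1 = 1
        rw [show (0 : ZMod 3).val = 0 from rfl, pow_zero, map_one, map_one, one_mul]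
      map_mul' := fun v w => by
        have hc : ∀ (e : ℕ) (y : P1 × P1), toQ (C.s3 ^ e) * φ (Multiplicative.ofAdd y) =
            φ (Multiplicative.ofAdd y) * toQ (C.s3 ^ e) := fun e y => by
          show toQ (C.s3 ^ e) * toQ (C.S.u (pr 0 y)) = toQ (C.S.u (pr 0 y)) * toQ (C.s3 ^ e)
          rw [← map_mul, ← map_mul, ((C.s3_comm (v := pr 0 y) rfl).pow_left e).eq]
        have he : C.s3 ^ (v.toAdd.1 + w.toAdd.1).val = C.s3 ^ v.toAdd.1.val * C.s3 ^ w.toAdd.1.val := by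
          have h3 : C.s3 ^ 3 = 1 := by
            rw [C.dg_f_pow, f3_zero, Frm.dg_zero]
          rw [← pow_add, ZMod.val_add, ← pow_eq_pow_mod _ h3]
        show toQ (C.s3 ^ (v.toAdd.1 + w.toAdd.1).val) * φ (Multiplicative.ofAdd v.toAdd.2 * Multiplicative.ofAdd w.toAdd.2) = _
        rw [he, map_mul, map_mul, mul_assoc, ← mul_assoc (toQ (C.s3 ^ w.toAdd.1.val)), hc w.toAdd.1.val v.toAdd.2]
        simp only [mul_assoc] }
  have hψG : ψ.range ≤ G := by
    rintro _ ⟨v, rfl⟩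
    exact mul_mem (Subgroup.mem_sup_left (Subgroup.mem_map_of_mem _ (pow_mem O.s3_mem _)))
      (Subgroup.mem_sup_right ⟨_, rfl⟩)
  have hφψ : ∀ y, φ (Multiplicative.ofAdd y) = ψ (Multiplicative.ofAdd (0, y)) := fun y => by
    show _ = toQ (C.s3 ^ (0 : ZMod 3).val) * _
    rw [show (0 : ZMod 3).val = 0 from rfl, pow_zero, map_one, one_mul]
    rfl
  have hψpow : ∀ v, ψ v ^ 3 = 1 := fun v => by
    rw [← map_pow]
    convert map_one ψ
    apply Multiplicative.toAdd.injective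
    show 3 • v.toAdd = 0
    exact idx_three v.toAdd
  have hψN : ∀ {g : GL P2 F}, toQ g ∈ ψ.range → C.S.Norm g := by
    rintro g ⟨v, hv⟩
    have hv' : toQ g = toQ (C.s3 ^ v.toAdd.1.val * C.S.u (pr 0 v.toAdd.2)) := by rw [← hv, map_mul]; rfl
    obtain ⟨c, hc⟩ := C.toQ_eq_iff.1 hv'
    refine C.S.norm_of_smul hc (Frm.Norm.mul C.S ?_ (C.S.norm_u _))
    rw [C.dg_f_pow]
    refine C.S.norm_dg ?_
    have h := (C.quad_isQuad (-(v.toAdd.1)) 0 0 0 0 v.toAdd.1)
    convert h using 1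
    funext x
    rw [Pi.smul_apply, nsmul_eq_mul, ZMod.natCast_zmod_val, show ((0 : ZMod 3), (0 : ZMod 3)) = (0 : P2) from rfl,
      Frm.d_zero_left]
    ring
  -- elements of the kernel normalising it centralise it
  have hcent : ∀ g ∈ O.K6, (∀ y ∈ ψ.range, toQ g * y * (toQ g)⁻¹ ∈ ψ.range) →
      C.S.Norm g ∧ g * C.s3 = C.s3 * g ∧ (∀ y ∈ ψ.range, toQ g * y = y * toQ g) := by
    intro g hg hgn
    have h1 := hgn (φ (Multiplicative.ofAdd a0)) ⟨_, (hφψ a0).symm⟩
    have hN : C.S.Norm g := O.norm_of_conj hy hg.1 (w := va) (by decide) (hψN (g := g * C.S.u va * g⁻¹) (by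
      rw [map_mul, map_mul, map_inv]; exact h1))
    have hpl : ∀ {v : V}, p1 v = 0 → g * C.S.u v = C.S.u v * g := fun hv => Units.ext (by
      rw [Units.val_mul, Units.val_mul, Frm.u_val]; exact mul_eq_of_cj (O.plane_fix hg hN hv))
    obtain ⟨v, hv⟩ := hgn (toQ C.s3) ⟨Multiplicative.ofAdd (1, 0), by
      show toQ (C.s3 ^ (1 : ZMod 3).val) * φ 1 = _
      rw [ZMod.val_one, pow_one, map_one, mul_one]⟩
    have hv' : toQ (g * C.s3 * g⁻¹) = toQ (C.s3 ^ v.toAdd.1.val * C.S.u (pr 0 v.toAdd.2)) := by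
      rw [map_mul, map_mul, map_inv, ← hv, map_mul]; rfl
    obtain ⟨c, hc⟩ := C.toQ_eq_iff.1 hv'
    obtain ⟨hsm, hsj, hsr⟩ : C.s3 ^ v.toAdd.1.val ∈ O.K6 := pow_mem O.s3_mem _
    obtain ⟨-, hgj', hgr'⟩ : g * C.s3 * g⁻¹ ∈ O.K6 := mul_mem (mul_mem hg O.s3_mem) (inv_mem hg)
    have e := congrArg res hc
    rw [res_smul, res_gl_mul _ (C.jC_u rfl), hsr, one_mul, hgr', Frm.u_val, C.res_E rfl, p2_pr, ← C.S0.E_zero] at e
    obtain ⟨hv2, hc1⟩ := C.S0.smul_E_eq (c := 1) ((one_smul F _).trans e) one_ne_zero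
    rw [← hv2, ← hc1, one_smul, show pr 0 (0 : P1 × P1) = 0 from rfl, show C.S.u 0 = 1 from Units.ext C.S.E_zero,
      mul_one] at hc
    have hconj : g * C.s3 * g⁻¹ = C.s3 ^ v.toAdd.1.val := Units.ext hc
    have htr : Matrix.trace ((C.s3 ^ v.toAdd.1.val : GL P2 F) : Matrix P2 P2 F) = Matrix.trace (C.s3 : Matrix P2 P2 F) := by
      rw [← hconj, Units.val_mul, Matrix.trace_mul_comm, ← Units.val_mul, inv_mul_cancel_left]
    have hval := C.trace_s3_pow
    rw [hval, show C.s3 = C.s3 ^ 1 from (pow_one _).symm, hval] at htr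
    have hv1 : v.toAdd.1.val = 1 :=
      C.prim.pow_inj (ZMod.val_lt _) (by norm_num) (mul_left_cancel₀ C.three (add_right_cancel htr))
    rw [hv1, pow_one, mul_inv_eq_iff_eq_mul] at hconj
    refine ⟨hN, hconj, ?_⟩
    rintro _ ⟨w, rfl⟩
    show toQ g * (toQ (C.s3 ^ w.toAdd.1.val) * toQ (C.S.u (pr 0 w.toAdd.2))) = _ * toQ g
    have hcom : Commute g (C.s3 ^ w.toAdd.1.val * C.S.u (pr 0 w.toAdd.2)) :=
      ((show Commute g C.s3 from hconj).pow_right _).mul_right (hpl rfl)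
    rw [← map_mul, ← map_mul, hcom.eq, map_mul, map_mul]
    rfl
  -- Sylow
  let P0 : Subgroup G := ψ.range.subgroupOf G
  have hP0 : IsPGroup 3 P0 := fun x => ⟨1, Subtype.ext (Subtype.ext (by
    obtain ⟨v, hv⟩ := x.2
    show ((x : G) : PQ F) ^ (3 ^ 1) = 1
    rw [pow_one, show ((x : G) : PQ F) = ψ v from hv.symm, hψpow]))⟩
  obtain ⟨P, hP⟩ := hP0.exists_le_sylow
  have hnp : ∀ x : G, x ∈ Subgroup.normalizer (P0 : Set G) → ∃ g ∈ O.K6, ∃ y ∈ ψ.range,
      (x : PQ F) = toQ g * y ∧ C.S.Norm g ∧ g * C.s3 = C.s3 * g ∧ (∀ z ∈ ψ.range, toQ g * z = z * toQ g) := by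
    intro x hx
    obtain ⟨g, hg, v, hv⟩ := hdec _ x.2
    have hy' : φ (Multiplicative.ofAdd v) ∈ ψ.range := ⟨_, (hφψ v).symm⟩
    refine ⟨g, hg, _, hy', hv, hcent g hg fun y hy => ?_⟩
    obtain ⟨w, hw⟩ : ∃ w, w = φ (Multiplicative.ofAdd v) := ⟨_, rfl⟩
    rw [← hw] at hv hy'
    have h1 : toQ g * y * (toQ g)⁻¹ = (x : PQ F) * (w⁻¹ * y * w) * (x : PQ F)⁻¹ := by rw [hv]; group
    rw [h1]
    have hmem : w⁻¹ * y * w ∈ ψ.range := mul_mem (mul_mem (inv_mem hy') hy) hy'
    exact (Subgroup.mem_normalizer_iff.1 hx ⟨_, hψG hmem⟩).1 hmem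
  have hPeq : (P : Subgroup G) = P0 := by
    refine le_antisymm ?_ hP
    by_contra hlt
    haveI : Group.IsNilpotent P := P.2.isNilpotent
    have hne : P0.subgroupOf P < ⊤ := lt_top_iff_ne_top.2 fun h => hlt (Subgroup.subgroupOf_eq_top.1 h)
    obtain ⟨x, hxN, hxn⟩ := SetLike.exists_of_lt (Group.normalizerCondition_of_isNilpotent _ hne)
    have hxN' : (x : G) ∈ Subgroup.normalizer (P0 : Set G) := by
      refine Subgroup.mem_normalizer_iff.2 fun y => ?_
      have h := Subgroup.mem_normalizer_iff.1 hxN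
      constructor
      · intro hy; exact (h ⟨y, hP hy⟩).1 hy
      · intro hy
        have hyP : y ∈ (P : Subgroup G) := by
          have := mul_mem (mul_mem (inv_mem x.2) (hP hy)) x.2
          simpa [mul_assoc] using this
        exact (h ⟨y, hyP⟩).2 hy
    obtain ⟨g, hg, y, hy', hxy, hN, hs, hc⟩ := hnp _ hxN'
    obtain ⟨m, hm⟩ := P.2 x
    have hx1 : ((x : G) : PQ F) ^ 3 ^ m = 1 := congrArg (fun z : P => ((z : G) : PQ F)) hm
    obtain ⟨v, hv⟩ := hy'
    have hg1 : toQ (g ^ 3 ^ (m + 1)) = 1 := by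
      have hgy : toQ g = ((x : G) : PQ F) * y⁻¹ := by rw [hxy, mul_inv_cancel_right]
      have hcm : Commute ((x : G) : PQ F) y⁻¹ := by
        refine Commute.inv_right ?_
        rw [hxy]
        exact (Commute.mul_left (hc y ⟨v, hv⟩) (Commute.refl y))
      rw [map_pow, hgy, hcm.mul_pow, pow_succ, pow_mul, hx1, one_pow, one_mul, mul_comm, pow_mul, inv_pow,
        show y ^ 3 = 1 by rw [← hv, hψpow], inv_one, one_pow]
    obtain ⟨c, hc'⟩ := C.toQ_eq_iff.1 (hg1.trans (map_one toQ).symm)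
    obtain ⟨-, -, hr⟩ : g ^ 3 ^ (m + 1) ∈ O.K6 := pow_mem hg _
    have e := congrArg res hc'
    rw [res_smul, Units.val_one, res_one, hr] at e
    have e1 : c = 1 := by
      have := congrFun (congrFun e 0) 0
      simpa using this.symm
    rw [e1, one_smul] at hc'
    obtain ⟨e', he'⟩ := O.mem_sylow_part hg hN hs (n := 3 ^ (m + 1)) (Odd.pow (by decide)) (Units.ext hc')
    apply hxn
    show (x : G) ∈ P0
    show ((x : G) : PQ F) ∈ ψ.range
    rw [hxy, he', map_pow]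
    have hs3 : toQ C.s3 ∈ ψ.range := ⟨Multiplicative.ofAdd (1, 0), by
      show toQ (C.s3 ^ (1 : ZMod 3).val) * φ 1 = _
      rw [ZMod.val_one, pow_one, map_one, mul_one]⟩
    exact mul_mem (pow_mem hs3 _) ⟨v, hv⟩
  have hPc : Subgroup.normalizer (P : Set G) ≤ Subgroup.centralizer (P : Set G) := by
    intro x hx
    replace hx : x ∈ Subgroup.normalizer (P0 : Set G) := by rw [← hPeq]; exact hx
    obtain ⟨g, -, y, ⟨v, rfl⟩, hxy, -, -, hc⟩ := hnp x hx
    refine Subgroup.mem_centralizer_iff.2 fun z hz => ?_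
    have hz' : z ∈ P0 := by rw [← hPeq]; exact hz
    obtain ⟨w, hw⟩ := hz'
    refine Subtype.ext ?_
    show (z : PQ F) * x = x * z
    rw [show (z : PQ F) = ψ w from hw.symm, hxy, ← mul_assoc, ← hc _ ⟨w, rfl⟩, mul_assoc, mul_assoc,
      ← map_mul ψ, ← map_mul ψ, mul_comm w v]
  obtain ⟨K, hK⟩ : ∃ K, K = (MonoidHom.transferSylow P hPc).ker := ⟨_, rfl⟩
  haveI hKn : K.Normal := hK ▸ MonoidHom.normal_ker _
  have hKP : Subgroup.IsComplement' K (P : Subgroup G) := hK ▸ MonoidHom.ker_transferSylow_isComplement' P hPc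
  have hK3 : ¬ 3 ∣ Nat.card K := hK ▸ MonoidHom.not_dvd_card_ker_transferSylow P hPc
  let A : Subgroup G := φ.range.subgroupOf G
  have hAc : IsMulCommutative A := ⟨⟨fun a b => Subtype.ext (Subtype.ext (by
    obtain ⟨v, hv⟩ := a.2
    obtain ⟨w, hw⟩ := b.2
    show ((a : G) : PQ F) * ((b : G) : PQ F) = ((b : G) : PQ F) * ((a : G) : PQ F)
    rw [show ((a : G) : PQ F) = φ v from hv.symm, show ((b : G) : PQ F) = φ w from hw.symm, ← map_mul, ← map_mul,
      mul_comm]))⟩⟩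
  have hA3 : ∀ a : A, a ^ 3 = 1 := fun a => Subtype.ext (Subtype.ext (by
    obtain ⟨v, hv⟩ := a.2
    show ((a : G) : PQ F) ^ 3 = 1
    rw [show ((a : G) : PQ F) = φ v from hv.symm, show φ v = ψ (Multiplicative.ofAdd (0, v.toAdd)) from hφψ _, hψpow]))
  have hAcard : Nat.card A = 9 := by
    rw [Nat.card_congr (Subgroup.subgroupOfEquivOfLe (le_sup_right : φ.range ≤ G)).toEquiv,
      ← Nat.card_congr (MonoidHom.ofInjective (f := φ) ?_).toEquiv]
    · simp [ZMod.card, Fintype.card_multiplicative]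
    · intro v w e
      obtain ⟨c, hc⟩ := C.toQ_eq_iff.1 (show toQ (C.S.u (pr 0 v.toAdd)) = toQ (C.S.u (pr 0 w.toAdd)) from e)
      rw [Frm.u_val, Frm.u_val] at hc
      have := (C.S.smul_E_eq (c := 1) ((one_smul F _).trans hc) one_ne_zero).1
      exact Multiplicative.toAdd.injective (congrArg p2 this)
  have hAnc : ¬ IsCyclic A := fun h => by
    obtain ⟨a, ha⟩ := IsCyclic.exists_generator (α := A)
    have h1 := Nat.le_of_dvd (by norm_num) (orderOf_dvd_of_pow_eq_one (hA3 a))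
    rw [orderOf_eq_card_of_forall_mem_zpowers ha, hAcard] at h1
    omega
  have hcop : (Nat.card A).Coprime (Nat.card K) := by
    rw [hAcard, show 9 = 3 ^ 2 by norm_num]
    exact Nat.Coprime.pow_left _ ((Nat.Prime.coprime_iff_not_dvd Nat.prime_three).2 hK3)
  -- the complement lies in the kernel
  have hKB : ∀ x ∈ K, ((x : G) : PQ F) ∈ B := by
    intro x hx
    obtain ⟨g, hg, v, hv⟩ := hdec _ x.2
    let B' : Subgroup G := B.subgroupOf G
    haveI : B'.Normal := ⟨fun b hb y => by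
      have hy := y.2
      have hGB : G ≤ Subgroup.normalizer (B : Set (PQ F)) := sup_le Subgroup.le_normalizer hnorm
      exact (Subgroup.mem_normalizer_iff.1 (hGB hy) _).1 hb⟩
    have hn : x ^ Nat.card K = 1 := by
      exact congrArg Subtype.val (pow_card_eq_one' : (⟨x, hx⟩ : K) ^ Nat.card K = 1)
    obtain ⟨y, hy'⟩ : ∃ y : G, (y : PQ F) = φ (Multiplicative.ofAdd v) := ⟨⟨_, Subgroup.mem_sup_right ⟨_, rfl⟩⟩, rfl⟩
    have hxy : (QuotientGroup.mk x : G ⧸ B') = QuotientGroup.mk y := by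
      rw [QuotientGroup.eq_iff_div_mem]
      show ((x / y : G) : PQ F) ∈ B
      rw [Subgroup.coe_div, hv, hy', mul_div_cancel_right]
      exact Subgroup.mem_map_of_mem _ hg
    have h1 : (QuotientGroup.mk y : G ⧸ B') ^ Nat.card K = 1 := by
      rw [← hxy, ← QuotientGroup.mk_pow, hn, QuotientGroup.mk_one]
    have h2 : (QuotientGroup.mk y : G ⧸ B') ^ 3 = 1 := by
      rw [← QuotientGroup.mk_pow, show y ^ 3 = 1 from Subtype.ext (by
        show (y : PQ F) ^ 3 = 1
        rw [hy', hφψ, hψpow]), QuotientGroup.mk_one]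
    have h3 := pow_gcd_eq_one.2 ⟨h2, h1⟩
    rw [((Nat.Prime.coprime_iff_not_dvd Nat.prime_three).2 hK3).gcd_eq_one, pow_one, ← hxy,
      QuotientGroup.eq_one_iff] at h3
    exact h3
  have hgen := CfsgLib.CoprimeAct.generated_by_centralizers (A := A) (K := K) hAnc
    (le_top.trans (Subgroup.normalizer_eq_top_iff.2 hKn).ge) hcop
  let NG : Subgroup G := (C.S.Nm.map toQ).subgroupOf G
  have hKN : K ≤ NG := by
    rw [← hgen]
    refine iSup₂_le fun a ha x hx => ?_
    obtain ⟨⟨v, hv⟩, ha1⟩ := ha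
    obtain ⟨g, hg, hgx⟩ := hKB x hx.1
    have hv0 : pr 0 v.toAdd ≠ 0 := fun e => ha1 (Subtype.ext (by
      show ((a : G) : PQ F) = 1
      rw [show ((a : G) : PQ F) = φ v from hv.symm]
      show toQ (C.S.u (pr 0 v.toAdd)) = 1
      rw [e, show C.S.u 0 = 1 from Units.ext C.S.E_zero, map_one]))
    have hcx := congrArg Subtype.val (Subgroup.mem_centralizer_singleton_iff.1 hx.2)
    have hcx' : toQ (g * C.S.u (pr 0 v.toAdd)) = toQ (C.S.u (pr 0 v.toAdd) * g) := by
      rw [map_mul, map_mul, hgx]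
      rw [show toQ (C.S.u (pr 0 v.toAdd)) = ((a : G) : PQ F) from hv]
      simpa using hcx
    obtain ⟨c, hc⟩ := C.toQ_eq_iff.1 hcx'
    refine ⟨g, O.norm_of_map hy hg.1 hv0 (w := pr 0 v.toAdd) (c := pr 0 v.toAdd) (s := c) ?_, hgx⟩
    refine cj_eq_of_mul ?_
    rw [Units.val_mul, Units.val_mul, Frm.u_val] at hc
    rw [hc, smul_mul_assoc]
  obtain ⟨x, hx⟩ : ∃ x : G, (x : PQ F) = toQ k :=
    ⟨⟨_, Subgroup.mem_sup_left (Subgroup.mem_map_of_mem _ hk)⟩, rfl⟩
  obtain ⟨⟨a, b⟩, hab⟩ := hKP.2 x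
  have hb : ((b : G) : PQ F) ∈ C.S.Nm.map toQ := by
    have hb' : (b : G) ∈ P0 := by rw [← hPeq]; exact b.2
    obtain ⟨g, hg⟩ := QuotientGroup.mk'_surjective (Subgroup.center (GL P2 F)) ((b : G) : PQ F)
    exact ⟨g, hψN (hg ▸ hb'), hg⟩
  obtain ⟨g, hgN, hg⟩ := mul_mem (hKN a.2 : ((a : G) : PQ F) ∈ C.S.Nm.map toQ) hb
  obtain ⟨c, hc⟩ := C.toQ_eq_iff.1 (show toQ k = toQ g by
    rw [hg, ← hx, ← hab]
    rfl)
  exact C.S.norm_of_smul hc hgN

end Over

end CfsgLib.Geo.HeisNine
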