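import Cfsg.Agent.Geo.HeisNine.Kernel
import Cfsg.Agent.Geo.HeisNine.Invol

/-!
Without the cubic phase, an element of an overgroup commuting with the phase of a lifted transvection normalises
the monomials: coprime action and transfer modulo the centre of the centraliser.
-/

set_option autoImplicit false
set_option linter.unusedSectionVars false
set_option linter.style.haveILetI false

namespace CfsgLib.Geo.HeisNine

open Matrix Cfsg.Geo CfsgLib.Geo

variable {F : Type*} [Field F] [Fintype F]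

namespace Over

open Ctx

variable {C : Ctx F} (O : Over C)

/-- The elements fixing the points with vanishing first coordinate. -/
def Kz : Subgroup (GL P2 F) where
  carrier := {g | g ∈ O.M ∧ Fix0 g}
  mul_mem' := fun hg hh => ⟨mul_mem hg.1 hh.1, hg.2.mul hh.2⟩
  one_mem' := ⟨one_mem _, fix0_one⟩
  inv_mem' := fun hg => ⟨inv_mem hg.1, hg.2.inv⟩

/-- Those among them commuting with the reflection. -/
def K0 : Subgroup (GL P2 F) := O.Kz ⊓ Subgroup.centralizer {jM}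

/-- The subgroup they generate by elements of order three. -/
def B3 : Subgroup (GL P2 F) := Subgroup.closure {x | x ∈ O.Kz ∧ x ^ 3 = 1}

theorem B3_le : O.B3 ≤ O.Kz := (Subgroup.closure_le _).2 fun _ h => h.1

theorem jC_of_K0 {g : GL P2 F} (hg : g ∈ O.K0) : JC g :=
  Subgroup.mem_centralizer_singleton_iff.1 hg.2

theorem kz_mem : C.kz ∈ O.Kz :=
  ⟨by rw [C.kz_eq]; exact O.kl_mem C.x0_mem, C.kz_fix⟩

theorem ua_mem : C.S.u ua ∈ O.B3 :=
  Subgroup.subset_closure ⟨⟨O.u_mem _, C.fix0_ua⟩, Units.ext (by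
    rw [Units.val_pow_eq_pow_val, Frm.u_val, Frm.E_cube]; rfl)⟩

theorem conj_plane {g : GL P2 F} {v : V} (hv : p1 v = 0) (hg : g ∈ O.Kz) :
    C.S.u v * g * (C.S.u v)⁻¹ ∈ O.Kz :=
  ⟨mul_mem (mul_mem (O.u_mem v) hg.1) (inv_mem (O.u_mem v)), hg.2.conj (C.plane_Z0 hv)⟩

theorem conj_plane_K0 {g : GL P2 F} {v : V} (hv : p1 v = 0) (hg : g ∈ O.K0) :
    C.S.u v * g * (C.S.u v)⁻¹ ∈ O.K0 :=
  ⟨O.conj_plane hv hg.1,
    Subgroup.mem_centralizer_singleton_iff.2 (((C.jC_u hv).mul (O.jC_of_K0 hg)).mul (C.jC_u hv).inv)⟩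

theorem conj_plane_B3 {g : GL P2 F} {v : V} (hv : p1 v = 0) (hg : g ∈ O.B3) :
    C.S.u v * g * (C.S.u v)⁻¹ ∈ O.B3 := by
  have h : O.B3.map (MulAut.conj (C.S.u v)).toMonoidHom ≤ O.B3 := by
    rw [Over.B3, MonoidHom.map_closure, Subgroup.closure_le]
    rintro _ ⟨x, ⟨hx, hx3⟩, rfl⟩
    refine Subgroup.subset_closure ⟨O.conj_plane hv hx, ?_⟩
    show (C.S.u v * x * (C.S.u v)⁻¹) ^ 3 = 1
    rw [conj_pow, hx3, mul_one, mul_inv_cancel]
  exact h ⟨g, hg, rfl⟩

/-- The centraliser of the phase. -/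
abbrev Cz (C : Ctx F) : Subgroup (GL P2 F) := Subgroup.centralizer {C.kz}

/-- That centraliser modulo its centre. -/
abbrev QZ (C : Ctx F) := Cz C ⧸ Subgroup.center (Cz C)

theorem mem_Cz {g : GL P2 F} (h : (g : Matrix P2 P2 F) * Z0 F = Z0 F * g) : g ∈ Cz C :=
  Subgroup.mem_centralizer_singleton_iff.2 (C.comm_Z0_iff.2 h)

theorem Kz_le : O.Kz ≤ Cz C := fun _ hg => mem_Cz (Ctx.comm_Z0_of_fix hg.2)

theorem plane_mem_Cz (w : P1 × P1) : C.S.u (pr 0 w) ∈ Cz C := mem_Cz (C.plane_Z0 rfl)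

/-- The image of the plane. -/
def planeHom (C : Ctx F) : Multiplicative (P1 × P1) →* QZ C where
  toFun v := QuotientGroup.mk ⟨C.S.u (pr 0 v.toAdd), plane_mem_Cz _⟩
  map_one' := by
    rw [← QuotientGroup.mk_one]
    congr 1
    exact Subtype.ext (Units.ext C.S.E_zero)
  map_mul' v w := by
    rw [← QuotientGroup.mk_mul, QuotientGroup.eq, Subgroup.mem_center_iff]
    intro y
    refine Subtype.ext ?_
    obtain ⟨c, hc⟩ : ∃ c : F, (((C.S.u (pr 0 (v * w).toAdd))⁻¹ * (C.S.u (pr 0 v.toAdd) * C.S.u (pr 0 w.toAdd)) :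
        GL P2 F) : Matrix P2 P2 F) = c • 1 :=
      ⟨C.S.χ (C.S.d (pr 0 v.toAdd).2 (pr 0 w.toAdd).1), by
        rw [Units.val_mul, Units.val_mul (C.S.u (pr 0 v.toAdd)), Frm.u_val (v := pr 0 v.toAdd),
          Frm.u_val (v := pr 0 w.toAdd), Frm.E_mul, mul_smul_comm,
          show pr 0 v.toAdd + pr 0 w.toAdd = pr 0 (v * w).toAdd by rw [toAdd_mul]; simp [pr, Prod.ext_iff],
          ← Frm.u_val, Units.inv_mul]⟩
    refine Units.ext ?_
    simp only [Subgroup.coe_mul, Subgroup.coe_inv, Units.val_mul] at hc ⊢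
    rw [hc]; simp

theorem planeHom_apply (C : Ctx F) (w : P1 × P1) :
    planeHom C (Multiplicative.ofAdd w) = QuotientGroup.mk ⟨C.S.u (pr 0 w), plane_mem_Cz w⟩ := rfl

theorem planeHom_injective (C : Ctx F) : Function.Injective (planeHom C) := by
  rw [← MonoidHom.ker_eq_bot_iff, eq_bot_iff]
  intro v hv
  rw [MonoidHom.mem_ker] at hv
  have hc := Subgroup.mem_center_iff.1 ((QuotientGroup.eq_one_iff _).1 hv)
  rw [Subgroup.mem_bot]
  apply Multiplicative.toAdd.injective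
  by_contra hne
  obtain ⟨y, hy⟩ := C.S0.B_nd (fun e => hne e : v.toAdd ≠ 0)
  have e := congrArg (fun g : Cz C => ((g : GL P2 F) : Matrix P2 P2 F)) (hc ⟨C.S.u (pr 0 y), plane_mem_Cz y⟩)
  simp only [Subgroup.coe_mul, Units.val_mul, Frm.u_val] at e
  rw [C.S.E_comm (pr 0 v.toAdd), C.S.E_mul, smul_smul] at e
  have h := (C.S.smul_E_eq e (C.S.χ_ne _)).2
  have h1 := mul_right_cancel₀ (C.S.χ_ne _) (h.symm.trans (one_mul _).symm)
  rw [← C.S.χ_zero] at h1
  apply hy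
  have hB := C.S.χ_inj h1
  rw [S_B_split] at hB
  simpa [Frm.B_zero_left, p1_pr, p2_pr] using hB

theorem plane_cube (C : Ctx F) (v : Multiplicative (P1 × P1)) : planeHom C v ^ 3 = 1 := by
  rw [← map_pow]
  convert map_one (planeHom C)
  apply Multiplicative.toAdd.injective
  show 3 • v.toAdd = 0
  exact (show ∀ v : P1 × P1, 3 • v = 0 by decide) _

theorem plane_not_cyclic (C : Ctx F) : ¬ IsCyclic (planeHom C).range := fun h => by
  obtain ⟨a, ha⟩ := IsCyclic.exists_generator (α := (planeHom C).range)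
  have h1 := Nat.le_of_dvd (by norm_num) (orderOf_dvd_of_pow_eq_one (G := (planeHom C).range) (x := a) (n := 3)
    (Subtype.ext (by
      obtain ⟨v, hv⟩ := a.2
      show (a : QZ C) ^ 3 = 1
      rw [← hv, plane_cube])))
  rw [orderOf_eq_card_of_forall_mem_zpowers ha,
    ← Nat.card_congr (MonoidHom.ofInjective (planeHom_injective C)).toEquiv] at h1
  simp [ZMod.card, Fintype.card_multiplicative] at h1

theorem plane_comm (C : Ctx F) : IsMulCommutative (planeHom C).range :=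
  ⟨⟨fun a b => Subtype.ext (by
    obtain ⟨v, hv⟩ := a.2
    obtain ⟨w, hw⟩ := b.2
    show (a : QZ C) * b = b * a
    rw [← hv, ← hw, ← map_mul, ← map_mul, mul_comm])⟩⟩

theorem plane_pGroup (C : Ctx F) : IsPGroup 3 (planeHom C).range := fun a => ⟨1, Subtype.ext (by
  obtain ⟨v, hv⟩ := a.2
  show (a : QZ C) ^ 3 ^ 1 = 1
  rw [pow_one, ← hv, plane_cube])⟩

/-- The image of a subgroup of the centraliser. -/
def qimg (C : Ctx F) (K : Subgroup (GL P2 F)) : Subgroup (QZ C) :=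
  (K.subgroupOf (Cz C)).map (QuotientGroup.mk' _)

theorem plane_le_normalizer {K : Subgroup (GL P2 F)}
    (h : ∀ {v : V}, p1 v = 0 → ∀ g ∈ K, C.S.u v * g * (C.S.u v)⁻¹ ∈ K) :
    (planeHom C).range ≤ Subgroup.normalizer (qimg C K : Set (QZ C)) := by
  have key : ∀ w, ∀ x ∈ qimg C K, planeHom C w * x * (planeHom C w)⁻¹ ∈ qimg C K := by
    rintro w _ ⟨g, hg, rfl⟩
    obtain ⟨a, ha⟩ : ∃ a : Cz C, a = ⟨C.S.u (pr 0 w.toAdd), plane_mem_Cz _⟩ := ⟨_, rfl⟩
    have hq : planeHom C w = QuotientGroup.mk' (Subgroup.center (Cz C)) a := by rw [ha]; rfl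
    refine Subgroup.mem_map.2 ⟨a * g * a⁻¹, ?_, by rw [map_mul, map_mul, map_inv, hq]⟩
    rw [Subgroup.mem_subgroupOf, Subgroup.coe_mul, Subgroup.coe_mul, Subgroup.coe_inv, ha]
    exact h (v := pr 0 w.toAdd) rfl (g : GL P2 F) hg
  rintro _ ⟨w, rfl⟩
  refine Subgroup.mem_normalizer_iff.2 fun x => ⟨key w x, fun hx => ?_⟩
  have := key w⁻¹ _ hx
  rw [map_inv, inv_inv] at this
  simpa [mul_assoc] using this

/-- Elements of the overgroup equal modulo the centre normalise together. -/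
theorem norm_of_mk_eq (hy : C.cube ∉ O.M) {x y : Cz C} (hx : (x : GL P2 F) ∈ O.M) (hy' : (y : GL P2 F) ∈ O.M)
    (e : (QuotientGroup.mk x : QZ C) = QuotientGroup.mk y) (hN : C.S.Norm (y : GL P2 F)) :
    C.S.Norm (x : GL P2 F) := by
  have hua : C.S.u ua ∈ Cz C := mem_Cz (Ctx.comm_Z0_of_fix C.fix0_ua)
  have hc := Subgroup.mem_center_iff.1 (QuotientGroup.eq.1 e.symm) ⟨C.S.u ua, hua⟩
  have h := congrArg Subtype.val hc
  simp only [Subgroup.coe_mul, Subgroup.coe_inv] at h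
  have hN1 : C.S.Norm ((y : GL P2 F)⁻¹ * x) := by
    refine O.norm_of_map hy (mul_mem (inv_mem hy') hx) (w := ua) (c := ua) (s := 1) (by decide) ?_
    rw [one_smul]
    refine cj_eq_of_mul ?_
    rw [← Frm.u_val, ← Units.val_mul, ← Units.val_mul, h]
  have := hN.mul C.S hN1
  rwa [mul_inv_cancel_left] at this

/-- One centralised by a plane monomial modulo the centre normalises. -/
theorem norm_of_plane (hy : C.cube ∉ O.M) {x : Cz C} (hx : (x : GL P2 F) ∈ O.M) {w : P1 × P1} (hw : w ≠ 0)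
    (e : (QuotientGroup.mk x : QZ C) * planeHom C (Multiplicative.ofAdd w) =
      planeHom C (Multiplicative.ofAdd w) * QuotientGroup.mk x) : C.S.Norm (x : GL P2 F) := by
  obtain ⟨a, ha⟩ : ∃ a : Cz C, a = ⟨C.S.u (pr 0 w), plane_mem_Cz w⟩ := ⟨_, rfl⟩
  have e' : (QuotientGroup.mk (x * a * x⁻¹) : QZ C) = QuotientGroup.mk a := by
    rw [planeHom_apply, ← ha] at e
    rw [QuotientGroup.mk_mul, QuotientGroup.mk_mul, QuotientGroup.mk_inv, e, mul_inv_cancel_right]
  refine O.norm_of_conj hy hx (w := pr 0 w) (fun e0 => hw (congrArg p2 e0)) ?_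
  have := O.norm_of_mk_eq hy (x := x * a * x⁻¹) (y := a) ?_ (ha ▸ O.u_mem _) e' (ha ▸ C.S.norm_u _)
  · rw [ha] at this
    simpa using this
  · rw [ha]
    simpa using mul_mem (mul_mem hx (O.u_mem _)) (inv_mem hx)

/-- A kernel element commuting with the reflection which normalises is a phase, possibly reflected. -/
theorem K0_cases {g : GL P2 F} (hg : g ∈ O.K0) (hN : C.S.Norm g) :
    ∃ m : ℕ, g = C.kz ^ m ∨ g = C.kz ^ m * jM := by
  have hj := O.jC_of_K0 hg
  rcases C.fix_or hg.1.2 hN with h | h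
  · obtain ⟨m, hm⟩ := C.jC_bd_form hg.1.2 hN h hj
    exact ⟨m, Or.inl hm⟩
  · obtain ⟨m, hm⟩ := C.jC_bd_form (g := g * jM) (hg.1.2.mul fix0_jM) (hN.mul C.S (C.perm_jM.norm C.S)) h
      (hj.mul (show JC (jM : GL P2 F) from rfl))
    refine ⟨m, Or.inr ?_⟩
    rw [← hm, mul_assoc, show (jM : GL P2 F) * jM = 1 by
      rw [jM, ← Frm.pm_mul, show (jσ * jσ : Equiv.Perm P2) = 1 by decide]
      refine Units.ext ?_; ext a b; simp [Frm.pm_apply, Matrix.one_apply]; congr, mul_one]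

theorem kz_center (C : Ctx F) (m : ℕ) :
    (QuotientGroup.mk (⟨C.kz ^ m, pow_mem (Subgroup.mem_centralizer_singleton_iff.2 rfl) m⟩ : Cz C) : QZ C) = 1 := by
  refine (QuotientGroup.eq_one_iff _).2 (Subgroup.mem_center_iff.2 fun y => Subtype.ext ?_)
  exact ((show Commute (y : GL P2 F) C.kz from Subgroup.mem_centralizer_singleton_iff.1 y.2).pow_right m).eq

theorem K0_le_norm (hy : C.cube ∉ O.M) {g : GL P2 F} (hg : g ∈ O.K0) : C.S.Norm g := by
  classical
  haveI : Fact (Nat.Prime 3) := ⟨Nat.prime_three⟩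
  haveI := plane_comm C
  let A := (planeHom C).range
  let K := qimg C O.K0
  have hA : A ≤ Subgroup.normalizer (K : Set (QZ C)) := plane_le_normalizer fun hv g hg => O.conj_plane_K0 hv hg
  have hjz : (jM : GL P2 F) ∈ Cz C := mem_Cz (Ctx.comm_Z0_of_fix fix0_jM)
  -- the fixed points
  have hfix : ∀ x ∈ K, (∀ w, x * planeHom C w = planeHom C w * x) → x = 1 ∨ x = QuotientGroup.mk ⟨jM, hjz⟩ := by
    rintro _ ⟨x, hx, rfl⟩ hc
    have hN := O.norm_of_plane hy (x := x) hx.1.1 (w := a0) (by decide) (hc (Multiplicative.ofAdd a0))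
    obtain ⟨m, hm | hm⟩ := O.K0_cases hx hN
    · left
      rw [← kz_center C m]
      exact congrArg _ (Subtype.ext hm)
    · right
      rw [← one_mul (QuotientGroup.mk ⟨jM, hjz⟩ : QZ C), ← kz_center C m, ← QuotientGroup.mk_mul]
      exact congrArg _ (Subtype.ext hm)
  have h3 : ¬ 3 ∣ Nat.card K := by
    letI : MulAction A K :=
      { smul := fun a y => ⟨(a : QZ C) * y * (a : QZ C)⁻¹, (Subgroup.mem_normalizer_iff.1 (hA a.2) y).1 y.2⟩
        one_smul := fun y => Subtype.ext (show (1 : QZ C) * y * (1 : QZ C)⁻¹ = y by simp)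
        mul_smul := fun a b y => Subtype.ext (by
          show ((a * b : A) : QZ C) * y * ((a * b : A) : QZ C)⁻¹ = a * (b * y * (b : QZ C)⁻¹) * (a : QZ C)⁻¹
          simp [mul_assoc]) }
    have h := (plane_pGroup C).card_modEq_card_fixedPoints K
    have hmem : ∀ a : MulAction.fixedPoints A K, ((a : K) : QZ C) ∈ ({1, QuotientGroup.mk ⟨jM, hjz⟩} : Set (QZ C)) := by
      intro a
      rcases hfix _ (a : K).2 fun w => by
        have e := congrArg Subtype.val (a.2 ⟨planeHom C w, w, rfl⟩)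
        exact (mul_inv_eq_iff_eq_mul.1 (e : planeHom C w * ((a : K) : QZ C) * (planeHom C w)⁻¹ = _)).symm with h | h
      exacts [Or.inl h, Or.inr h]
    have h2 : Nat.card (MulAction.fixedPoints A K) ≤ 2 := by
      refine (Nat.card_le_card_of_injective (fun a => (⟨_, hmem a⟩ : ({1, QuotientGroup.mk ⟨jM, hjz⟩} : Set (QZ C))))
        fun a b e => Subtype.ext (Subtype.ext (congrArg Subtype.val e :))).trans ?_
      rw [Nat.card_coe_set_eq]
      exact (Set.ncard_insert_le _ _).trans (by rw [Set.ncard_singleton])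
    haveI : Nonempty (MulAction.fixedPoints A K) := ⟨⟨1, fun a => Subtype.ext (by
      show (a : QZ C) * (1 : QZ C) * _ = 1
      simp)⟩⟩
    have h1 : 0 < Nat.card (MulAction.fixedPoints A K) := Nat.card_pos
    intro hd
    have h0 := (h.symm.trans (Nat.modEq_zero_iff_dvd.2 hd))
    have := Nat.le_of_dvd h1 (Nat.modEq_zero_iff_dvd.1 h0)
    omega
  obtain ⟨k, hk⟩ := IsPGroup.exists_card_eq (plane_pGroup C)
  have hcop : (Nat.card A).Coprime (Nat.card K) := by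
    show (Nat.card (planeHom C).range).Coprime _
    rw [hk]
    exact Nat.Coprime.pow_left _ ((Nat.Prime.coprime_iff_not_dvd Nat.prime_three).2 h3)
  have hgen := CfsgLib.CoprimeAct.generated_by_centralizers (A := A) (K := K) (plane_not_cyclic C) hA hcop
  let N : Subgroup (QZ C) := qimg C (O.M ⊓ C.S.Nm)
  have hKN : K ≤ N := by
    rw [← hgen]
    refine iSup₂_le fun a ha x hx => ?_
    obtain ⟨⟨w, hw⟩, ha1⟩ := ha
    obtain ⟨y, hym, rfl⟩ := hx.1
    refine ⟨y, ⟨hym.1.1, O.norm_of_plane hy (x := y) hym.1.1 (w := w.toAdd)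
      (fun e => ha1 (by rw [← hw, ← map_one (planeHom C)]; congr 1)) ?_⟩, rfl⟩
    have hc := Subgroup.mem_centralizer_singleton_iff.1 hx.2
    rw [← hw] at hc
    exact hc
  obtain ⟨n, hn, he⟩ := hKN (⟨⟨g, O.Kz_le hg.1⟩, hg, rfl⟩ : QuotientGroup.mk ⟨g, O.Kz_le hg.1⟩ ∈ K)
  exact O.norm_of_mk_eq hy (x := ⟨g, O.Kz_le hg.1⟩) (y := n) hg.1.1 hn.1 he.symm hn.2

/-- The reflection is not generated by elements of order three. -/
theorem jM_not_mem (hy : C.cube ∉ O.M) : (jM : GL P2 F) ∉ O.B3 := by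
  classical
  haveI : Fact (Nat.Prime 2) := ⟨Nat.prime_two⟩
  intro hjB
  have hjK := O.B3_le hjB
  obtain ⟨J, hJ⟩ : ∃ J : O.Kz, J = ⟨jM, hjK⟩ := ⟨_, rfl⟩
  have hjj : (jM : GL P2 F) * jM = 1 := by
    rw [jM, ← Frm.pm_mul, show (jσ * jσ : Equiv.Perm P2) = 1 by decide]
    refine Units.ext ?_; ext a b; simp [Frm.pm_apply, Matrix.one_apply]; congr
  have hJJ : J * J = 1 := by rw [hJ]; exact Subtype.ext hjj
  have hmemJ : ∀ {y : O.Kz}, y ∈ Subgroup.zpowers J → y = 1 ∨ y = J := by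
    intro y hy'
    obtain ⟨i, rfl⟩ := Subgroup.mem_zpowers_iff.1 hy'
    rcases Int.even_or_odd' i with ⟨k, rfl | rfl⟩
    · left; rw [_root_.zpow_mul, zpow_two, hJJ, _root_.one_zpow]
    · right; rw [_root_.zpow_add, _root_.zpow_mul, zpow_two, hJJ, _root_.one_zpow, one_mul, zpow_one]
  have hJp : IsPGroup 2 (Subgroup.zpowers J) := fun y => ⟨1, Subtype.ext (by
    rcases hmemJ y.2 with h | h <;> simp [h, pow_two, hJJ])⟩
  obtain ⟨P, hP⟩ := hJp.exists_le_sylow
  have hfixJ : ∀ x : O.Kz, x ∈ Subgroup.normalizer (Subgroup.zpowers J : Set O.Kz) → x * J = J * x := by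
    intro x hx
    rcases hmemJ ((Subgroup.mem_normalizer_iff.1 hx J).1 (Subgroup.mem_zpowers J)) with h | h
    · have : J = 1 := conj_eq_one_iff.1 h
      rw [this, mul_one, one_mul]
    · exact mul_inv_eq_iff_eq_mul.1 h
  have hPeq : (P : Subgroup O.Kz) = Subgroup.zpowers J := by
    refine le_antisymm ?_ hP
    by_contra hlt
    haveI : Group.IsNilpotent P := P.2.isNilpotent
    have hne : (Subgroup.zpowers J).subgroupOf P < ⊤ :=
      lt_top_iff_ne_top.2 fun h => hlt (Subgroup.subgroupOf_eq_top.1 h)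
    obtain ⟨x, hxN, hxn⟩ := SetLike.exists_of_lt (Group.normalizerCondition_of_isNilpotent _ hne)
    apply hxn
    show (x : O.Kz) ∈ Subgroup.zpowers J
    have hxJ : (x : O.Kz) * J = J * x := by
      rcases hmemJ ((Subgroup.mem_normalizer_iff.1 hxN ⟨J, hP (Subgroup.mem_zpowers J)⟩).1
        (Subgroup.mem_zpowers J)) with h | h
      · have e : (x : O.Kz) * J * (x : O.Kz)⁻¹ = 1 := h
        rw [conj_eq_one_iff.1 e, mul_one, one_mul]
      · exact mul_inv_eq_iff_eq_mul.1 (h : (x : O.Kz) * J * (x : O.Kz)⁻¹ = J)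
    have hx0 : ((x : O.Kz) : GL P2 F) ∈ O.K0 := ⟨(x : O.Kz).2, Subgroup.mem_centralizer_singleton_iff.2 (by
      have := congrArg Subtype.val hxJ
      rw [hJ] at this
      exact this)⟩
    obtain ⟨k, hk⟩ := P.2 x
    have hxk : ((x : O.Kz) : GL P2 F) ^ 2 ^ k = 1 := congrArg (fun z : P => ((z : O.Kz) : GL P2 F)) hk
    have h3 : C.kz ^ 3 = 1 := by
      rw [C.kz_eq, ← map_pow, x0, Ctx.dg_pow, show (3 • fun k : P1 => 2 * (k * k)) = 0 by decide, Frm.dg_zero,
        map_one]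
    have hcop : Nat.gcd 3 (2 ^ (k + 1)) = 1 := Nat.Coprime.pow_right _ (by norm_num)
    obtain ⟨m, hm | hm⟩ := O.K0_cases hx0 (O.K0_le_norm hy hx0)
    · have hz : (C.kz ^ m) ^ 2 ^ (k + 1) = 1 := by
        rw [← hm, pow_succ, pow_mul, hxk, one_pow]
      have h1 := pow_gcd_eq_one.2 ⟨(show (C.kz ^ m) ^ 3 = 1 by rw [← pow_mul, mul_comm, pow_mul, h3, one_pow]), hz⟩
      rw [hcop, pow_one] at h1
      rw [show (x : O.Kz) = 1 from Subtype.ext (hm.trans h1)]
      exact one_mem _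
    · have hcm : Commute (C.kz ^ m) (jM : GL P2 F) := by
        refine Commute.pow_left ?_ m
        exact ((C.comm_Z0_iff (g := jM)).2 (Ctx.comm_Z0_of_fix fix0_jM)).symm
      have hj2 : (jM : GL P2 F) ^ 2 ^ (k + 1) = 1 := by rw [pow_succ', pow_mul, pow_two, hjj, one_pow]
      have hz : (C.kz ^ m) ^ 2 ^ (k + 1) = 1 := by
        have : (C.kz ^ m * jM) ^ 2 ^ (k + 1) = 1 := by rw [← hm, pow_succ, pow_mul, hxk, one_pow]
        rwa [hcm.mul_pow, hj2, mul_one] at this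
      have h1 := pow_gcd_eq_one.2 ⟨(show (C.kz ^ m) ^ 3 = 1 by rw [← pow_mul, mul_comm, pow_mul, h3, one_pow]), hz⟩
      rw [hcop, pow_one] at h1
      rw [show (x : O.Kz) = J by rw [hJ]; exact Subtype.ext (by rw [hm, h1, one_mul])]
      exact Subgroup.mem_zpowers J
  have hPc : Subgroup.normalizer (P : Set O.Kz) ≤ Subgroup.centralizer (P : Set O.Kz) := by
    rw [show (P : Set O.Kz) = ((P : Subgroup O.Kz) : Set O.Kz) from rfl, hPeq]
    intro x hx
    refine Subgroup.mem_centralizer_iff.2 fun y hy' => ?_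
    rcases hmemJ hy' with rfl | rfl
    · simp
    · exact (hfixJ x hx).symm
  have hle : O.B3 ≤ (MonoidHom.transferSylow P hPc).ker.map O.Kz.subtype := by
    refine (Subgroup.closure_le _).2 ?_
    rintro x ⟨hx, hx3⟩
    refine ⟨⟨x, hx⟩, MonoidHom.mem_ker.2 ?_, rfl⟩
    obtain ⟨t, ht⟩ : ∃ t, t = MonoidHom.transferSylow P hPc ⟨x, hx⟩ := ⟨_, rfl⟩
    rw [← ht]
    have t3 : t ^ 3 = 1 := by
      rw [ht, ← map_pow, show (⟨x, hx⟩ : O.Kz) ^ 3 = 1 from Subtype.ext hx3, map_one]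
    have t2 : t ^ 2 = 1 := Subtype.ext (by
      have := hPeq.le t.2
      rcases hmemJ this with h | h <;> simp [h, pow_two, hJJ])
    calc t = t ^ 3 * (t ^ 2)⁻¹ := by group
      _ = 1 := by rw [t3, t2, inv_one, mul_one]
  obtain ⟨y, hy1, hy2⟩ := hle hjB
  have hyJ : y = J := by rw [hJ]; exact Subtype.ext hy2
  have hdis := (MonoidHom.ker_transferSylow_isComplement' P hPc).disjoint
  have hJ1 : J = 1 := Subgroup.disjoint_def.1 hdis (hyJ ▸ hy1) (hP (Subgroup.mem_zpowers J))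
  have e : (jM : GL P2 F) = 1 := by rw [hJ] at hJ1; exact congrArg Subtype.val hJ1
  have hp := C.perm_jM
  rw [e] at hp
  exact absurd (congrFun (hp.unique C.S C.S.perm_one) (pr a0 0)) (by decide)

/-- The normalising elements among the generated ones fix the phase index. -/
theorem B3_fix (hy : C.cube ∉ O.M) {g : GL P2 F} (hg : g ∈ O.B3) (hN : C.S.Norm g) :
    cj g (C.S.E ua) = C.S.E ua := by
  rcases C.fix_or (O.B3_le hg).2 hN with h | h
  · exact h
  exfalso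
  have hF : Fix0 (g * jM) := (O.B3_le hg).2.mul fix0_jM
  have hNj : C.S.Norm (g * jM) := hN.mul C.S (C.perm_jM.norm C.S)
  obtain ⟨hd, h3⟩ := C.det_bd_form hF hNj h
  have hm : g * jM ∈ O.B3 := Subgroup.subset_closure ⟨⟨O.mem_of_norm hd hNj, hF⟩, h3⟩
  exact O.jM_not_mem hy (by simpa using mul_mem (inv_mem hg) hm)

set_option maxHeartbeats 800000 in
theorem B3_le_norm (hy : C.cube ∉ O.M) {g : GL P2 F} (hg : g ∈ O.B3) : C.S.Norm g := by
  classical
  haveI : Fact (Nat.Prime 3) := ⟨Nat.prime_three⟩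
  haveI := plane_comm C
  let A := (planeHom C).range
  let B := qimg C O.B3
  let P0 : Subgroup B := (qimg C (O.B3 ⊓ C.S.Nm)).subgroupOf B
  have hP0 : ∀ p ∈ P0, ∃ x : Cz C, (x : GL P2 F) ∈ O.B3 ∧ C.S.Norm (x : GL P2 F) ∧
      (QuotientGroup.mk x : QZ C) = (p : QZ C) := by
    rintro p ⟨x, ⟨hx, hN⟩, e⟩
    exact ⟨x, hx, hN, e⟩
  have hbd : ∀ x : GL P2 F, x ∈ O.B3 → C.S.Norm x → Fix0 x ∧ x ^ 3 = 1 := fun x hx hN =>
    ⟨(O.B3_le hx).2, (C.det_bd_form (O.B3_le hx).2 hN (O.B3_fix hy hx hN)).2⟩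
  have hP3 : ∀ p : P0, p ^ 3 = 1 := fun p => by
    obtain ⟨x, hx, hN, e⟩ := hP0 p p.2
    refine Subtype.ext (Subtype.ext ?_)
    show ((p : B) : QZ C) ^ 3 = 1
    rw [← e, ← QuotientGroup.mk_pow, ← QuotientGroup.mk_one]
    exact congrArg _ (Subtype.ext (hbd _ hx hN).2)
  have hPcomm : ∀ p ∈ P0, ∀ r ∈ P0, p * r = r * p := by
    intro p hp r hr
    obtain ⟨x, hx, hxN, ex⟩ := hP0 p hp
    obtain ⟨y, hy', hyN, ey⟩ := hP0 r hr
    obtain ⟨m, hm⟩ := C.comm_bd_form (O.B3_le hx).2 hxN (O.B3_fix hy hx hxN) (O.B3_le hy').2 hyN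
      (O.B3_fix hy hy' hyN)
    refine Subtype.ext ?_
    show (p : QZ C) * r = r * p
    rw [← ex, ← ey, ← QuotientGroup.mk_mul, ← QuotientGroup.mk_mul,
      ← one_mul (QuotientGroup.mk (y * x) : QZ C), ← kz_center C m, ← QuotientGroup.mk_mul]
    exact congrArg _ (Subtype.ext hm)
  have hP0p : IsPGroup 3 P0 := fun p => ⟨1, by rw [pow_one]; exact hP3 p⟩
  obtain ⟨P, hP⟩ := hP0p.exists_le_sylow
  obtain ⟨uC, huC⟩ : ∃ uC : Cz C, (uC : GL P2 F) = C.S.u ua :=
    ⟨⟨C.S.u ua, O.Kz_le (O.B3_le O.ua_mem)⟩, rfl⟩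
  have hu : QuotientGroup.mk' (Subgroup.center (Cz C)) uC ∈ qimg C (O.B3 ⊓ C.S.Nm) := by
    refine Subgroup.mem_map_of_mem _ (Subgroup.mem_subgroupOf.2 ?_)
    rw [huC]
    exact Subgroup.mem_inf.2 ⟨O.ua_mem, C.S.norm_u _⟩
  have huB : QuotientGroup.mk' (Subgroup.center (Cz C)) uC ∈ B := by
    refine Subgroup.mem_map_of_mem _ (Subgroup.mem_subgroupOf.2 ?_)
    rw [huC]
    exact O.ua_mem
  have hnorm : ∀ x : B, (∀ p ∈ P0, x * p * x⁻¹ ∈ P0) → x ∈ P0 := by
    intro x hx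
    obtain ⟨g, hg, e⟩ := x.2
    obtain ⟨n, hn, en⟩ := Subgroup.mem_map.1 (Subgroup.mem_subgroupOf.1 (hx ⟨_, huB⟩ (Subgroup.mem_subgroupOf.2 hu)))
    obtain ⟨hnB, hnN⟩ := Subgroup.mem_inf.1 (Subgroup.mem_subgroupOf.1 hn)
    have hgB : (g : GL P2 F) ∈ O.B3 := hg
    have hgM : (g : GL P2 F) ∈ O.M := (O.B3_le hgB).1
    have hm : ((g * uC * g⁻¹ : Cz C) : GL P2 F) ∈ O.M := by
      rw [Subgroup.coe_mul, Subgroup.coe_mul, Subgroup.coe_inv, huC]
      exact mul_mem (mul_mem hgM (O.u_mem ua)) (inv_mem hgM)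
    have hN := O.norm_of_mk_eq hy (x := g * uC * g⁻¹) (y := n) hm (O.B3_le hnB).1 (by
      have e' : QuotientGroup.mk' (Subgroup.center (Cz C)) g = (x : QZ C) := e
      have en' : QuotientGroup.mk' (Subgroup.center (Cz C)) n =
          (x : QZ C) * QuotientGroup.mk' (Subgroup.center (Cz C)) uC * (x : QZ C)⁻¹ := en
      rw [← e', ← map_inv, ← map_mul, ← map_mul] at en'
      exact en'.symm) hnN
    rw [Subgroup.coe_mul, Subgroup.coe_mul, Subgroup.coe_inv, huC] at hN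
    exact Subgroup.mem_subgroupOf.2 (Subgroup.mem_map.2 ⟨g,
      Subgroup.mem_subgroupOf.2 (Subgroup.mem_inf.2 ⟨hgB, O.norm_of_conj hy hgM (w := ua) (by decide) hN⟩), e⟩)
  have hPeq : (P : Subgroup B) = P0 := by
    refine le_antisymm ?_ hP
    by_contra hlt
    haveI : Group.IsNilpotent P := P.2.isNilpotent
    have hne : P0.subgroupOf P < ⊤ := lt_top_iff_ne_top.2 fun h => hlt (Subgroup.subgroupOf_eq_top.1 h)
    obtain ⟨x, hxN, hxn⟩ := SetLike.exists_of_lt (Group.normalizerCondition_of_isNilpotent _ hne)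
    exact hxn (hnorm x fun p hp => (Subgroup.mem_normalizer_iff.1 hxN ⟨p, hP hp⟩).1 hp)
  have hPc : Subgroup.normalizer (P : Set B) ≤ Subgroup.centralizer (P : Set B) := by
    rw [show (P : Set B) = ((P : Subgroup B) : Set B) from rfl, hPeq]
    intro x hx
    have hxP := hnorm x fun p hp => (Subgroup.mem_normalizer_iff.1 hx p).1 hp
    exact Subgroup.mem_centralizer_iff.2 fun p hp => hPcomm p hp x hxP
  obtain ⟨K, hK⟩ : ∃ K, K = (MonoidHom.transferSylow P hPc).ker := ⟨_, rfl⟩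
  have hKP : Subgroup.IsComplement' K (P : Subgroup B) := hK ▸ MonoidHom.ker_transferSylow_isComplement' P hPc
  have hK3 : ¬ 3 ∣ Nat.card K := hK ▸ MonoidHom.not_dvd_card_ker_transferSylow P hPc
  have hKiff : ∀ x : B, x ∈ K ↔ x ^ Nat.card K = 1 := by
    intro x
    refine ⟨fun hx => congrArg Subtype.val (pow_card_eq_one' : (⟨x, hx⟩ : K) ^ Nat.card K = 1), fun hx => ?_⟩
    obtain ⟨t, ht⟩ : ∃ t, t = MonoidHom.transferSylow P hPc x := ⟨_, rfl⟩
    rw [hK, MonoidHom.mem_ker, ← ht]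
    have t3 : t ^ 3 = 1 := by
      refine Subtype.ext ?_
      have := hPeq.le t.2
      have h := congrArg Subtype.val (hP3 ⟨(t : B), this⟩)
      simpa using h
    have tk : t ^ Nat.card K = 1 := by rw [ht, ← map_pow, hx, map_one]
    have := pow_gcd_eq_one.2 ⟨t3, tk⟩
    rwa [((Nat.Prime.coprime_iff_not_dvd Nat.prime_three).2 hK3).gcd_eq_one, pow_one] at this
  let Ks : Subgroup (QZ C) := K.map B.subtype
  have hAB : A ≤ Subgroup.normalizer (B : Set (QZ C)) := plane_le_normalizer fun hv g hg => O.conj_plane_B3 hv hg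
  have hAK : A ≤ Subgroup.normalizer (Ks : Set (QZ C)) := by
    have key : ∀ a ∈ A, ∀ x ∈ Ks, a * x * a⁻¹ ∈ Ks := by
      rintro a ha _ ⟨x, hx, rfl⟩
      refine ⟨⟨a * x * a⁻¹, (Subgroup.mem_normalizer_iff.1 (hAB ha) _).1 x.2⟩, (hKiff _).2 (Subtype.ext ?_), rfl⟩
      show (a * (x : QZ C) * a⁻¹) ^ Nat.card K = 1
      rw [conj_pow, show (x : QZ C) ^ Nat.card K = 1 from congrArg Subtype.val ((hKiff x).1 hx), mul_one,
        mul_inv_cancel]
    intro a ha
    refine Subgroup.mem_normalizer_iff.2 fun x => ⟨key a ha x, fun hx => ?_⟩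
    have := key _ (inv_mem ha) _ hx
    simpa [mul_assoc] using this
  obtain ⟨k, hk⟩ := IsPGroup.exists_card_eq (plane_pGroup C)
  have hcop : (Nat.card A).Coprime (Nat.card Ks) := by
    show (Nat.card (planeHom C).range).Coprime _
    rw [hk, Subgroup.card_map_of_injective B.subtype_injective]
    exact Nat.Coprime.pow_left _ ((Nat.Prime.coprime_iff_not_dvd Nat.prime_three).2 hK3)
  have hKbot : Ks = ⊥ := by
    rw [← CfsgLib.CoprimeAct.generated_by_centralizers (A := A) (K := Ks) (plane_not_cyclic C) hAK hcop]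
    refine le_bot_iff.1 (iSup₂_le fun a ha x hx => ?_)
    obtain ⟨⟨w, hw⟩, ha1⟩ := ha
    obtain ⟨x', hx'K, rfl⟩ := hx.1
    obtain ⟨y, hym, e⟩ := x'.2
    have hc := Subgroup.mem_centralizer_singleton_iff.1 hx.2
    rw [← hw, show (B.subtype x' : QZ C) = QuotientGroup.mk y from e.symm] at hc
    have hN := O.norm_of_plane hy (x := y) (O.B3_le hym).1 (w := w.toAdd)
      (fun e => ha1 (by rw [← hw, ← map_one (planeHom C)]; congr 1)) hc
    have hxP : x' ∈ (P : Subgroup B) := by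
      rw [hPeq]
      exact ⟨y, ⟨hym, hN⟩, e⟩
    rw [Subgroup.mem_bot, Subgroup.disjoint_def.1 hKP.disjoint hx'K hxP]
    rfl
  have hgB : (QuotientGroup.mk (⟨g, O.Kz_le (O.B3_le hg)⟩ : Cz C) : QZ C) ∈ B := ⟨_, hg, rfl⟩
  obtain ⟨⟨a, b⟩, hab⟩ := hKP.2 ⟨_, hgB⟩
  have ha : (a : B) = 1 := Subtype.ext (Subgroup.mem_bot.1 (hKbot ▸ Subgroup.mem_map_of_mem B.subtype a.2))
  have hab' : (b : B) = ⟨_, hgB⟩ := by
    have : (a : B) * b = ⟨_, hgB⟩ := hab
    rwa [ha, one_mul] at this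
  obtain ⟨n, hn, hnN, en⟩ := hP0 (b : B) (by rw [← hPeq]; exact b.2)
  rw [hab'] at en
  exact O.norm_of_mk_eq hy (x := ⟨g, O.Kz_le (O.B3_le hg)⟩) (y := n) (O.B3_le hg).1 (O.B3_le hn).1 en.symm hnN

/-- An element commuting with the phase normalises. -/
theorem norm_of_kz (hy : C.cube ∉ O.M) {g : GL P2 F} (hg : g ∈ O.M) (hc : g * C.kz = C.kz * g) : C.S.Norm g := by
  refine O.norm_of_conj hy hg (w := ua) (by decide) (O.B3_le_norm hy (Subgroup.subset_closure ⟨⟨?_, ?_⟩, ?_⟩))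
  · exact mul_mem (mul_mem hg (O.u_mem _)) (inv_mem hg)
  · exact C.fix0_ua.conj (C.comm_Z0_iff.1 hc)
  · rw [conj_pow, show C.S.u ua ^ 3 = 1 from Units.ext (by
      rw [Units.val_pow_eq_pow_val, Frm.u_val, Frm.E_cube]; rfl), mul_one, mul_inv_cancel]

end Over

end CfsgLib.Geo.HeisNine
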