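import Cfsg.Agent.Geo.HeisNine.Blocks

/-!
Without the cubic phase, an element of an overgroup carrying one non-trivial monomial into the normaliser
normalises the monomials.
-/

set_option autoImplicit false
set_option linter.unusedSectionVars false
set_option linter.style.haveILetI false

namespace CfsgLib.Geo.HeisNine

open Matrix Cfsg.Geo CfsgLib.Geo

namespace Ctx

variable {F : Type*} [Field F] [Fintype F] (C : Ctx F)

theorem val_smul (m : ZMod 3) (c : V) : m.val • c = m • c := by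
  rw [← Nat.cast_smul_eq_nsmul (ZMod 3), ZMod.natCast_zmod_val]

theorem B_smul' (m : ZMod 3) (u v : V) : C.S.B u (m • v) = m * C.S.B u v := by
  rw [← val_smul, Frm.B_smul]

theorem B_smul_left' (m : ZMod 3) (u v : V) : C.S.B (m • u) v = m * C.S.B u v := by
  rw [← val_smul, Frm.B_smul_left]

theorem card_V_int : Fintype.card V = 81 := by simp [ZMod.card]

/-- The matrices fixed by conjugation. -/
def fixLin (g : GL P2 F) : Submodule F (Matrix P2 P2 F) where
  carrier := {A | cj g A = A}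
  add_mem' {A A'} h h' := by
    show cj g (A + A') = A + A'
    rw [cj, mul_add, add_mul, ← cj, ← cj, h, h']
  zero_mem' := by show cj g 0 = 0; simp [cj]
  smul_mem' c {A} h := by show cj g (c • A) = c • A; rw [cj_smul, h]

/-- The dimension of the commutant: invariant under conjugation and scaling. -/
noncomputable def Ctr (g : GL P2 F) : ℕ := Module.finrank F (fixLin g)

theorem Ctr_smul {g h : GL P2 F} {c : F} (e : (g : Matrix P2 P2 F) = c • (h : Matrix P2 P2 F)) :
    Ctr g = Ctr h := by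
  have : fixLin g = fixLin h := by ext A; show cj g A = A ↔ cj h A = A; rw [cj_of_smul e]
  rw [Ctr, this, Ctr]

theorem Ctr_conj (g h : GL P2 F) : Ctr (h * g * h⁻¹) = Ctr g := by
  refine (LinearEquiv.finrank_eq (LinearEquiv.symm
    { toFun := fun A => ⟨cj h A.1, by
        show cj (h * g * h⁻¹) (cj h A.1) = cj h A.1
        rw [← cj_comp, inv_mul_cancel_right, cj_comp, A.2]⟩
      invFun := fun A => ⟨cj h⁻¹ A.1, by
        show cj g (cj h⁻¹ A.1) = cj h⁻¹ A.1
        conv_rhs => rw [← (A.2 : cj (h * g * h⁻¹) A.1 = A.1), cj_comp, cj_comp, cj_inv_cj]⟩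
      left_inv := fun A => Subtype.ext (cj_inv_cj h A.1)
      right_inv := fun A => Subtype.ext (cj_cj_inv h A.1)
      map_add' := fun A A' => Subtype.ext (by simp [cj, mul_add, add_mul])
      map_smul' := fun c A => Subtype.ext (by simp [cj_smul]) }))

theorem Ctr_xa : 45 ≤ Ctr (kr C.x0 : GL P2 F) := by
  classical
  let φ : P2 → ZMod 3 := fun x => 2 * (x.2 * x.2)
  let S := {x : P2 × P2 // φ x.1 = φ x.2}
  have hcard : Fintype.card S = 45 := by
    rw [Fintype.card_subtype]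
    show (Finset.univ.filter fun x : P2 × P2 => 2 * (x.1.2 * x.1.2) = 2 * (x.2.2 * x.2.2)).card = 45
    decide
  have e : (kr C.x0 : Matrix P2 P2 F) = Matrix.diagonal fun x => C.S0.χ (φ x) := by
    ext x y
    rw [kr_val, Matrix.kroneckerMap_apply, x0, Frm.dg_val, Matrix.one_apply, Matrix.diagonal_apply,
      Matrix.diagonal_apply]
    by_cases h1 : x.1 = y.1 <;> by_cases h2 : x.2 = y.2 <;> simp [h1, h2, Prod.ext_iff, φ]
  let mk : (S → F) →ₗ[F] Matrix P2 P2 F :=
    { toFun := fun v => Matrix.of fun x y => if h : φ x = φ y then v ⟨(x, y), h⟩ else 0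
      map_add' := fun v w => by
        ext x y
        simp only [Matrix.of_apply, Matrix.add_apply, Pi.add_apply]
        split_ifs <;> simp
      map_smul' := fun c v => by
        ext x y
        simp only [Matrix.of_apply, Matrix.smul_apply, Pi.smul_apply, RingHom.id_apply]
        split_ifs <;> simp }
  have hmem : ∀ v, mk v ∈ fixLin (kr C.x0 : GL P2 F) := fun v => by
    refine cj_eq_of_mul ?_
    ext x y
    rw [e, Matrix.diagonal_mul, Matrix.mul_diagonal]
    show _ * dite _ _ _ = dite _ _ _ * _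
    split_ifs with h
    · rw [h, mul_comm]
    · simp
  have hinj : Function.Injective (mk.codRestrict (fixLin (kr C.x0 : GL P2 F)) hmem) := fun v w e' => by
    funext ⟨⟨x, y⟩, h⟩
    have := congrFun (congrFun (congrArg Subtype.val e') x) y
    simpa [mk, dif_pos h] using this
  have := LinearMap.finrank_le_finrank_of_injective hinj
  rwa [Module.finrank_pi, hcard] at this

/-- A bound on the commutant of a normalising element of order three on the indices. -/
theorem Ctr_le {g : GL P2 F} {π : V → V} {c : V → F} (hc : ∀ v, cj g (C.S.E v) = c v • C.S.E (π v))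
    (hπ3 : ∀ v, π (π (π v)) = v) :
    ∃ T : Finset V, (∀ v ∈ T, π v = v → c v = 1) ∧ Ctr g ≤ T.card ∧
      3 * T.card ≤ 2 * (Finset.univ.filter fun v => π v = v).card + Fintype.card V := by
  classical
  obtain ⟨e⟩ : Nonempty (V ≃ Fin (Fintype.card V)) := ⟨Fintype.equivFin V⟩
  obtain ⟨T, hT⟩ : ∃ T, T = Finset.univ.filter fun v =>
      (π v = v ∧ c v = 1) ∨ (π v ≠ v ∧ e v < e (π v) ∧ e v < e (π (π v))) := ⟨_, rfl⟩
  have hmem : ∀ v, v ∈ T ↔ (π v = v ∧ c v = 1) ∨ (π v ≠ v ∧ e v < e (π v) ∧ e v < e (π (π v))) := fun v => by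
    rw [hT, Finset.mem_filter]; simp
  have hinj : Function.Injective π := fun a b h => by rw [← hπ3 a, h, hπ3]
  have hne : ∀ v, π v ≠ v → π (π v) ≠ π v ∧ π (π v) ≠ v := fun v hv =>
    ⟨fun h => hv (hinj h), fun h => hv (by rw [← congrArg π h, hπ3])⟩
  refine ⟨T, fun v hv hfix => ?_, ?_, ?_⟩
  · rcases (hmem v).1 hv with h | h
    exacts [h.2, absurd hfix h.1]
  · let f : fixLin g →ₗ[F] T → F := LinearMap.pi fun t => (C.S.coef t.1).comp (fixLin g).subtype
    have hf : Function.Injective f := by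
      rw [← LinearMap.ker_eq_bot, Submodule.eq_bot_iff]
      intro A hA
      have hA0 : ∀ t ∈ T, C.S.coef t A.1 = 0 := fun t ht =>
        congrFun (LinearMap.mem_ker.1 hA) ⟨t, ht⟩
      have hrel : ∀ v, C.S.coef (π v) A.1 = c v * C.S.coef v A.1 := fun v => by
        have h1 : C.S.coef (π v) (cj g A.1) = c v * C.S.coef v A.1 := by
          conv_lhs => rw [← C.S.sum_coef A.1]
          simp only [cj, Matrix.mul_sum, Matrix.sum_mul, mul_smul_comm, smul_mul_assoc, map_sum, map_smul]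
          have h : ∀ y, (g : Matrix P2 P2 F) * C.S.E y * ((g⁻¹ : GL P2 F) : Matrix P2 P2 F) = c y • C.S.E (π y) :=
            hc
          simp only [h, map_smul, smul_eq_mul, Frm.coef_E]
          rw [Fintype.sum_eq_single v fun y hy => by rw [if_neg fun e' => hy (hinj e').symm, mul_zero, mul_zero]]
          rw [if_pos rfl, mul_one, mul_comm]
        rwa [(A.2 : cj g A.1 = A.1)] at h1
      have hall : ∀ v, C.S.coef v A.1 = 0 := by
        intro v
        by_cases hv : π v = v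
        · by_cases hc1 : c v = 1
          · exact hA0 v ((hmem v).2 (Or.inl ⟨hv, hc1⟩))
          · have := hrel v
            rw [hv] at this
            by_contra h0
            exact hc1 (mul_right_cancel₀ h0 (this.symm.trans (one_mul _).symm))
        obtain ⟨h1, h2⟩ := hne v hv
        have hcne : ∀ u, c u ≠ 0 := fun u => C.S.coeff_ne (hc u)
        rcases lt_or_gt_of_ne (e.injective.ne (Ne.symm hv)) with a | a
        · rcases lt_or_gt_of_ne (e.injective.ne (Ne.symm h2)) with b | b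
          · exact hA0 v ((hmem v).2 (Or.inr ⟨hv, a, b⟩))
          · have hm : π (π v) ∈ T := (hmem _).2 (Or.inr ⟨fun h => h1 (hinj h),
              by rw [hπ3]; exact b, by rw [hπ3]; exact b.trans a⟩)
            have := hA0 _ hm
            rw [hrel, hrel] at this
            simpa [hcne] using this
        · rcases lt_or_gt_of_ne (e.injective.ne h1) with b | b
          · have hm : π (π v) ∈ T := (hmem _).2 (Or.inr ⟨fun h => h1 (hinj h),
              by rw [hπ3]; exact b.trans a, by rw [hπ3]; exact b⟩)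
            have := hA0 _ hm
            rw [hrel, hrel] at this
            simpa [hcne] using this
          · have hm : π v ∈ T := (hmem _).2 (Or.inr ⟨h1, b, by rw [hπ3]; exact a⟩)
            have := hA0 _ hm
            rw [hrel] at this
            simpa [hcne] using this
      exact Subtype.ext (C.S.ext_coef fun v => by rw [hall v, ZeroMemClass.coe_zero, map_zero])
    have := LinearMap.finrank_le_finrank_of_injective hf
    rwa [Module.finrank_pi, Fintype.card_coe] at this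
  · obtain ⟨Fx, hFx⟩ : ∃ Fx, Fx = Finset.univ.filter fun v => π v = v := ⟨_, rfl⟩
    rw [← hFx]
    obtain ⟨S, hS⟩ : ∃ S, S = T.filter fun v => π v ≠ v := ⟨_, rfl⟩
    have h1 : T.card ≤ Fx.card + S.card := by
      refine (Finset.card_le_card (t := Fx ∪ S) fun v hv => ?_).trans (Finset.card_union_le _ _)
      by_cases h : π v = v <;> simp [hFx, hS, h, hv]
    have hS' : ∀ v ∈ S, π v ≠ v ∧ e v < e (π v) ∧ e v < e (π (π v)) := fun v hv => by
      rw [hS, Finset.mem_filter] at hv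
      exact ((hmem v).1 hv.1).resolve_left fun h => hv.2 h.1
    have d1 : Disjoint S (S.image π) := Finset.disjoint_left.2 fun v hv hv' => by
      obtain ⟨u, hu, rfl⟩ := Finset.mem_image.1 hv'
      have a := (hS' u hu).2.1
      have b := (hS' _ hv).2.2
      rw [hπ3] at b
      exact lt_irrefl _ (a.trans b)
    have d2 : Disjoint S (S.image fun v => π (π v)) := Finset.disjoint_left.2 fun v hv hv' => by
      obtain ⟨u, hu, rfl⟩ := Finset.mem_image.1 hv'
      have a := (hS' u hu).2.2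
      have b := (hS' _ hv).2.1
      rw [hπ3] at b
      exact lt_irrefl _ (a.trans b)
    have d3 : Disjoint (S.image π) (S.image fun v => π (π v)) := Finset.disjoint_left.2 fun v hv hv' => by
      obtain ⟨u, hu, rfl⟩ := Finset.mem_image.1 hv
      obtain ⟨w, hw, hwu⟩ := Finset.mem_image.1 hv'
      have huw : π w = u := hinj hwu
      have a := (hS' w hw).2.1
      have b := (hS' u hu).2.2
      rw [← huw, hπ3] at b
      exact lt_irrefl _ (a.trans b)
    have d0 : Disjoint Fx (S ∪ S.image π ∪ S.image fun v => π (π v)) := Finset.disjoint_left.2 fun v hv hv' => by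
      rw [hFx, Finset.mem_filter] at hv
      simp only [Finset.mem_union, Finset.mem_image] at hv'
      rcases hv' with (h | ⟨u, hu, rfl⟩) | ⟨u, hu, rfl⟩
      · exact (hS' v h).1 hv.2
      · exact (hne u (hS' u hu).1).1 hv.2
      · exact (hne u (hS' u hu).1).1 (hinj hv.2)
    have h2 := Finset.card_le_univ (Fx ∪ (S ∪ S.image π ∪ S.image fun v => π (π v)))
    rw [Finset.card_union_of_disjoint d0, Finset.card_union_of_disjoint (Finset.disjoint_union_left.2 ⟨d2, d3⟩),
      Finset.card_union_of_disjoint d1, Finset.card_image_of_injective _ hinj,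
      Finset.card_image_of_injective S (f := fun v => π (π v)) (hinj.comp hinj)] at h2
    omega

theorem commute_xa {g : GL P2 F} (h : cj g (C.S.E va) = C.S.E va) : g * kr C.x0 = kr C.x0 * g := by
  obtain ⟨G, rfl⟩ := C.exists_bd h
  have e : (kr C.x0 : GL P2 F) = bd fun i => C.S0.dg fun _ => 2 * (i * i) := by
    refine Units.ext ?_
    ext x y
    rw [kr_val, Matrix.kroneckerMap_apply, bd_apply, x0, Frm.dg_val, Frm.dg_val, Matrix.one_apply,
      Matrix.diagonal_apply, Matrix.diagonal_apply]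
    by_cases h1 : x.2 = y.2 <;> by_cases h2 : x.1 = y.1 <;> simp [h1, h2]
  rw [e, ← map_mul, ← map_mul]
  congr 1
  funext i
  refine Units.ext ?_
  simp only [Pi.mul_apply, Units.val_mul, Frm.dg_val, ← Matrix.smul_one_eq_diagonal]
  simp

theorem tv_of_Ctr {g : GL P2 F} {π : V → V} (hπ : C.S.Perm g π) (hπ3 : ∀ v, π (π (π v)) = v)
    (hns : ∀ c : F, (g : Matrix P2 P2 F) ≠ c • 1) (hT : 45 ≤ Ctr g) :
    ∃ (c : V) (l : ZMod 3), l ≠ 0 ∧ c ≠ 0 ∧ ∀ v, π v = v + (l * C.S.B c v) • c := by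
  classical
  let Fx : AddSubgroup V :=
    { carrier := {v | π v = v}
      add_mem' := fun {a b} ha hb => by simp only [Set.mem_setOf_eq] at *; rw [hπ.add C.S, ha, hb]
      zero_mem' := hπ.zero C.S
      neg_mem' := fun {a} ha => by simp only [Set.mem_setOf_eq] at *; rw [hπ.neg C.S, ha] }
  have hcard : (Finset.univ.filter fun v => π v = v).card = Nat.card Fx := by
    rw [← Nat.card_eq_finsetCard]
    exact Nat.card_congr (Equiv.subtypeEquivRight fun v => by simp; rfl)
  obtain ⟨cc, hcc⟩ := Classical.skolem.1 hπ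
  obtain ⟨T, hT1, hT2, hT3⟩ := C.Ctr_le hcc hπ3
  rw [hcard, card_V_int] at hT3
  obtain ⟨k, hk, hFx⟩ : ∃ k ≤ 4, Nat.card Fx = 3 ^ k := by
    refine (Nat.dvd_prime_pow Nat.prime_three).1 ?_
    have h := Fx.card_addSubgroup_dvd_card
    rw [Nat.card_eq_fintype_card, Nat.card_eq_fintype_card, card_V_int] at h
    rwa [Nat.card_eq_fintype_card]
  have hne1 : k ≠ 0 := by
    rintro rfl
    have hinj : ∀ v, π v - v = 0 → v = 0 := fun v hv => by
      have hm : v ∈ Fx := sub_eq_zero.1 hv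
      haveI : Subsingleton Fx := (Nat.card_eq_one_iff_unique.1 (by simpa using hFx)).1
      exact congrArg Subtype.val (Subsingleton.elim (⟨v, hm⟩ : Fx) 0)
    have hnil : ∀ v, π (π (π v - v) - (π v - v)) - (π (π v - v) - (π v - v)) = 0 := fun v => by
      simp only [hπ.sub C.S, hπ3]
      have h3 : π v + π v + π v = 0 ∧ π (π v) + π (π v) + π (π v) = 0 :=
        ⟨Prod.ext (C.S.tors _) (C.S.tors _), Prod.ext (C.S.tors _) (C.S.tors _)⟩
      calc _ = (π v + π v + π v) - (π (π v) + π (π v) + π (π v)) := by abel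
        _ = 0 := by rw [h3.1, h3.2, sub_zero]
    exact absurd (hinj _ (hinj _ (hinj _ (hnil va)))) (by decide)
  have hk3 : k = 3 := by
    rw [hFx] at hT3
    interval_cases k
    · exact absurd rfl hne1
    · omega
    · omega
    · rfl
    · exfalso
      have htop : Fx = ⊤ := Fx.eq_top_of_card_eq (by rw [hFx, Nat.card_eq_fintype_card, card_V_int]; rfl)
      have hid : ∀ v, π v = v := fun v => (show v ∈ Fx by rw [htop]; trivial)
      obtain ⟨a, w, hw⟩ := C.S.isP_of_fix (g := g) fun v => ⟨cc v, by rw [hcc, hid]⟩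
      have hw0 : w ≠ 0 := fun e => hns a (by rw [hw, e, Frm.E_zero])
      obtain ⟨u, hu⟩ := C.S.B_nd_one hw0
      have hsub : ∀ v ∈ T, C.S.B w v = 0 := fun v hv => by
        have h := hcc v
        rw [cj_of_smul (h := C.S.u w) hw, Frm.cj_u, hid] at h
        have := (C.S.smul_E_eq h (C.S.χ_ne _)).2
        rw [hT1 v hv (hid v)] at this
        exact C.S.χ_inj (this.trans C.S.χ_zero.symm)
      have h27 : (T ×ˢ (Finset.univ : Finset (ZMod 3))).card ≤ Fintype.card V := by
        refine (Finset.card_le_card_of_injOn (fun p => p.1 + p.2 • u) (fun _ _ => Finset.mem_univ _) ?_).trans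
          (le_of_eq Finset.card_univ)
        intro p hp p' hp' e
        have hp1 := hsub _ (Finset.mem_product.1 hp).1
        have hp1' := hsub _ (Finset.mem_product.1 hp').1
        have e2 := congrArg (C.S.B w) e
        simp only [Frm.B_add, B_smul', hp1, hp1', hu, mul_one, zero_add] at e2
        simp only [e2, add_left_inj] at e
        exact Prod.ext e e2
      rw [Finset.card_product, Finset.card_univ, ZMod.card, card_V_int] at h27
      omega
  subst hk3
  obtain ⟨u, hu⟩ : ∃ u, π u ≠ u := by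
    by_contra hcon
    push Not at hcon
    have : Fx = ⊤ := eq_top_iff.2 fun v _ => hcon v
    rw [this, AddSubgroup.card_top, Nat.card_eq_fintype_card, card_V_int] at hFx
    norm_num at hFx
  have hsub : ∀ m : ZMod 3, ∀ v : V, π (m • v) = m • π v := fun m v => by rw [← val_smul, hπ.nsmul C.S, val_smul]
  have hbij : Function.Bijective fun p : Fx × ZMod 3 => (p.1 : V) + p.2 • u := by
    rw [Fintype.bijective_iff_injective_and_card]
    refine ⟨fun p q e => ?_, ?_⟩
    · simp only at e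
      have e' : (p.1 : V) - q.1 = (q.2 - p.2) • u := by rw [sub_smul, sub_eq_sub_iff_add_eq_add, e, add_comm]
      have hm : q.2 - p.2 = 0 := by
        by_contra hm
        apply hu
        have h2 : π ((q.2 - p.2) • u) = (q.2 - p.2) • u := by
          rw [← e', hπ.sub C.S, show π p.1 = p.1 from p.1.2, show π q.1 = q.1 from q.1.2]
        have h1 : (q.2 - p.2) * (q.2 - p.2) = 1 := by
          revert hm; generalize q.2 - p.2 = m; revert m; decide
        have := congrArg ((q.2 - p.2) • ·) h2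
        simp only [hsub, smul_smul, h1, one_smul] at this
        exact this
      rw [hm, zero_smul, sub_eq_zero] at e'
      exact Prod.ext (Subtype.ext e') (sub_eq_zero.1 hm).symm
    · rw [Fintype.card_prod, card_V_int, ZMod.card, ← Nat.card_eq_fintype_card, hFx]
      norm_num
  obtain ⟨c, hc⟩ : ∃ c, c = π u - u := ⟨_, rfl⟩
  have hc0 : c ≠ 0 := hc ▸ sub_ne_zero.2 hu
  have hform : ∀ v, ∃ m : ZMod 3, π v = v + m • c ∧ C.S.B c v = m * C.S.B c u := fun v => by
    obtain ⟨⟨f, m⟩, rfl⟩ := hbij.2 v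
    have hf : π (f : V) = f := f.2
    have hu' : π u = u + c := by rw [hc]; abel
    refine ⟨m, by rw [hπ.add C.S, hf, hsub, hu', smul_add, add_assoc], ?_⟩
    have : C.S.B c (f : V) = 0 := by
      rw [hc, Frm.B_swap, Frm.B_sub]
      nth_rw 1 [← hf]
      rw [hπ.symp C.S, sub_self, neg_zero]
    rw [Frm.B_add, this, zero_add, B_smul']
  refine ⟨c, C.S.B c u, fun e => ?_, hc0, fun v => ?_⟩
  · obtain ⟨w, hw⟩ := C.S.B_nd hc0
    obtain ⟨m, -, hm⟩ := hform w
    exact hw (by rw [hm, e, mul_zero])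
  · obtain ⟨m, hm, hm'⟩ := hform v
    rw [hm, hm']
    obtain ⟨w, hw⟩ := C.S.B_nd hc0
    obtain ⟨m', -, hm''⟩ := hform w
    have hne : C.S.B c u ≠ 0 := fun e => hw (by rw [hm'', e, mul_zero])
    congr 2
    exact (show ∀ m l : ZMod 3, l ≠ 0 → m = l * (m * l) by decide) _ _ hne

theorem line_arith : ∀ a b c : ZMod 3, a ≠ 0 → b ≠ 0 → c ≠ 0 → a + c = 2 * b → a = b := by decide

theorem exists_sep {c d : V} (hd : d ≠ 0) (h : ∀ k : ZMod 3, c ≠ k • d) :
    ∃ v, C.S.B c v = 1 ∧ C.S.B d v = 0 := by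
  obtain ⟨u, hu⟩ := C.S.B_nd_one hd
  by_contra hcon
  push Not at hcon
  have key : ∀ w, C.S.B d w = 0 → C.S.B c w = 0 := fun w hw => by
    by_contra hne
    refine hcon ((C.S.B c w) • w) ?_ ?_
    · rw [B_smul']; revert hne; generalize C.S.B c w = a; revert a; decide
    · rw [B_smul', hw, mul_zero]
  have : ∀ v, C.S.B (c - (C.S.B c u) • d) v = 0 := fun v => by
    have h1 := key (v - (C.S.B d v) • u) (by rw [Frm.B_sub, B_smul', hu, mul_one, sub_self])
    rw [Frm.B_sub, B_smul'] at h1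
    rw [sub_eq_add_neg, Frm.B_add_left, ← neg_smul, B_smul_left', neg_mul, ← sub_eq_add_neg, mul_comm, h1]
  by_contra _
  by_cases h0 : c - (C.S.B c u) • d = 0
  · exact h _ (sub_eq_zero.1 h0)
  · obtain ⟨v, hv⟩ := C.S.B_nd h0
    exact hv (this v)

theorem same_line {c0 c1 c2 : V} {l0 l1 l2 : ZMod 3} (h0 : c0 ≠ 0) (h1 : c1 ≠ 0) (h2 : c2 ≠ 0)
    (hl0 : l0 ≠ 0) (hl1 : l1 ≠ 0) (hl2 : l2 ≠ 0)
    (e : ∀ v, (l0 * C.S.B c0 v) • c0 + (l2 * C.S.B c2 v) • c2 = (2 * (l1 * C.S.B c1 v)) • c1) :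
    ∀ v, (l0 * C.S.B c0 v) • c0 = (l1 * C.S.B c1 v) • c1 := by
  have inv : ∀ m : ZMod 3, m ≠ 0 → m * m = 1 := by decide
  obtain ⟨μ, hμ⟩ : ∃ μ : ZMod 3, c0 = μ • c2 := by
    by_contra hcon
    push Not at hcon
    obtain ⟨v, hv, hv'⟩ := C.exists_sep h2 hcon
    have ev := e v
    rw [hv, hv', mul_zero, zero_smul, add_zero, mul_one] at ev
    have hc0 : c0 = (l0 * (2 * (l1 * C.S.B c1 v))) • c1 := by
      rw [mul_smul, ← ev, smul_smul, inv l0 hl0, one_smul]
    have hsep : ∀ k : ZMod 3, c2 ≠ k • c0 := fun k hk => by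
      by_cases hk0 : k = 0
      · exact h2 (by rw [hk, hk0, zero_smul])
      · exact hcon k (by rw [hk, smul_smul, inv k hk0, one_smul])
    obtain ⟨w, hw, hw'⟩ := C.exists_sep h0 hsep
    have ew := e w
    rw [hw, hw', mul_zero, zero_smul, zero_add, mul_one] at ew
    have hc2 : c2 = (l2 * (2 * (l1 * C.S.B c1 w))) • c1 := by
      rw [mul_smul, ← ew, smul_smul, inv l2 hl2, one_smul]
    obtain ⟨k, hk⟩ : ∃ k, k = l2 * (2 * (l1 * C.S.B c1 w)) := ⟨_, rfl⟩
    rw [← hk] at hc2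
    have hk0 : k ≠ 0 := fun e' => h2 (by rw [hc2, e', zero_smul])
    exact hcon (l0 * (2 * (l1 * C.S.B c1 v)) * k) (by rw [hc2, smul_smul, mul_assoc, inv k hk0, mul_one, ← hc0])
  obtain ⟨v, hv⟩ := C.S.B_nd_one h1
  have ev := e v
  rw [hv, hμ, smul_smul, ← add_smul, mul_one] at ev
  obtain ⟨κ, hκ⟩ : ∃ κ : ZMod 3, c1 = κ • c2 := by
    refine ⟨2 * l1 * ((l0 * C.S.B (μ • c2) v) * μ + l2 * C.S.B c2 v), ?_⟩
    rw [mul_smul, ev, smul_smul, inv (2 * l1) (by revert hl1; clear ev e; revert l1; decide), one_smul]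
  have hμ0 : μ ≠ 0 := fun e' => h0 (by rw [hμ, e', zero_smul])
  have hκ0 : κ ≠ 0 := fun e' => h1 (by rw [hκ, e', zero_smul])
  have hcoef : l0 * μ * μ + l2 = 2 * (l1 * κ * κ) := by
    obtain ⟨u, hu⟩ := C.S.B_nd_one h2
    have eu := e u
    rw [hμ, hκ, B_smul_left', B_smul_left', hu, smul_smul, smul_smul, ← add_smul, ← sub_eq_zero, ← sub_smul] at eu
    by_contra hne
    have hne' : l0 * (μ * 1) * μ + l2 * 1 - 2 * (l1 * (κ * 1)) * κ ≠ 0 := fun h => hne (by linear_combination h)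
    have := congrArg ((l0 * (μ * 1) * μ + l2 * 1 - 2 * (l1 * (κ * 1)) * κ) • ·) eu
    simp only [smul_smul, inv _ hne', one_smul, smul_zero] at this
    exact h2 this
  have hkey : l0 * μ * μ = l1 * κ * κ := by
    rw [mul_assoc, inv μ hμ0, mul_assoc, inv κ hκ0, mul_one, mul_one] at hcoef ⊢
    exact line_arith l0 l1 l2 hl0 hl1 hl2 hcoef
  intro w
  rw [hμ, hκ, B_smul_left', B_smul_left', smul_smul, smul_smul]
  congr 1
  linear_combination C.S.B c2 w * hkey

end Ctx

namespace Over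

open Ctx

variable {F : Type*} [Field F] [Fintype F] {C : Ctx F} (O : Over C)

theorem norm_of_map (hy : C.cube ∉ O.M) {g : GL P2 F} (hg : g ∈ O.M) {w c : V} {s : F} (hw : w ≠ 0)
    (h : cj g (C.S.E w) = s • C.S.E c) : C.S.Norm g := by
  have hc : c ≠ 0 := by
    rintro rfl
    rw [Frm.E_zero] at h
    have h' := congrArg (cj g⁻¹) h
    rw [cj_inv_cj, cj_smul, cj_one] at h'
    exact hw (C.S.smul_E_eq_one (c := 1) (d := s) (by rw [one_smul]; exact h') one_ne_zero).1
  obtain ⟨n, hn, π, hπ, hπa⟩ := O.exists_move hw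
  obtain ⟨m, hm, τ, hτ, hτa⟩ := O.exists_move hc
  obtain ⟨a, ha⟩ := hπ va
  rw [hπa] at ha
  obtain ⟨b, hb⟩ := hτ va
  rw [hτa] at hb
  have hb' : cj m⁻¹ (C.S.E c) = b⁻¹ • C.S.E va := by
    have h' := congrArg (cj m⁻¹) hb
    rw [cj_inv_cj, cj_smul] at h'
    rw [h', smul_smul, inv_mul_cancel₀ (C.S.coeff_ne hb), one_smul]
  have hh : cj (m⁻¹ * g * n) (C.S.E va) = (a * (s * b⁻¹)) • C.S.E va := by
    rw [cj_comp, ha, cj_smul, cj_comp, h, cj_smul, hb', smul_smul, smul_smul, mul_assoc]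
  obtain ⟨e, he⟩ := C.S.exists_χ (C.S.coeff_cube hh)
  rw [he] at hh
  have hfix : cj (C.S.u (e • vb) * (m⁻¹ * g * n)) (C.S.E va) = C.S.E va := by
    rw [cj_comp, hh, cj_smul, Frm.cj_u, smul_smul, ← Frm.χ_add, B_smul_left',
      show C.S.B vb va = -1 by rw [S_B]; rfl, mul_neg_one, add_neg_cancel, Frm.χ_zero, one_smul]
  have hN := O.norm_of_fix_va hy (mul_mem (O.u_mem _) (mul_mem (mul_mem (inv_mem hm) hg) hn)) hfix
  have e' : g = m * ((C.S.u (e • vb))⁻¹ * (C.S.u (e • vb) * (m⁻¹ * g * n))) * n⁻¹ := by group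
  rw [e']
  exact ((hτ.norm C.S).mul C.S (((C.S.norm_u _).inv C.S).mul C.S hN)).mul C.S ((hπ.norm C.S).inv C.S)

theorem norm_of_conj_va (hy : C.cube ∉ O.M) {g : GL P2 F} (hg : g ∈ O.M)
    (hU : C.S.Norm (g * C.S.u va * g⁻¹)) : C.S.Norm g := by
  classical
  obtain ⟨U, hUdef⟩ : ∃ U, U = g * C.S.u va * g⁻¹ := ⟨_, rfl⟩
  rw [← hUdef] at hU
  obtain ⟨π, hπ⟩ := hU.exists_perm
  choose cU hcU using hπ
  have hπ : C.S.Perm U π := fun v => ⟨_, hcU v⟩
  have hU3 : U * U * U = 1 := by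
    rw [hUdef]
    have h3 : C.S.u va * C.S.u va * C.S.u va = 1 := Units.ext (by
      rw [Units.val_mul, Units.val_mul, Frm.u_val, ← pow_two, ← pow_succ, Frm.E_cube]; rfl)
    calc _ = g * (C.S.u va * C.S.u va * C.S.u va) * g⁻¹ := by group
      _ = 1 := by rw [h3]; group
  have hπ3 : ∀ v, π (π (π v)) = v := fun v => by
    have := (hπ.comp C.S hπ).comp C.S hπ
    rw [hU3] at this
    exact congrFun (this.unique C.S C.S.perm_one) v
  obtain ⟨Fx, hFx⟩ : ∃ Fx, Fx = Finset.univ.filter fun v => π v = v := ⟨_, rfl⟩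
  have h9 : 4 ≤ Fx.card := by
    obtain ⟨N, hN⟩ : ∃ N : V → V, ∀ v, N v = π v - v := ⟨_, fun _ => rfl⟩
    have hN0 : ∀ v, N v = 0 ↔ v ∈ Fx := fun v => by rw [hN, hFx, Finset.mem_filter, sub_eq_zero]; simp
    have hNs : ∀ v w, N (v - w) = N v - N w := fun v w => by simp only [hN, hπ.sub C.S]; abel
    have hN3 : ∀ v, N (N (N v)) = 0 := fun v => by
      simp only [hN, hπ.sub C.S, hπ3]
      have h3 : π v + π v + π v = 0 ∧ π (π v) + π (π v) + π (π v) = 0 :=
        ⟨Prod.ext (C.S.tors _) (C.S.tors _), Prod.ext (C.S.tors _) (C.S.tors _)⟩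
      calc _ = (π v + π v + π v) - (π (π v) + π (π v) + π (π v)) := by abel
        _ = 0 := by rw [h3.1, h3.2, sub_zero]
    have step : ∀ T : Finset V, (Finset.univ.filter fun v => N v ∈ T).card ≤ Fx.card * T.card := by
      intro T
      refine Finset.card_le_mul_card_image_of_maps_to (f := N) (t := T) (fun a ha => (Finset.mem_filter.1 ha).2) _ fun b hb => ?_
      rcases (Finset.univ.filter fun v => N v = b).eq_empty_or_nonempty with he | ⟨a, ha⟩
      · refine (le_of_eq (Finset.card_eq_zero.2 (Finset.subset_empty.1 fun x hx => ?_))).trans (Nat.zero_le _)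
        have hx' : x ∈ Finset.univ.filter fun v => N v = b := by simp [(Finset.mem_filter.1 hx).2]
        rw [he] at hx'
        exact hx'
      · refine Finset.card_le_card_of_injOn (fun x => x - a) (fun x hx => ?_) (fun x _ y _ e => sub_left_injective e)
        show x - a ∈ Fx
        rw [← hN0, hNs, (Finset.mem_filter.1 ha).2, (Finset.mem_filter.1 hx).2, sub_self]
    have h2 := step Fx
    have h3 := step (Finset.univ.filter fun v => N v ∈ Fx)
    have huniv : (Finset.univ.filter fun v => N v ∈ Finset.univ.filter fun v => N v ∈ Fx) = (Finset.univ : Finset V) := by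
      ext v; simp [← hN0, hN3]
    rw [huniv, Finset.card_univ, card_V_int] at h3
    by_contra hlt
    have : Fx.card * (Fx.card * Fx.card) ≤ 3 * (3 * 3) :=
      Nat.mul_le_mul (by omega) (Nat.mul_le_mul (by omega) (by omega))
    have := Nat.mul_le_mul_left Fx.card h2
    omega
  obtain ⟨v, hv, w, hw, hvw, heq⟩ : ∃ v ∈ Fx, ∃ w ∈ Fx, v ≠ w ∧ cU v = cU w := by
    refine Finset.exists_ne_map_eq_of_card_lt_of_maps_to (t := Finset.univ.image C.S.χ) ?_ fun v _ => ?_
    · refine lt_of_le_of_lt Finset.card_image_le ?_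
      rw [Finset.card_univ, ZMod.card]; omega
    · obtain ⟨a, ha⟩ := C.S.exists_χ (C.S.coeff_cube (hcU v))
      exact Finset.mem_image.2 ⟨a, Finset.mem_univ _, ha.symm⟩
  obtain ⟨c, hc⟩ : ∃ c, c = v - w := ⟨_, rfl⟩
  have hc0 : c ≠ 0 := hc ▸ sub_ne_zero.2 hvw
  have hUc : cj U (C.S.E c) = C.S.E c := by
    have hv' : π v = v := by rw [hFx] at hv; exact (Finset.mem_filter.1 hv).2
    have hw' : π w = w := by rw [hFx] at hw; exact (Finset.mem_filter.1 hw).2
    have h1 : cj U (C.S.E c) = cU c • C.S.E c := by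
      have h' := hcU c
      rwa [hc, hπ.sub C.S, hv', hw', ← hc] at h'
    have e := congrArg (cj U) (C.S.E_mul c w)
    rw [hc, sub_add_cancel, ← hc, cj_mul, cj_smul, h1, hcU w, hw', hcU v, hv', ← heq, smul_mul_smul_comm,
      Frm.E_mul, hc, sub_add_cancel, ← hc, smul_smul, smul_smul] at e
    have h2 := (C.S.smul_E_eq e (mul_ne_zero (mul_ne_zero (C.S.coeff_ne h1) (C.S.coeff_ne (hcU v))) (C.S.χ_ne _))).2
    have hone : cU c = 1 := mul_right_cancel₀ (mul_ne_zero (C.S.χ_ne (C.S.d c.2 w.1)) (C.S.coeff_ne (hcU v)))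
      (by linear_combination h2)
    rw [h1, hone, one_smul]
  obtain ⟨n, hn, σ, hσ, hσa⟩ := O.exists_move hc0
  obtain ⟨ε, hε⟩ := hσ va
  rw [hσa] at hε
  have hnU : cj (n⁻¹ * U * n) (C.S.E va) = C.S.E va := by
    have e := congrArg (cj n⁻¹) hε
    rw [cj_inv_cj, cj_smul] at e
    rw [cj_comp, hε, cj_smul, cj_comp, hUc, ← e]
  obtain ⟨x, hx⟩ : ∃ x, x = n * kr C.x0 * n⁻¹ := ⟨_, rfl⟩
  have hxM : x ∈ O.M := hx ▸ mul_mem (mul_mem hn (O.kr_mem C.x0_mem)) (inv_mem hn)
  have hxP : C.S.Perm x (C.tvn c) := by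
    rw [hx, ← hσa]; exact C.perm_conj_tv hσ C.perm_xa
  have hxU : x * U = U * x := by
    have := C.commute_xa hnU
    calc x * U = n * (kr C.x0 * (n⁻¹ * U * n)) * n⁻¹ := by rw [hx]; group
      _ = U * x := by rw [← this, hx]; group
  have hx3 : x * x * x = 1 := by
    have h3 : (kr C.x0 : GL P2 F) * kr C.x0 * kr C.x0 = 1 := by
      rw [← map_mul, ← map_mul, x0, Frm.dg_mul, Frm.dg_mul]
      rw [show ((fun k : P1 => 2 * (k * k)) + fun k => 2 * (k * k)) + (fun k => 2 * (k * k)) = 0 by decide,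
        Frm.dg_zero, map_one]
    calc x * x * x = n * (kr C.x0 * kr C.x0 * kr C.x0) * n⁻¹ := by rw [hx]; group
      _ = 1 := by rw [h3]; group
  have hcU' : U * C.S.u c = C.S.u c * U := Units.ext (by
    rw [Units.val_mul, Units.val_mul, Frm.u_val]; exact mul_eq_of_cj hUc)
  have hxc : x * C.S.u c = C.S.u c * x := by
    have h0 : kr C.x0 * C.S.u va = C.S.u va * kr C.x0 := (C.commute_xa (by
      rw [Frm.cj_u, Frm.B_self, Frm.χ_zero, one_smul])).symm
    have hval : ((n * C.S.u va * n⁻¹ : GL P2 F) : Matrix P2 P2 F) = ε • C.S.E c := by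
      rw [← cj_coe, Frm.u_val, hε]
    refine Units.ext (smul_right_injective _ (C.S.coeff_ne hε) ?_)
    show ε • ((x * C.S.u c : GL P2 F) : Matrix P2 P2 F) = ε • ((C.S.u c * x : GL P2 F) : Matrix P2 P2 F)
    rw [Units.val_mul, Units.val_mul, Frm.u_val, ← mul_smul_comm, ← smul_mul_assoc, ← hval, ← Units.val_mul,
      ← Units.val_mul]
    congr 1
    calc x * (n * C.S.u va * n⁻¹) = n * (kr C.x0 * C.S.u va) * n⁻¹ := by rw [hx]; group
      _ = _ := by rw [h0, hx]; group
  have hin : ∀ y : GL P2 F, y ∈ O.M → y * U = U * y → C.S.Norm (g⁻¹ * y * g) := fun y hy' hc' => by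
    refine O.norm_of_fix_va hy (mul_mem (mul_mem (inv_mem hg) hy') hg) ?_
    rw [← Frm.u_val, cj_coe]
    congr 1
    have e : C.S.u va = g⁻¹ * U * g := by rw [hUdef]; group
    calc g⁻¹ * y * g * C.S.u va * (g⁻¹ * y * g)⁻¹ = g⁻¹ * (y * U * y⁻¹) * g := by rw [e]; group
      _ = _ := by rw [hc', mul_inv_cancel_right, ← e]
  obtain ⟨D, hD⟩ : ∃ D, D = g⁻¹ * C.S.u c * g := ⟨_, rfl⟩
  obtain ⟨P, hP⟩ : ∃ P, P = g⁻¹ * x * g := ⟨_, rfl⟩
  obtain ⟨πD, hπD⟩ := (hD ▸ hin _ (O.u_mem c) hcU'.symm : C.S.Norm D).exists_perm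
  obtain ⟨π0, hπ0⟩ := (hP ▸ hin x hxM hxU : C.S.Norm P).exists_perm
  have hDP : D * P = P * D := by
    calc D * P = g⁻¹ * (C.S.u c * x) * g := by rw [hD, hP]; group
      _ = P * D := by rw [← hxc, hD, hP]; group
  have htv : ∀ (y : GL P2 F) (ρ : V → V) (m : ZMod 3), C.S.Perm y ρ →
      y = g⁻¹ * (C.S.u c ^ m.val * x) * g → ∃ (d : V) (l : ZMod 3), l ≠ 0 ∧ d ≠ 0 ∧
        ∀ v, ρ v = v + (l * C.S.B d v) • d := by
    intro y ρ m hρ hy'
    obtain ⟨v0, hv0⟩ : ∃ v0, C.S.B c v0 = -m := by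
      obtain ⟨u, hu⟩ := C.S.B_nd_one hc0
      exact ⟨(-m) • u, by rw [B_smul', hu, mul_one]⟩
    obtain ⟨γ, hγ⟩ : ∃ γ : F, ((C.S.u c ^ m.val * x : GL P2 F) : Matrix P2 P2 F) =
        γ • ((C.S.u v0 * x * (C.S.u v0)⁻¹ : GL P2 F) : Matrix P2 P2 F) := by
      obtain ⟨e, he⟩ := hxP v0
      have hpow : ∀ k : ℕ, ∃ γ : F, ((C.S.u c ^ k : GL P2 F) : Matrix P2 P2 F) = γ • C.S.E (k • c) := by
        intro k
        induction k with
        | zero => exact ⟨1, by rw [pow_zero, zero_smul, Frm.E_zero, one_smul]; rfl⟩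
        | succ k ih =>
          obtain ⟨γ, hγ⟩ := ih
          exact ⟨γ * C.S.χ (C.S.d (k • c).2 c.1), by
            rw [pow_succ, Units.val_mul, hγ, Frm.u_val, smul_mul_assoc, Frm.E_mul, smul_smul, succ_nsmul]⟩
      obtain ⟨γ, hγ⟩ := hpow m.val
      have hinv : cj x ((((C.S.u v0)⁻¹ : GL P2 F)) : Matrix P2 P2 F) =
          e⁻¹ • (((C.S.u (C.tvn c v0))⁻¹ : GL P2 F) : Matrix P2 P2 F) := by
        have hne := C.S.coeff_ne he
        have h1 : ((x * C.S.u v0 * x⁻¹ : GL P2 F) : Matrix P2 P2 F) = e • C.S.E (C.tvn c v0) := by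
          rw [← cj_coe, Frm.u_val, he]
        have h2 : (((x * C.S.u v0 * x⁻¹)⁻¹ : GL P2 F) : Matrix P2 P2 F) =
            e⁻¹ • (((C.S.u (C.tvn c v0))⁻¹ : GL P2 F) : Matrix P2 P2 F) := by
          refine Units.inv_eq_of_mul_eq_one_right ?_
          rw [h1, smul_mul_smul_comm, mul_inv_cancel₀ hne, one_smul, ← C.S.u_val, Units.mul_inv]
        rw [← h2, cj_coe]
        congr 1
        group
      obtain ⟨t, ht⟩ : ∃ t : F, ((C.S.u v0 * x * (C.S.u v0)⁻¹ : GL P2 F) : Matrix P2 P2 F) =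
          t • (C.S.E (v0 - C.tvn c v0) * (x : Matrix P2 P2 F)) := by
        refine ⟨e⁻¹ * C.S.χ (C.S.d (C.tvn c v0).2 (C.tvn c v0).1) * C.S.χ (C.S.d v0.2 (-C.tvn c v0).1), ?_⟩
        rw [show C.S.u v0 * x * (C.S.u v0)⁻¹ = C.S.u v0 * (x * (C.S.u v0)⁻¹ * x⁻¹) * x by group,
          Units.val_mul, Units.val_mul, ← cj_coe, hinv, Frm.u_val, Frm.u_inv_val, smul_smul, mul_smul_comm,
          Frm.E_mul, smul_smul, smul_mul_assoc, sub_eq_add_neg]
      have hidx : v0 - C.tvn c v0 = m.val • c := by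
        rw [tvn, hv0, val_smul, val_smul, neg_smul, sub_add_eq_sub_sub, sub_self, zero_sub, neg_neg]
      rw [hidx] at ht
      have ht0 : t ≠ 0 := fun e' => (C.S.u v0 * x * (C.S.u v0)⁻¹).ne_zero (by rw [ht, e', zero_smul])
      refine ⟨γ * t⁻¹, ?_⟩
      rw [ht, smul_smul, mul_assoc, inv_mul_cancel₀ ht0, mul_one, Units.val_mul, hγ, smul_mul_assoc]
    have hT : 45 ≤ Ctr y := by
      rw [hy', show g⁻¹ * (C.S.u c ^ m.val * x) * g = g⁻¹ * (C.S.u c ^ m.val * x) * g⁻¹⁻¹ by group, Ctr_conj,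
        Ctr_smul hγ, Ctr_conj, hx, Ctr_conj]
      exact C.Ctr_xa
    refine C.tv_of_Ctr hρ (fun v => ?_) (fun d hd => ?_) hT
    swap
    · have e1 : y = g⁻¹ * (C.S.u c ^ m.val * x) * g⁻¹⁻¹ := by rw [hy', inv_inv]
      have e2 : ((C.S.u c ^ m.val * x : GL P2 F) : Matrix P2 P2 F) = d • 1 := by
        rw [show C.S.u c ^ m.val * x = g * y * g⁻¹ by rw [e1]; group, ← cj_coe, hd, cj_smul, cj_one]
      have hγ0 : γ ≠ 0 := fun e => (C.S.u c ^ m.val * x).ne_zero (by rw [hγ, e, zero_smul])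
      have e3 : ((C.S.u v0 * x * (C.S.u v0)⁻¹ : GL P2 F) : Matrix P2 P2 F) = (γ⁻¹ * d) • 1 := by
        rw [← smul_smul, ← e2, hγ, smul_smul, inv_mul_cancel₀ hγ0, one_smul]
      have e4 : (x : Matrix P2 P2 F) = (γ⁻¹ * d) • 1 := by
        have h := congrArg (cj (C.S.u v0)⁻¹) e3
        rw [← cj_coe, cj_inv_cj, cj_smul, cj_one] at h
        exact h
      obtain ⟨u, hu⟩ := C.S.B_nd_one hc0
      obtain ⟨a, ha⟩ := hxP u
      rw [cj_of_smul (h := (1 : GL P2 F)) e4, cj_one_left] at ha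
      have := (C.S.smul_E_eq (c := 1) ((one_smul F _).trans ha) one_ne_zero).1
      rw [tvn, hu, ZMod.val_one, one_smul] at this
      exact hc0 (left_eq_add.1 this)
    have hy3 : y * y * y = 1 := by
      have hcm : Commute (C.S.u c ^ m.val) x := (Commute.pow_left (show Commute (C.S.u c) x from hxc.symm) _)
      have h3 : (C.S.u c ^ m.val * x) * (C.S.u c ^ m.val * x) * (C.S.u c ^ m.val * x) = 1 := by
        have hu3 : C.S.u c ^ 3 = 1 := Units.ext (by
          rw [Units.val_pow_eq_pow_val, Frm.u_val, Frm.E_cube]; rfl)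
        rw [← pow_two, ← pow_succ, hcm.mul_pow, ← pow_mul, mul_comm, pow_mul, hu3, one_pow, one_mul, pow_succ,
          pow_two, hx3]
      calc y * y * y = g⁻¹ * ((C.S.u c ^ m.val * x) * (C.S.u c ^ m.val * x) * (C.S.u c ^ m.val * x)) * g := by
            rw [hy']; group
        _ = 1 := by rw [h3]; group
    have := (hρ.comp C.S hρ).comp C.S hρ
    rw [hy3] at this
    exact congrFun (this.unique C.S C.S.perm_one) v
  obtain ⟨c0, l0, hl0, hc0', f0⟩ := htv P π0 0 hπ0 (by rw [hP, show (0 : ZMod 3).val = 0 from rfl, pow_zero, one_mul])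
  obtain ⟨c1, l1, hl1, hc1, f1⟩ := htv (D * P) (πD ∘ π0) 1 (hπD.comp C.S hπ0) (by
    rw [hD, hP, ZMod.val_one, pow_one]; group)
  obtain ⟨c2, l2, hl2, hc2, f2⟩ := htv (D * (D * P)) (πD ∘ (πD ∘ π0)) 2 (hπD.comp C.S (hπD.comp C.S hπ0)) (by
    rw [hD, hP, show (2 : ZMod 3).val = 2 from rfl, pow_two]; group)
  have hcomm : ∀ v, πD (π0 v) = π0 (πD v) := fun v => by
    have h1 := hπD.comp C.S hπ0
    rw [hDP] at h1
    exact congrFun (h1.unique C.S (hπ0.comp C.S hπD)) v
  have hperp : ∀ {a b : V} {la lb : ZMod 3}, la ≠ 0 → lb ≠ 0 → a ≠ 0 → b ≠ 0 →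
      (∀ v : V, (la * (lb * C.S.B b v * C.S.B a b)) • a = (lb * (la * C.S.B a v * C.S.B b a)) • b) →
      C.S.B a b = 0 := by
    intro a b la lb hla hlb ha0 hb0 h
    by_contra hab
    obtain ⟨u, hu⟩ := C.S.B_nd_one hb0
    have h' := h u
    rw [hu] at h'
    have hk : la * (lb * 1 * C.S.B a b) ≠ 0 := mul_ne_zero hla (mul_ne_zero (mul_ne_zero hlb one_ne_zero) hab)
    have := congrArg (C.S.B · b) h'
    simp only [B_smul_left', Frm.B_self, mul_zero] at this
    exact mul_ne_zero hk hab this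
  have hcross : ∀ {a b : V} {la lb : ZMod 3} {p q : V → V}, la ≠ 0 → lb ≠ 0 → a ≠ 0 → b ≠ 0 →
      (∀ v, p v = v + (la * C.S.B a v) • a) → (∀ v, q v = v + (lb * C.S.B b v) • b) → (∀ v, p (q v) = q (p v)) →
      C.S.B a b = 0 := by
    intro a b la lb p q hla hlb ha0 hb0 hp hq hpq
    refine hperp hla hlb ha0 hb0 fun v => ?_
    have e := hpq v
    rw [hp, hq (p v), hp v, hq v, Frm.B_add, Frm.B_add, B_smul', B_smul', mul_add, add_smul, mul_add, add_smul,
      ← sub_eq_zero] at e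
    rw [← sub_eq_zero, ← e]
    abel
  have h02 : C.S.B c2 c0 = 0 := hcross hl2 hl0 hc2 hc0' f2 f0 fun v => by simp only [Function.comp_apply, hcomm]
  have h11 : C.S.B c1 c1 = 0 := C.S.B_self c1
  have hN : ∀ v, (l0 * C.S.B c0 v) • c0 + (l2 * C.S.B c2 v) • c2 = (2 * (l1 * C.S.B c1 v)) • c1 := by
    intro v
    have e : (πD ∘ (πD ∘ π0)) (π0 v) = (πD ∘ π0) ((πD ∘ π0) v) := by simp only [Function.comp_apply, hcomm]
    rw [f2, f0, f1, f1, Frm.B_add, B_smul', h02, mul_zero, add_zero, Frm.B_add, B_smul', h11, mul_zero, add_zero,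
      add_assoc, add_assoc] at e
    rw [add_right_inj] at e
    rw [e, ← add_smul, two_mul]
  have hsame := C.same_line hc0' hc1 hc2 hl0 hl1 hl2 hN
  have hπ01 : ∀ v, πD (π0 v) = π0 v := fun v => by
    have := f1 v
    simp only [Function.comp_apply] at this
    rw [this, f0, hsame]
  obtain ⟨σ0, hσ0, -, hr⟩ := hπ0.exists_inv C.S
  obtain ⟨s, w', hw'⟩ := C.S.isP_of_fix (g := D) fun v => by
    obtain ⟨d, hd⟩ := hπD v
    exact ⟨d, by rw [hd, show πD v = v by rw [← hr v, hπ01]]⟩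
  have hmap : cj g (C.S.E w') = s⁻¹ • C.S.E c := by
    have hs : s ≠ 0 := fun e => D.ne_zero (by rw [hw', e, zero_smul])
    have e : cj g (D : Matrix P2 P2 F) = C.S.E c := by
      rw [cj_coe, hD, show g * (g⁻¹ * C.S.u c * g) * g⁻¹ = C.S.u c by group, Frm.u_val]
    rw [hw', cj_smul] at e
    rw [← e, smul_smul, inv_mul_cancel₀ hs, one_smul]
  have hw0 : w' ≠ 0 := by
    rintro rfl
    rw [Frm.E_zero, cj_one] at hmap
    exact hc0 (C.S.smul_E_eq_one (c := s⁻¹) (d := 1) (by rw [one_smul]; exact hmap.symm) (inv_ne_zero fun e => D.ne_zero (by rw [hw', e, zero_smul]))).1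
  exact O.norm_of_map hy hg hw0 hmap

theorem norm_of_conj (hy : C.cube ∉ O.M) {g : GL P2 F} (hg : g ∈ O.M) {w : V} (hw : w ≠ 0)
    (hU : C.S.Norm (g * C.S.u w * g⁻¹)) : C.S.Norm g := by
  obtain ⟨n, hn, π, hπ, hπa⟩ := O.exists_move hw
  obtain ⟨a, ha⟩ := hπ va
  rw [hπa] at ha
  have e : ((g * n * C.S.u va * (g * n)⁻¹ : GL P2 F) : Matrix P2 P2 F) =
      a • ((g * C.S.u w * g⁻¹ : GL P2 F) : Matrix P2 P2 F) := by
    rw [← cj_coe, ← cj_coe, Frm.u_val, Frm.u_val, cj_comp, ha, cj_smul]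
  have := O.norm_of_conj_va hy (mul_mem hg hn) (C.S.norm_of_smul e hU)
  rw [show g = g * n * n⁻¹ by group]
  exact this.mul C.S ((hπ.norm C.S).inv C.S)

end Over

end CfsgLib.Geo.HeisNine
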