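import Cfsg.Agent.Geo.HeisNine.Model
import Cfsg.Agent.Aschbacher.General.ClassTwo
import Cfsg.Agent.Geo.TensorLinearMaximal
import Cfsg.Agent.KGroup.Symplectic

/-!
An absolutely irreducible 3-group of symplectic type in dimension nine is conjugate to the monomials of the model
times cube roots of unity.
-/

set_option autoImplicit false
set_option linter.unusedSectionVars false
set_option linter.style.haveILetI false

namespace CfsgLib.Geo.HeisNine

open Matrix Cfsg Cfsg.Geo CfsgLib.Geo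

section CentralThree

open Subgroup

variable {G : Type*} [Group G] [Finite G]

/-- Commutators are central in a 3-group of exponent three whose characteristic abelian subgroups are cyclic. -/
theorem comm_central_three (hP : IsPGroup 3 G) (h3 : ∀ x : G, x ^ 3 = 1)
    (hsym : ∀ H : Subgroup G, H.Characteristic → IsMulCommutative H → IsCyclic H) :
    commutator G ≤ center G := by
  haveI : Fact (Nat.Prime 3) := ⟨Nat.prime_three⟩
  haveI : Group.IsNilpotent G := hP.isNilpotent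
  classical
  by_contra hcl
  -- an element of the derived group in the second centre but not the first
  obtain ⟨u, huc, huZ, hu2⟩ : ∃ u ∈ commutator G, u ∉ center G ∧
      ∀ g : G, u * g * u⁻¹ * g⁻¹ ∈ center G := by
    have hex : ∃ i, ∃ u ∈ commutator G, u ∈ Subgroup.upperCentralSeries G i ∧ u ∉ center G := by
      obtain ⟨N, hN⟩ := (Group.IsNilpotent.nilpotent (G := G))
      obtain ⟨u, hu, huZ⟩ := SetLike.not_le_iff_exists.1 hcl
      exact ⟨N, u, hu, hN ▸ mem_top u, huZ⟩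
    obtain ⟨u, hu, hui, huZ⟩ := Nat.find_spec hex
    refine ⟨u, hu, huZ, fun g => ?_⟩
    rcases hi : Nat.find hex with _ | i
    · rw [hi, Subgroup.upperCentralSeries_zero, mem_bot] at hui
      exact absurd (hui ▸ one_mem _) huZ
    · rw [hi, Subgroup.mem_upperCentralSeries_succ_iff] at hui
      have hg := hui g
      rw [commutatorElement_def] at hg
      by_contra hnot
      refine Nat.find_min hex (m := i) (by omega) ⟨_, ?_, hg, hnot⟩
      rw [← commutatorElement_def]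
      exact commutator_mem_commutator (mem_top u) (mem_top g)
  set A := commutator G ⊓ Subgroup.upperCentralSeries G 2 with hA
  have hmemA : ∀ a : G, a ∈ A ↔ a ∈ commutator G ∧ ∀ g : G, a * g * a⁻¹ * g⁻¹ ∈ center G := by
    intro a
    rw [hA, mem_inf, Subgroup.mem_upperCentralSeries_succ_iff, Subgroup.upperCentralSeries_one]
    simp only [commutatorElement_def]
  have huA : u ∈ A := (hmemA u).2 ⟨huc, hu2⟩
  have hcentA : ∀ a ∈ A, commutator G ≤ centralizer ({a} : Set G) := by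
    intro a ha
    have hz := ((hmemA a).1 ha).2
    let χ : G →* center G := MonoidHom.mk' (fun g => ⟨a * g * a⁻¹ * g⁻¹, hz g⟩) fun g h =>
      Subtype.ext (by
        show a * (g * h) * a⁻¹ * (g * h)⁻¹ = (a * g * a⁻¹ * g⁻¹) * (a * h * a⁻¹ * h⁻¹)
        calc a * (g * h) * a⁻¹ * (g * h)⁻¹
            = (a * g * a⁻¹ * g⁻¹) * (g * (a * h * a⁻¹ * h⁻¹) * g⁻¹) := by group
          _ = _ := by rw [mem_center_iff.1 (hz h) g, mul_inv_cancel_right])
    have hker : commutator G ≤ χ.ker := by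
      rw [_root_.commutator_def, commutator_le]
      intro v _ w _
      rw [MonoidHom.mem_ker, map_commutatorElement, commutatorElement_eq_one_iff_mul_comm]
      exact Subtype.ext (mem_center_iff.1 (χ w).2 (χ v : G))
    intro w hw
    rw [mem_centralizer_singleton_iff]
    have h1 : a * w * a⁻¹ * w⁻¹ = 1 := congrArg Subtype.val (MonoidHom.mem_ker.1 (hker hw))
    exact (mul_inv_eq_iff_eq_mul.1 (mul_inv_eq_one.1 h1)).symm
  haveI hAchar : A.Characteristic := CfsgLib.Symp.char_inf inferInstance inferInstance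
  have hAc : IsMulCommutative A := ⟨⟨fun a b => Subtype.ext
    (mem_centralizer_singleton_iff.1 (hcentA b b.2 a.2.1))⟩⟩
  haveI hAcyc : IsCyclic A := hsym A inferInstance hAc
  have hcard : Nat.card A = 3 := by
    have hd : Monoid.exponent A ∣ 3 := Monoid.exponent_dvd_of_forall_pow_eq_one fun a =>
      Subtype.ext (by simpa using h3 a)
    rw [IsCyclic.exponent_eq_card] at hd
    refine ((Nat.dvd_prime Nat.prime_three).1 hd).resolve_left fun h => huZ ?_
    have h1 : A = ⊥ := Subgroup.card_eq_one.1 h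
    rw [h1, mem_bot] at huA
    rw [huA]
    exact one_mem _
  refine huZ (mem_center_iff.2 fun g => ?_)
  by_contra hne
  have hdA : g * u * g⁻¹ * u⁻¹ ∈ A := mul_mem ((inferInstance : A.Normal).conj_mem u huA g) (inv_mem huA)
  have hdZ : g * u * g⁻¹ * u⁻¹ ∈ center G := by
    have := inv_mem (hu2 g)
    rwa [show (u * g * u⁻¹ * g⁻¹)⁻¹ = g * u * g⁻¹ * u⁻¹ by group] at this
  have hd1 : (⟨_, hdA⟩ : A) ≠ 1 := fun e => hne (by
    have h1 : g * u * g⁻¹ * u⁻¹ = 1 := congrArg Subtype.val e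
    exact mul_inv_eq_iff_eq_mul.1 (mul_inv_eq_one.1 h1))
  have hu : (⟨u, huA⟩ : A) ∈ zpowers (⟨_, hdA⟩ : A) := by
    rw [zpowers_eq_top_of_prime_card hcard hd1]; trivial
  obtain ⟨n, hn⟩ := mem_zpowers_iff.1 hu
  have hn' : (g * u * g⁻¹ * u⁻¹) ^ n = u := by
    have := congrArg Subtype.val hn
    simpa using this
  exact huZ (hn' ▸ zpow_mem hdZ n)

end CentralThree

section GroupData

variable {ι : Type} [Fintype ι] [DecidableEq ι] {F : Type*} [Field F] [Fintype F]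

/-- The facts about the group used below. -/
structure GData (C : Ctx F) (R : Subgroup (GL ι F)) : Prop where
  commutant : ∀ M : Matrix ι ι F, (∀ g ∈ R, M * (g : Matrix ι ι F) = g * M) → ∃ c : F, M = c • 1
  scal : ∀ k : ZMod 3, ∃ g ∈ R, (g : Matrix ι ι F) = C.S.χ k • 1
  comm : ∀ x ∈ R, ∀ y ∈ R, ∃ k : ZMod 3,
    (x : Matrix ι ι F) * y = C.S.χ k • ((y : Matrix ι ι F) * x)
  cube : ∀ x ∈ R, x ^ 3 = 1
  span : Submodule.span F {M : Matrix ι ι F | ∃ g ∈ R, (g : Matrix ι ι F) = M} = ⊤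
  card_ι : Fintype.card ι = 9

theorem gdata_of_irred (C : Ctx F) {R : Subgroup (GL ι F)} (hι : Fintype.card ι = 9)
    (hsym : IsSymplecticTypeGroup 3 R) (hirr : ActsAbsolutelyIrreducibly (matrixSet R))
    (hc3 : Nat.card (Subgroup.center R) = 3) : GData C R := by
  classical
  haveI : Nonempty ι := Fintype.card_pos_iff.1 (by omega)
  have hexp : Monoid.exponent R = 3 := by
    have := hsym.exponent_eq
    simpa using this
  have hcube : ∀ x ∈ R, x ^ 3 = 1 := fun x hx => by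
    have := congrArg Subtype.val (Monoid.pow_exponent_eq_one (⟨x, hx⟩ : R))
    rw [hexp] at this
    simpa using this
  have hM : ∀ M : Matrix ι ι F, (∀ g ∈ R, M * (g : Matrix ι ι F) = g * M) → ∃ c : F, M = c • 1 := fun M hM =>
    hirr.2 M (by rintro _ ⟨g, hg, rfl⟩; exact hM g hg)
  have hcent : ∀ z : Subgroup.center R, ∃ k : ZMod 3,
      (((z : R) : GL ι F) : Matrix ι ι F) = C.S.χ k • 1 := by
    intro z
    obtain ⟨c, hc⟩ := hM ((z : R) : GL ι F) fun g hg =>
      (congrArg (fun u : R => ((u : GL ι F) : Matrix ι ι F)) (Subgroup.mem_center_iff.1 z.2 ⟨g, hg⟩)).symm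
    have h1 : c ^ 3 = 1 := by
      have h1 := congrArg (fun u : GL ι F => (u : Matrix ι ι F)) (hcube _ (z : R).2)
      simp only [Units.val_pow_eq_pow_val, hc, smul_pow, one_pow, Units.val_one] at h1
      exact smul_left_injective F (one_ne_zero (α := Matrix ι ι F)) (h1.trans (one_smul F _).symm)
    obtain ⟨k, hk⟩ := C.S.exists_χ h1
    exact ⟨k, by rw [hc, hk]⟩
  choose f hf using hcent
  have hinj : Function.Injective f := fun a b e => Subtype.ext (Subtype.ext (Units.ext (by rw [hf, hf, e])))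
  have hbij := hinj.bijective_of_nat_card_le (by rw [hc3, Nat.card_zmod])
  refine ⟨hM, fun k => ?_, fun x hx y hy => ?_, hcube, ?_, hι⟩
  · obtain ⟨z, hz⟩ := hbij.2 k
    exact ⟨_, (z : R).2, by rw [hf, hz]⟩
  · have hz : (⟨x, hx⟩ : R) * ⟨y, hy⟩ * (⟨x, hx⟩ : R)⁻¹ * (⟨y, hy⟩ : R)⁻¹ ∈ Subgroup.center R :=
      comm_central_three hsym.pGroup (fun a => Subtype.ext (by simpa using hcube a.1 a.2))
        hsym.cyclic_of_characteristic
        (Subgroup.commutator_mem_commutator (Subgroup.mem_top _) (Subgroup.mem_top _))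
    refine ⟨f ⟨_, hz⟩, ?_⟩
    rw [← one_mul ((y : Matrix ι ι F) * x), ← smul_mul_assoc, ← hf ⟨_, hz⟩, ← Units.val_mul, ← Units.val_mul,
      ← Units.val_mul]
    refine congrArg Units.val ?_
    show x * y = x * y * x⁻¹ * y⁻¹ * (y * x)
    group
  · rw [eq_top_iff]
    intro X _
    have hX := CfsgLib.Aschbacher.mem_adjoin_of_absIrred hirr X
    rw [← Subalgebra.mem_toSubmodule, Algebra.adjoin_eq_span] at hX
    refine Submodule.span_mono ?_ hX
    intro Y hY
    induction hY using Submonoid.closure_induction with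
    | mem x hx =>
      obtain ⟨g, hg, rfl⟩ := hx
      exact ⟨g, hg, rfl⟩
    | one => exact ⟨1, R.one_mem, rfl⟩
    | mul x y _ _ hx hy =>
      obtain ⟨a, ha, rfl⟩ := hx
      obtain ⟨b, hb, rfl⟩ := hy
      exact ⟨a * b, R.mul_mem ha hb, rfl⟩

theorem gdata_of_data (C : Ctx F) {R : Subgroup (GL ι F)} (hι : Fintype.card ι = 9)
    (h : IsLinearSymplecticTypeData 3 R) : GData C R := by
  obtain ⟨p, e, -, -, hcases⟩ := h.field
  refine gdata_of_irred C hι h.symplecticType h.absIrred ?_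
  rcases hcases with ⟨-, -, h, -⟩ | ⟨h, -⟩ | ⟨h, -⟩
  · exact h
  · exact absurd h (by norm_num)
  · exact absurd h (by norm_num)

/-- A matrix of an element of the group. -/
def InG (R : Subgroup (GL ι F)) (M : Matrix ι ι F) : Prop := ∃ g ∈ R, (g : Matrix ι ι F) = M

variable {R : Subgroup (GL ι F)} {C : Ctx F}

theorem InG.mul {M N : Matrix ι ι F} (hM : InG R M) (hN : InG R N) : InG R (M * N) := by
  obtain ⟨g, hg, rfl⟩ := hM
  obtain ⟨h, hh, rfl⟩ := hN
  exact ⟨g * h, mul_mem hg hh, rfl⟩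

theorem InG.one : InG R (1 : Matrix ι ι F) := ⟨1, R.one_mem, rfl⟩

theorem InG.pow {M : Matrix ι ι F} (hM : InG R M) (n : ℕ) : InG R (M ^ n) := by
  obtain ⟨g, hg, rfl⟩ := hM
  exact ⟨g ^ n, pow_mem hg n, Units.val_pow_eq_pow_val g n⟩

/-- Powers in a quasi-commuting pair. -/
theorem smul_comm_pow {A B : Matrix ι ι F} {c : F} (h : A * B = c • (B * A)) (n : ℕ) :
    A * B ^ n = c ^ n • (B ^ n * A) ∧ A ^ n * B = c ^ n • (B * A ^ n) := by
  induction n with
  | zero => simp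
  | succ n ih =>
    constructor
    · rw [pow_succ, ← mul_assoc, ih.1, smul_mul_assoc, mul_assoc, h, mul_smul_comm, smul_smul, ← mul_assoc,
        ← pow_succ, ← pow_succ]
    · rw [pow_succ', mul_assoc, ih.2, mul_smul_comm, ← mul_assoc, h, smul_mul_assoc, smul_smul, mul_assoc,
        ← pow_succ', ← pow_succ]

variable (hD : GData C R)
include hD

theorem GData.smul_mem {M : Matrix ι ι F} (hM : InG R M) (k : ZMod 3) : InG R (C.S.χ k • M) := by
  obtain ⟨g, hg, hgc⟩ := hD.scal k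
  have := InG.mul ⟨g, hg, hgc⟩ hM
  rwa [smul_mul_assoc, one_mul] at this

theorem GData.comm' {M N : Matrix ι ι F} (hM : InG R M) (hN : InG R N) :
    ∃ k : ZMod 3, M * N = C.S.χ k • (N * M) := by
  obtain ⟨g, hg, rfl⟩ := hM
  obtain ⟨h, hh, rfl⟩ := hN
  exact hD.comm g hg h hh

theorem GData.cube' {M : Matrix ι ι F} (hM : InG R M) : M ^ 3 = 1 := by
  obtain ⟨g, hg, rfl⟩ := hM
  rw [← Units.val_pow_eq_pow_val, hD.cube g hg, Units.val_one]

theorem GData.not_scalar (n : ℕ) (hn : n < 81) (T : Fin n → Matrix ι ι F) (Q : Matrix ι ι F → Prop)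
    (hT : ∀ x, InG R x → ∃ y i, InG R y ∧ Q y ∧ x = y * T i) :
    ∃ a, InG R a ∧ Q a ∧ ∀ c : F, a ≠ c • 1 := by
  by_contra hno
  push Not at hno
  have hsub : {M : Matrix ι ι F | ∃ g ∈ R, (g : Matrix ι ι F) = M} ⊆ Submodule.span F (Set.range T) := by
    intro M hM
    obtain ⟨y, i, hy, hQ, hxy⟩ := hT M hM
    obtain ⟨c, hc⟩ := hno y hy hQ
    rw [hxy, hc, smul_mul_assoc, one_mul]
    exact Submodule.smul_mem _ _ (Submodule.subset_span ⟨i, rfl⟩)
  have htop := Submodule.span_le.2 hsub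
  rw [hD.span, top_le_iff] at htop
  have h := finrank_range_le_card (R := F) T
  rw [Set.finrank, htop, finrank_top, Module.finrank_matrix, Module.finrank_self, hD.card_ι, Fintype.card_fin] at h
  omega

theorem GData.partner {Q : Matrix ι ι F → Prop} (hQpow : ∀ x n, Q x → Q (x ^ n)) {a : Matrix ι ι F}
    (ha : InG R a) (hns : ∀ c : F, a ≠ c • 1)
    (hcorr : ∀ x, InG R x → ∃ y t, InG R y ∧ Q y ∧ a * t = t * a ∧ x = y * t) :
    ∃ b, InG R b ∧ Q b ∧ a * b = C.ω • (b * a) := by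
  obtain ⟨x, hx, hxa⟩ : ∃ x, InG R x ∧ a * x ≠ x * a := by
    by_contra hno
    push Not at hno
    obtain ⟨c, hc⟩ := hD.commutant a fun g hg => hno _ ⟨g, hg, rfl⟩
    exact hns c hc
  obtain ⟨y, t, hy, hQ, hat, rfl⟩ := hcorr x hx
  obtain ⟨k, hk⟩ := hD.comm' ha hy
  have hk0 : k ≠ 0 := fun e => hxa (by
    rw [e, Frm.χ_zero, one_smul] at hk
    rw [← mul_assoc, hk, mul_assoc, hat, mul_assoc])
  refine ⟨y ^ k.val, hy.pow _, hQpow _ _ hQ, ?_⟩
  rw [(smul_comm_pow hk k.val).1]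
  congr 1
  show (C.ω ^ k.val) ^ k.val = C.ω
  rw [← pow_mul, ← pow_mul_pow_sub C.ω (le_refl (k.val * k.val)), Nat.sub_self, pow_zero, mul_one,
    pow_eq_pow_mod _ C.prim.pow_eq_one]
  have : k.val * k.val % 3 = 1 := (show ∀ k : ZMod 3, k ≠ 0 → k.val * k.val % 3 = 1 by decide) k hk0
  rw [this, pow_one]

theorem GData.correct {a b : Matrix ι ι F} (ha : InG R a) (hb : InG R b) (hab : a * b = C.ω • (b * a))
    {x : Matrix ι ι F} (hx : InG R x) :
    ∃ y, ∃ i j : Fin 3, InG R y ∧ y * a = a * y ∧ y * b = b * y ∧ x = y * (b ^ (i : ℕ) * a ^ (j : ℕ)) := by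
  obtain ⟨i, hi⟩ := hD.comm' hx ha
  obtain ⟨j, hj⟩ := hD.comm' hx hb
  have hω : C.S.χ 1 = C.ω := C.S.χ_one
  have hba : b * a = C.S.χ 2 • (a * b) := by
    rw [hab, smul_smul, ← hω, ← Frm.χ_add, show (2 : ZMod 3) + 1 = 0 from rfl, Frm.χ_zero, one_smul]
  have hχpow : ∀ (c : ZMod 3) (n : ℕ), C.S.χ c ^ n = C.S.χ (c * n) := fun c n => by
    induction n with
    | zero => simp [Frm.χ_zero]
    | succ n ih => rw [pow_succ, ih, ← Frm.χ_add, Nat.cast_succ, mul_add, mul_one]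
  refine ⟨x * a ^ (-j).val * b ^ i.val, ⟨(-i).val, ZMod.val_lt _⟩, ⟨j.val, ZMod.val_lt _⟩,
    (hx.mul (ha.pow _)).mul (hb.pow _), ?_, ?_, ?_⟩
  · rw [mul_assoc, (smul_comm_pow hba i.val).2, mul_smul_comm, hχpow, ← mul_assoc, mul_assoc x, ← pow_succ,
      pow_succ', ← mul_assoc, hi, smul_mul_assoc, smul_mul_assoc, smul_smul, ← Frm.χ_add, ZMod.natCast_zmod_val,
      (show ∀ i : ZMod 3, 2 * i + i = 0 by decide) i, Frm.χ_zero, one_smul]
    simp only [mul_assoc]
  · rw [mul_assoc, ← pow_succ, pow_succ', ← mul_assoc, mul_assoc x, (smul_comm_pow hab _).2, ← hω, hχpow,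
      mul_smul_comm, ← mul_assoc, hj, smul_mul_assoc, smul_mul_assoc, smul_mul_assoc, smul_smul, ← Frm.χ_add,
      ZMod.natCast_zmod_val, show 1 * -j + j = 0 by ring, Frm.χ_zero, one_smul]
    simp only [mul_assoc]
  · have hper : ∀ M : Matrix ι ι F, InG R M → ∀ m : ZMod 3, M ^ m.val * M ^ (-m).val = 1 := fun M hM m => by
      rw [← pow_add, pow_eq_pow_mod _ (hD.cube' hM), ← ZMod.val_add, add_neg_cancel, ZMod.val_zero, pow_zero]
    have h1 := hper b hb i
    have h2 := hper a ha (-j)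
    rw [neg_neg] at h2
    show x = x * a ^ (-j).val * b ^ i.val * (b ^ (-i).val * a ^ j.val)
    rw [mul_assoc (x * a ^ (-j).val), ← mul_assoc (b ^ i.val), h1, one_mul, mul_assoc, h2, mul_one]

theorem GData.exists_quad : ∃ a1 b1 a2 b2 : Matrix ι ι F, InG R a1 ∧ InG R b1 ∧ InG R a2 ∧ InG R b2 ∧
    a1 * b1 = C.ω • (b1 * a1) ∧ a2 * b2 = C.ω • (b2 * a2) ∧
    Commute a2 a1 ∧ Commute a2 b1 ∧ Commute b2 a1 ∧ Commute b2 b1 := by
  obtain ⟨a1, ha1, -, hns1⟩ := hD.not_scalar 1 (by norm_num) (fun _ => 1) (fun _ => True)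
    fun x hx => ⟨x, 0, hx, trivial, (mul_one x).symm⟩
  obtain ⟨b1, hb1, -, h1⟩ := hD.partner (Q := fun _ => True) (fun _ _ _ => trivial) ha1 hns1
    fun x hx => ⟨x, 1, hx, trivial, by rw [mul_one, one_mul], (mul_one x).symm⟩
  obtain ⟨a2, ha2, ⟨hc1, hc2⟩, hns2⟩ := hD.not_scalar 9 (by norm_num)
    (fun i : Fin 9 => b1 ^ ((finProdFinEquiv (m := 3) (n := 3)).symm i).1.val *
      a1 ^ ((finProdFinEquiv (m := 3) (n := 3)).symm i).2.val)
    (fun y => Commute y a1 ∧ Commute y b1) fun x hx => by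
      obtain ⟨y, i, j, hy, h, h', hxy⟩ := hD.correct ha1 hb1 h1 hx
      exact ⟨y, finProdFinEquiv (i, j), hy, ⟨h, h'⟩, by simpa using hxy⟩
  obtain ⟨b2, hb2, ⟨hd1, hd2⟩, h2⟩ := hD.partner (Q := fun y => Commute y a1 ∧ Commute y b1)
    (fun y n h => ⟨h.1.pow_left n, h.2.pow_left n⟩) ha2 hns2 fun x hx => by
      obtain ⟨y, i, j, hy, h, h', hxy⟩ := hD.correct ha1 hb1 h1 hx
      exact ⟨y, _, hy, ⟨h, h'⟩, (hc2.pow_right _).mul_right (hc1.pow_right _), hxy⟩
  exact ⟨a1, b1, a2, b2, ha1, hb1, ha2, hb2, h1, h2, hc1, hc2, hd1, hd2⟩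

end GroupData

namespace Ctx

variable {F : Type*} [Field F] [Fintype F] (C : Ctx F)

/-- The monomials times the cube roots of unity. -/
def RS : Subgroup (GL P2 F) where
  carrier := {g | ∃ (k : ZMod 3) (v : V), (g : Matrix P2 P2 F) = C.S.χ k • C.S.E v}
  mul_mem' := by
    rintro g h ⟨k, v, hg⟩ ⟨l, w, hh⟩
    exact ⟨k + l + C.S.d v.2 w.1, v + w, by
      rw [Units.val_mul, hg, hh, smul_mul_smul_comm, Frm.E_mul, smul_smul, ← Frm.χ_add, ← Frm.χ_add]⟩
  one_mem' := ⟨0, 0, by rw [Units.val_one, Frm.χ_zero, one_smul, Frm.E_zero]⟩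
  inv_mem' := by
    rintro g ⟨k, v, hg⟩
    refine ⟨-k + C.S.d v.2 v.1, -v, ?_⟩
    refine Units.inv_eq_of_mul_eq_one_right ?_
    rw [hg, smul_mul_smul_comm, Frm.E_mul_neg, smul_smul, ← Frm.χ_add, ← Frm.χ_add,
      show k + (-k + C.S.d v.2 v.1) + -C.S.d v.2 v.1 = 0 by ring, Frm.χ_zero, one_smul]

theorem mem_RS {g : GL P2 F} : g ∈ C.RS ↔ ∃ (k : ZMod 3) (v : V), (g : Matrix P2 P2 F) = C.S.χ k • C.S.E v :=
  Iff.rfl

theorem u_mem_RS (v : V) : C.S.u v ∈ C.RS := ⟨0, v, by rw [Frm.u_val, Frm.χ_zero, one_smul]⟩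

end Ctx

section Frame

variable {ι : Type} [Fintype ι] [DecidableEq ι] {F : Type*} [Field F] [Fintype F] {C : Ctx F}
  {R : Subgroup (GL ι F)}

theorem exists_eigvec (hD : GData C R) {a1 a2 : Matrix ι ι F} (h1 : InG R a1) (h2 : InG R a2)
    (hc : Commute a2 a1) :
    ∃ (s t : ZMod 3) (v : ι → F), v ≠ 0 ∧ a1 *ᵥ v = C.S.χ s • v ∧ a2 *ᵥ v = C.S.χ t • v := by
  let Pr : Matrix ι ι F → ZMod 3 → Matrix ι ι F := fun A s => ∑ n : ZMod 3, C.S.χ (-(s * n)) • A ^ n.val
  have hPr : ∀ A, InG R A → ∀ s, A * Pr A s = C.S.χ s • Pr A s := fun A hA s => by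
    simp only [Pr, Finset.mul_sum, Finset.smul_sum, mul_smul_comm, smul_smul, ← Frm.χ_add]
    refine Fintype.sum_equiv (Equiv.addRight (1 : ZMod 3)) _ _ fun n => ?_
    show C.S.χ (-(s * n)) • (A * A ^ n.val) = C.S.χ (s + -(s * (n + 1))) • A ^ (n + 1).val
    rw [show s + -(s * (n + 1)) = -(s * n) by ring]
    congr 1
    rw [← pow_succ', pow_eq_pow_mod _ (hD.cube' hA), ZMod.val_add, ZMod.val_one]
  have hsum : ∀ A, InG R A → ∑ s, Pr A s = (3 : F) • (1 : Matrix ι ι F) := fun A hA => by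
    simp only [Pr]
    rw [Finset.sum_comm]
    simp only [← Finset.sum_smul]
    rw [Fintype.sum_eq_single (0 : ZMod 3)]
    · simp [Frm.χ_zero]
    · intro n hn
      have e : (∑ s : ZMod 3, C.S.χ (-(s * n))) = 0 := by
        have key : C.S.χ (-n) * (∑ s : ZMod 3, C.S.χ (-(s * n))) = ∑ s : ZMod 3, C.S.χ (-(s * n)) := by
          rw [Finset.mul_sum]
          refine Fintype.sum_equiv (Equiv.addRight (1 : ZMod 3)) _ _ fun s => ?_
          rw [← Frm.χ_add]
          congr 1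
          show -n + -(s * n) = -((s + 1) * n)
          ring
        by_contra hne
        have h := mul_right_cancel₀ hne (key.trans (one_mul _).symm)
        exact hn (neg_eq_zero.1 (C.S.χ_inj (h.trans C.S.χ_zero.symm)))
      rw [e, zero_smul]
  obtain ⟨s, t, hne⟩ : ∃ s t, Pr a1 s * Pr a2 t ≠ 0 := by
    by_contra hno
    push Not at hno
    have e : (∑ s, Pr a1 s) * (∑ t, Pr a2 t) = 0 := by
      rw [Finset.sum_mul]
      exact Finset.sum_eq_zero fun s _ => by
        rw [Finset.mul_sum]; exact Finset.sum_eq_zero fun t _ => hno s t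
    rw [hsum _ h1, hsum _ h2, smul_mul_smul_comm, one_mul] at e
    haveI : Nonempty ι := Fintype.card_pos_iff.1 (by rw [hD.card_ι]; norm_num)
    have h9 : (3 : F) * 3 ≠ 0 := by
      have := C.nine
      norm_num at this ⊢
      exact this
    exact h9 ((smul_eq_zero.1 e).resolve_right one_ne_zero)
  obtain ⟨r, hr⟩ : ∃ r, (Pr a1 s * Pr a2 t) *ᵥ (Pi.single r 1 : ι → F) ≠ 0 := by
    by_contra hno
    push Not at hno
    refine hne (Matrix.ext fun x y => ?_)
    have := congrFun (hno y) x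
    simpa [Matrix.mulVec_single_one] using this
  refine ⟨s, t, _, hr, ?_, ?_⟩
  · rw [Matrix.mulVec_mulVec, ← mul_assoc, hPr _ h1, smul_mul_assoc, Matrix.smul_mulVec]
  · have hc' : Commute a2 (Pr a1 s) :=
      Commute.sum_right _ _ _ fun n _ => (hc.pow_right _).smul_right _
    rw [Matrix.mulVec_mulVec, ← mul_assoc, hc'.eq, mul_assoc, hPr _ h2, mul_smul_comm, Matrix.smul_mulVec]

theorem exists_conj_of_gdata (C : Ctx F) {R : Subgroup (GL ι F)} (hD : GData C R) :
    ∃ (e : ι ≃ P2) (P : GL ι F), C.RS.map (Tensor.glTransport e P).toMonoidHom = R := by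
  classical
  have hι := hD.card_ι
  obtain ⟨a1, b1, a2, b2, ha1, hb1, ha2, hb2, h1, h2, hc11, hc12, hd11, hd12⟩ := hD.exists_quad
  obtain ⟨s, t, v, hv, hs, ht⟩ := exists_eigvec hD ha1 ha2 hc11
  obtain ⟨A1, hA1⟩ : ∃ A, A = C.S.χ (-s) • a1 := ⟨_, rfl⟩
  obtain ⟨A2, hA2⟩ : ∃ A, A = C.S.χ (-t) • a2 := ⟨_, rfl⟩
  have hA1v : A1 *ᵥ v = v := by
    rw [hA1, Matrix.smul_mulVec, hs, smul_smul, Frm.χ_neg_mul, one_smul]
  have hA2v : A2 *ᵥ v = v := by
    rw [hA2, Matrix.smul_mulVec, ht, smul_smul, Frm.χ_neg_mul, one_smul]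
  have hAb1 : A1 * b1 = C.ω • (b1 * A1) := by rw [hA1, smul_mul_assoc, h1, mul_smul_comm, smul_comm]
  have hAb2 : A2 * b2 = C.ω • (b2 * A2) := by rw [hA2, smul_mul_assoc, h2, mul_smul_comm, smul_comm]
  have hA1b2 : Commute A1 b2 := hA1 ▸ (hd11.symm.smul_left _)
  have hA2b1 : Commute A2 b1 := hA2 ▸ (hc12.smul_left _)
  let w : P2 → ι → F := fun x => (b1 ^ x.1.val * b2 ^ x.2.val) *ᵥ v
  have hb : ∀ x : P2, b1 *ᵥ w x = w (x + (1, 0)) ∧ b2 *ᵥ w x = w (x + (0, 1)) := fun x => by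
    constructor
    · show b1 *ᵥ (_ *ᵥ v) = _ *ᵥ v
      rw [Matrix.mulVec_mulVec, ← mul_assoc, ← pow_succ', pow_eq_pow_mod _ (hD.cube' hb1)]
      simp [ZMod.val_add, ZMod.val_one]
    · show b2 *ᵥ (_ *ᵥ v) = _ *ᵥ v
      rw [Matrix.mulVec_mulVec, ← mul_assoc, (hd12.pow_right _).eq, mul_assoc, ← pow_succ',
        pow_eq_pow_mod _ (hD.cube' hb2)]
      simp [ZMod.val_add, ZMod.val_one]
  have ha : ∀ x : P2, A1 *ᵥ w x = C.S.χ x.1 • w x ∧ A2 *ᵥ w x = C.S.χ x.2 • w x := fun x => by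
    constructor
    · show A1 *ᵥ (_ *ᵥ v) = _
      rw [Matrix.mulVec_mulVec, ← mul_assoc, (smul_comm_pow hAb1 _).1, smul_mul_assoc, mul_assoc,
        (hA1b2.pow_right _).eq, Matrix.smul_mulVec, ← mul_assoc, ← Matrix.mulVec_mulVec v _ A1, hA1v]
      rfl
    · show A2 *ᵥ (_ *ᵥ v) = _
      rw [Matrix.mulVec_mulVec, ← mul_assoc, (hA2b1.pow_right _).eq, mul_assoc, (smul_comm_pow hAb2 _).1,
        mul_smul_comm, Matrix.smul_mulVec, ← mul_assoc, ← Matrix.mulVec_mulVec v _ A2, hA2v]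
      rfl
  have hw0 : ∀ x, w x ≠ 0 := fun x e0 => by
    obtain ⟨g, -, hg⟩ := (hb1.pow x.1.val).mul (hb2.pow x.2.val)
    exact hv (Matrix.eq_zero_of_mulVec_eq_zero ((Matrix.isUnit_iff_isUnit_det _).1 ⟨g, hg⟩).ne_zero e0)
  have hli : LinearIndependent F w := by
    refine CfsgLib.Aschbacher.linearIndependent_of_separated
      (fun b : Bool => Matrix.toLin' (if b then A1 else A2)) w
      (fun b x => C.S.χ (if b then x.1 else x.2)) hw0 (fun b x => ?_) fun x y hxy => ?_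
    · cases b
      · simpa using (ha x).2
      · simpa using (ha x).1
    · by_cases hxy1 : x.1 = y.1
      · exact ⟨false, fun e => hxy (Prod.ext hxy1 (by simpa using C.S.χ_inj e))⟩
      · exact ⟨true, fun e => hxy1 (by simpa using C.S.χ_inj e)⟩
  have hcardP : Fintype.card P2 = 9 := rfl
  let e : ι ≃ P2 := Fintype.equivOfCardEq (hι.trans hcardP.symm)
  let Pm : Matrix ι ι F := Matrix.of fun r c => w (e c) r
  have hPm : IsUnit Pm.det := by
    rw [← Matrix.isUnit_iff_isUnit_det, ← Matrix.linearIndependent_cols_iff_isUnit]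
    exact hli.comp e e.injective
  let P : GL ι F := Matrix.GeneralLinearGroup.mkOfDetNeZero Pm hPm.ne_zero
  refine ⟨e, P, ?_⟩
  obtain ⟨ψ, hψ⟩ : ∃ ψ, ψ = Tensor.glTransport (F := F) e P := ⟨_, rfl⟩
  rw [← hψ]
  have himg : ∀ (A : Matrix ι ι F) (v : V), InG R A →
      (∀ x : P2, A *ᵥ w x = C.S.χ (C.S.d v.2 x) • w (x + v.1)) → ψ (C.S.u v) ∈ R := by
    intro A v ⟨g, hg, hgA⟩ hA
    have e1 : ψ (C.S.u v) = g := by
      rw [hψ]
      show P * glReindex e.symm (C.S.u v) * P⁻¹ = g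
      rw [mul_inv_eq_iff_eq_mul]
      refine Units.ext ?_
      rw [Units.val_mul, Units.val_mul, hgA]
      show Pm * (C.S.E v).submatrix e e = A * Pm
      ext r c
      rw [Matrix.mul_apply, Finset.sum_eq_single (e.symm (e c + v.1))]
      · have := congrFun (hA (e c)) r
        rw [Pi.smul_apply, smul_eq_mul] at this
        rw [Matrix.mul_apply']
        show Pm r _ * C.S.E v (e (e.symm (e c + v.1))) (e c) = (A *ᵥ w (e c)) r
        rw [this, Frm.E_apply, Equiv.apply_symm_apply, if_pos rfl, mul_comm]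
        simp [Pm]
      · intro z _ hz
        rw [Matrix.submatrix_apply, Frm.E_apply, if_neg (fun e0 => hz (by rw [← e0, Equiv.symm_apply_apply])), mul_zero]
      · simp
    rw [e1]; exact hg
  -- generators
  have g1 : ψ (C.S.u ((0, (1, 0)) : V)) ∈ R := himg A1 _ (hA1 ▸ hD.smul_mem ha1 _) fun x => by
    rw [(ha x).1]; simp [Ctx.S_d]
  have g2 : ψ (C.S.u ((0, (0, 1)) : V)) ∈ R := himg A2 _ (hA2 ▸ hD.smul_mem ha2 _) fun x => by
    rw [(ha x).2]; simp [Ctx.S_d]
  have g3 : ψ (C.S.u (((1, 0), 0) : V)) ∈ R := himg b1 _ hb1 fun x => by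
    rw [(hb x).1]; simp [Ctx.S_d, Frm.χ_zero]
  have g4 : ψ (C.S.u (((0, 1), 0) : V)) ∈ R := himg b2 _ hb2 fun x => by
    rw [(hb x).2]; simp [Ctx.S_d, Frm.χ_zero]
  have hscal : ∀ (k : ZMod 3) (g : GL P2 F), (g : Matrix P2 P2 F) = C.S.χ k • 1 → ψ g ∈ R := by
    intro k g hg
    obtain ⟨z, hz, hzv⟩ := hD.scal k
    have e1 : ψ g = z := by
      rw [hψ]
      show P * glReindex e.symm g * P⁻¹ = z
      rw [mul_inv_eq_iff_eq_mul]
      refine Units.ext ?_
      rw [Units.val_mul, Units.val_mul, hzv]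
      show Pm * (g : Matrix P2 P2 F).submatrix e e = (C.S.χ k • (1 : Matrix ι ι F)) * Pm
      have hsub : (g : Matrix P2 P2 F).submatrix e e = C.S.χ k • (1 : Matrix ι ι F) := by
        rw [hg]; ext i j; simp [Matrix.one_apply]
      rw [hsub, mul_smul_comm, mul_one, smul_mul_assoc, one_mul]
    rw [e1]; exact hz
  let K : Subgroup (GL P2 F) := R.comap ψ.toMonoidHom
  have hK : C.RS ≤ K := by
    have hadd : ∀ v v' : V, C.S.u v ∈ K → C.S.u v' ∈ K → C.S.u (v + v') ∈ K := by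
      intro v v' hv hv'
      obtain ⟨z, hz⟩ : ∃ z : GL P2 F, z = C.S.u v * C.S.u v' * (C.S.u (v + v'))⁻¹ := ⟨_, rfl⟩
      have hzK : z ∈ K := hscal (C.S.d v.2 v'.1) z (by
        rw [hz, Units.val_mul, Units.val_mul, Frm.u_val, Frm.u_val, Frm.E_mul, smul_mul_assoc, ← Frm.u_val,
          Units.mul_inv])
      have := mul_mem (inv_mem hzK) (mul_mem hv hv')
      rwa [hz, show (C.S.u v * C.S.u v' * (C.S.u (v + v'))⁻¹)⁻¹ * (C.S.u v * C.S.u v') = C.S.u (v + v') by group] at this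
    have h0 : C.S.u (0 : V) ∈ K := hscal 0 _ (by rw [Frm.u_val, Frm.E_zero, Frm.χ_zero, one_smul])
    have hn : ∀ (v : V), C.S.u v ∈ K → ∀ n : ℕ, C.S.u (n • v) ∈ K := fun v hv n => by
      induction n with
      | zero => rw [zero_smul]; exact h0
      | succ n ih => rw [succ_nsmul]; exact hadd _ _ ih hv
    intro g hg
    obtain ⟨k, v, hgv⟩ := hg
    have hv : C.S.u v ∈ K := by
      have hdec : ∀ v : V, v = v.1.1.val • (((1, 0), 0) : V) + v.1.2.val • (((0, 1), 0) : V) +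
          v.2.1.val • ((0, (1, 0)) : V) + v.2.2.val • ((0, (0, 1)) : V) := by decide
      rw [hdec v]
      exact hadd _ _ (hadd _ _ (hadd _ _ (hn _ g3 _) (hn _ g4 _)) (hn _ g1 _)) (hn _ g2 _)
    have hz : g * (C.S.u v)⁻¹ ∈ K := hscal k _ (by
      rw [Units.val_mul, hgv, smul_mul_assoc, ← Frm.u_val, Units.mul_inv])
    simpa using mul_mem hz hv
  refine le_antisymm (Subgroup.map_le_iff_le_comap.2 hK) fun x hx => ?_
  obtain ⟨y, rfl⟩ := ψ.surjective x
  refine ⟨y, ?_, rfl⟩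
  -- the commutation with every monomial pins down one coordinate
  have hy : ∀ v : V, ∃ k : ZMod 3, ∀ u : V, C.S.coef u (y : Matrix P2 P2 F) ≠ 0 → C.S.B v u = k := by
    intro v
    obtain ⟨k, hk⟩ := hD.comm (ψ (C.S.u v)) (hK (C.u_mem_RS v)) (ψ y) hx
    refine ⟨k, fun u hu => ?_⟩
    have e1 : cj (C.S.u v) (y : Matrix P2 P2 F) = C.S.χ k • (y : Matrix P2 P2 F) := by
      refine cj_eq_of_mul ?_
      have hψmul : ∀ g g' : GL P2 F, ((ψ g : GL ι F) : Matrix ι ι F) * (ψ g' : GL ι F) =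
          (P : Matrix ι ι F) * ((g * g' : GL P2 F) : Matrix P2 P2 F).submatrix e e *
            ((P⁻¹ : GL ι F) : Matrix ι ι F) := fun g g' => by
        rw [← Units.val_mul, ← map_mul, hψ]
        rfl
      rw [hψmul, hψmul, ← smul_mul_assoc, ← mul_smul_comm,
        Units.mul_left_inj, Units.mul_right_inj, Units.val_mul, Units.val_mul] at hk
      ext a b
      have h3 := congrFun (congrFun hk (e.symm a)) (e.symm b)
      simp only [Matrix.submatrix_apply, Matrix.smul_apply, Equiv.apply_symm_apply] at h3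
      rw [h3, smul_mul_assoc, Matrix.smul_apply]
    have h4 := congrArg (C.S.coef u) e1
    rw [Frm.coef_cj_u, map_smul, smul_eq_mul] at h4
    exact C.S.χ_inj (mul_right_cancel₀ hu h4)
  choose k hk using hy
  obtain ⟨u, hu⟩ : ∃ u : V, C.S.coef u (y : Matrix P2 P2 F) ≠ 0 := by
    by_contra hno
    push Not at hno
    exact y.ne_zero (C.S.ext_coef fun u => by rw [hno u, map_zero])
  have hyu : (y : Matrix P2 P2 F) = C.S.coef u (y : Matrix P2 P2 F) • C.S.E u := by
    conv_lhs => rw [← C.S.sum_coef (y : Matrix P2 P2 F)]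
    refine Fintype.sum_eq_single u fun u' hu' => ?_
    by_cases h0 : C.S.coef u' (y : Matrix P2 P2 F) = 0
    · rw [h0, zero_smul]
    · obtain ⟨v, hv⟩ := C.S.B_nd (sub_ne_zero.2 hu')
      refine absurd ?_ hv
      rw [Frm.B_swap, Frm.B_sub, hk v u hu, hk v u' h0, sub_self, neg_zero]
  have hc3 : C.S.coef u (y : Matrix P2 P2 F) ^ 3 = 1 := by
    have h3 : y ^ 3 = 1 := ψ.injective (by rw [map_pow, hD.cube _ hx, map_one])
    have h3' := congrArg (fun z : GL P2 F => (z : Matrix P2 P2 F)) h3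
    simp only [Units.val_pow_eq_pow_val, Units.val_one] at h3'
    rw [hyu, smul_pow, Frm.E_cube] at h3'
    exact smul_left_injective F (one_ne_zero (α := Matrix P2 P2 F)) (h3'.trans (one_smul F _).symm)
  obtain ⟨c, hc⟩ := C.S.exists_χ hc3
  exact ⟨c, u, by rw [hyu, hc]⟩

theorem exists_conj (C : Ctx F) {R : Subgroup (GL ι F)} (hι : Fintype.card ι = 9)
    (h : IsLinearSymplecticTypeData 3 R) :
    ∃ (e : ι ≃ P2) (P : GL ι F), C.RS.map (Tensor.glTransport e P).toMonoidHom = R :=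
  exists_conj_of_gdata C (gdata_of_data C hι h)

end Frame

end CfsgLib.Geo.HeisNine
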