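import Cfsg.Agent.Geo.HeisNine.Perms

/-!
The normalising elements which fix the points with vanishing first coordinate: blocks over the first coordinate.
-/

set_option autoImplicit false
set_option linter.unusedSectionVars false
set_option linter.style.haveILetI false

namespace CfsgLib.Geo.HeisNine

open Matrix Cfsg.Geo CfsgLib.Geo
open scoped Kronecker

variable {F : Type*} [Field F] [Fintype F]

/-- The projection on the points with vanishing first coordinate. -/
def Z0 (F : Type*) [Field F] : Matrix P2 P2 F := Matrix.diagonal fun x => if x.1 = 0 then 1 else 0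

/-- Fixing the points with vanishing first coordinate, on both sides. -/
def Fix0 (g : GL P2 F) : Prop := (g : Matrix P2 P2 F) * Z0 F = Z0 F ∧ Z0 F * (g : Matrix P2 P2 F) = Z0 F

theorem Fix0.mul {g h : GL P2 F} (hg : Fix0 g) (hh : Fix0 h) : Fix0 (g * h) :=
  ⟨by rw [Units.val_mul, mul_assoc, hh.1, hg.1], by rw [Units.val_mul, ← mul_assoc, hg.2, hh.2]⟩

theorem fix0_one : Fix0 (1 : GL P2 F) := ⟨by rw [Units.val_one, one_mul], by rw [Units.val_one, mul_one]⟩

theorem Fix0.inv {g : GL P2 F} (hg : Fix0 g) : Fix0 g⁻¹ :=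
  ⟨by conv_lhs => rw [← hg.1, Units.inv_mul_cancel_left],
    by conv_lhs => rw [← hg.2, mul_assoc, Units.mul_inv, mul_one]⟩

theorem Fix0.conj {g h : GL P2 F} (hg : Fix0 g) (hh : (h : Matrix P2 P2 F) * Z0 F = Z0 F * h) :
    Fix0 (h * g * h⁻¹) := by
  have hi : ((h⁻¹ : GL P2 F) : Matrix P2 P2 F) * Z0 F = Z0 F * ((h⁻¹ : GL P2 F) : Matrix P2 P2 F) := by
    calc ((h⁻¹ : GL P2 F) : Matrix P2 P2 F) * Z0 F
        = ((h⁻¹ : GL P2 F) : Matrix P2 P2 F) * ((Z0 F * (h : Matrix P2 P2 F)) * ((h⁻¹ : GL P2 F) : Matrix P2 P2 F)) := by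
          rw [mul_assoc (Z0 F), Units.mul_inv, mul_one]
      _ = _ := by rw [← hh, mul_assoc, Units.inv_mul_cancel_left]
  constructor
  · rw [Units.val_mul, Units.val_mul, mul_assoc, hi, ← mul_assoc, mul_assoc (h : Matrix P2 P2 F), hg.1, hh, mul_assoc,
      Units.mul_inv, mul_one]
  · rw [Units.val_mul, Units.val_mul, ← mul_assoc, ← mul_assoc, ← hh, mul_assoc (h : Matrix P2 P2 F), hg.2, hh,
      mul_assoc, Units.mul_inv, mul_one]

namespace Ctx

variable (C : Ctx F)

/-- The phase index of the first factor. -/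
def ua : V := pr a0 0

/-- The phase with eigenspaces the two kinds of points. -/
def kz : GL P2 F := C.S.dg fun x => 2 * (x.1 * x.1)

theorem kz_eq : C.kz = kl C.x0 := by
  rw [← bd_const, x0, bd_dg]
  rfl

theorem kz_fix : Fix0 C.kz := by
  constructor <;>
    (ext x y
     simp only [kz, Frm.dg_val, Z0, Matrix.diagonal_mul_diagonal]
     congr 1
     funext z
     by_cases h : z.1 = 0 <;> simp [h, Frm.χ_zero])

theorem kz_val : (C.kz : Matrix P2 P2 F) = C.S.χ 2 • 1 + (1 - C.S.χ 2) • Z0 F := by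
  rw [kz, Frm.dg_val, Z0, ← Matrix.diagonal_one, ← Matrix.diagonal_smul, ← Matrix.diagonal_smul, Matrix.diagonal_add]
  congr 1
  funext x
  simp only [Pi.smul_apply, smul_eq_mul, mul_one]
  by_cases h : x.1 = 0
  · simp [h, Frm.χ_zero]
  · rw [if_neg h, mul_zero, add_zero, (show ∀ a : P1, a ≠ 0 → a * a = 1 by decide) _ h, mul_one]

theorem comm_Z0_iff {g : GL P2 F} :
    g * C.kz = C.kz * g ↔ (g : Matrix P2 P2 F) * Z0 F = Z0 F * g := by
  have hne : (1 : F) - C.S.χ 2 ≠ 0 := sub_ne_zero.2 fun e =>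
    absurd (C.S.χ_inj (C.S.χ_zero.trans e)) (by decide)
  rw [Units.ext_iff, Units.val_mul, Units.val_mul, C.kz_val, mul_add, add_mul, mul_smul_comm, smul_mul_assoc,
    mul_smul_comm, smul_mul_assoc, mul_one, one_mul, add_right_inj]
  exact ⟨fun e => smul_right_injective _ hne e, fun e => by rw [e]⟩

theorem comm_Z0_of_fix {g : GL P2 F} (hg : Fix0 g) : (g : Matrix P2 P2 F) * Z0 F = Z0 F * g := by
  rw [hg.1, hg.2]

theorem fix0_jM : Fix0 (jM : GL P2 F) := by
  constructor <;>
    (ext x y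
     simp only [Z0, Matrix.mul_diagonal, Matrix.diagonal_mul, Matrix.diagonal_apply, jM, Frm.pm_apply]
     by_cases h : x = y
     · subst h
       by_cases h1 : x.1 = 0
       · simp [h1, show jσ x = x from Prod.ext (show -x.1 = x.1 by rw [h1, neg_zero]) rfl]
       · simp [h1]
     · rw [if_neg h]
       by_cases h2 : x = jσ y
       · subst h2
         have hy : y.1 ≠ 0 := fun e => h (Prod.ext (show -y.1 = y.1 by rw [e, neg_zero]) rfl)
         have hy' : (jσ y).1 ≠ 0 := show -y.1 ≠ 0 from neg_ne_zero.2 hy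
         simp [hy, hy']
       · simp [h2])

theorem E_ua (x y : P2) : C.S.E ua x y = if x = y then C.S0.χ y.1 else 0 := by
  rw [Frm.E_apply, S_d, C.χ_S, show ua.1 = 0 from rfl, add_zero, show ua.2.1 = 1 from rfl,
    show ua.2.2 = 0 from rfl, zero_mul, one_mul, add_zero]

theorem fix0_ua : Fix0 (C.S.u ua) := by
  constructor <;>
    (ext x y
     simp only [Z0, Frm.u_val, Matrix.mul_diagonal, Matrix.diagonal_mul, Matrix.diagonal_apply, C.E_ua]
     by_cases h : x = y
     · subst h; by_cases h1 : x.1 = 0 <;> simp [h1, Frm.χ_zero]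
     · simp [h])

theorem plane_Z0 {v : V} (hv : p1 v = 0) :
    (C.S.u v : Matrix P2 P2 F) * Z0 F = Z0 F * C.S.u v := by
  ext x y
  rw [Frm.u_val, Z0, Matrix.mul_diagonal, Matrix.diagonal_mul, Frm.E_apply]
  by_cases h : x = y + v.1
  · rw [if_pos h, show x.1 = y.1 by rw [h, Prod.fst_add, show v.1.1 = 0 from congrArg Prod.fst hv, add_zero], mul_comm]
  · rw [if_neg h, zero_mul, mul_zero]

/-- The image of the phase index under a normalising element fixing the points. -/
theorem ua_image {g : GL P2 F} (hg : Fix0 g) (hN : C.S.Norm g) :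
    ∃ t : P1, t ≠ 0 ∧ cj g (C.S.E ua) = C.S.E (pr (0, t) 0) := by
  obtain ⟨c, w, hw⟩ := hN ua
  have hy : cj g (C.S.E ua) * Z0 F = Z0 F := by
    rw [← Frm.u_val, cj_coe]
    exact ((hg.mul C.fix0_ua).mul hg.inv).1
  rw [hw, smul_mul_assoc] at hy
  have e : ∀ a : P2, ∀ b : P1, c * C.S.E w a (0, b) = if a = (0, b) then 1 else 0 := fun a b => by
    have h := congrFun (congrFun hy a) (0, b)
    rw [Matrix.smul_apply, Z0, Matrix.mul_diagonal, Matrix.diagonal_apply] at h
    by_cases hab : a = (0, b)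
    · subst hab; simpa using h
    · simpa [hab] using h
  have hw1 : w.1 = 0 := by
    by_contra hne
    have h := e (0, 0) 0
    rw [if_pos rfl, Frm.E_apply, if_neg (fun e' => hne (left_eq_add.1 e')), mul_zero] at h
    exact zero_ne_one h
  have hb : ∀ b : P1, c * C.S0.χ (w.2.2 * b) = 1 := fun b => by
    have h := e (0, b) b
    rw [if_pos rfl, Frm.E_apply, hw1, add_zero, if_pos rfl, C.χ_S, S_d] at h
    simpa using h
  have hc : c = 1 := by simpa [Frm.χ_zero] using hb 0
  have hw22 : w.2.2 = 0 := by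
    have h := hb 1
    rw [hc, one_mul, mul_one] at h
    exact C.S0.χ_inj (h.trans C.S0.χ_zero.symm)
  have hwe : w = pr (0, w.2.1) 0 := Prod.ext hw1 (Prod.ext rfl hw22)
  refine ⟨w.2.1, fun e0 => ?_, by rw [hw, hc, one_smul, ← hwe]⟩
  have hw0 : w = 0 := hwe.trans (by rw [e0]; rfl)
  have h1 := congrArg (cj g⁻¹) hw
  rw [cj_inv_cj, cj_smul, hw0, Frm.E_zero, cj_one] at h1
  exact absurd (C.S.smul_E_eq_one (c := 1) (d := c) (by rw [one_smul]; exact h1) one_ne_zero).1 (by decide)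

theorem fix_or {g : GL P2 F} (hg : Fix0 g) (hN : C.S.Norm g) :
    cj g (C.S.E ua) = C.S.E ua ∨ cj (g * jM) (C.S.E ua) = C.S.E ua := by
  obtain ⟨t, ht, he⟩ := C.ua_image hg hN
  rcases (show ∀ t : P1, t ≠ 0 → t = 1 ∨ t = 2 by decide) t ht with rfl | rfl
  · exact Or.inl he
  · right
    have hj : cj (jM : GL P2 F) (C.S.E ua) = C.S.E ua * C.S.E ua := by
      obtain ⟨s, -, hs⟩ := C.ua_image fix0_jM (C.perm_jM.norm C.S)
      have h1 := C.perm_jM.eq_of_cj C.S (c := 1) (by rw [one_smul]; exact hs)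
      rw [hs, ← h1, Frm.E_mul]
      rw [show C.S.d ua.2 ua.1 = 0 by simp [S_d, ua, pr, a0], Frm.χ_zero, one_smul]
      rfl
    rw [cj_comp, hj, cj_mul, he, Frm.E_mul, show C.S.d (pr ((0 : P1), (2 : P1)) 0).2 (pr ((0 : P1), (2 : P1)) 0).1 = 0 by
      simp [S_d, pr], Frm.χ_zero, one_smul]
    rfl

/-- The exchange of the factors as a matrix. -/
def sf : GL P2 F := sp Over.flip

theorem sf_ua : cj (sf : GL P2 F) (C.S.E ua) = C.S.E va := by
  rw [sf, cj_of_smul (sp_val Over.flip), C.S.cj_pm (w := 0) (l' := (0, 1)) (c := 0) (by decide)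
    (fun x => by simp only [S_d]; revert x; decide), Frm.χ_zero, one_smul]
  rfl

/-- The blocks of a normalising element fixing the points and the phase index. -/
theorem bd_form {g : GL P2 F} (hg : Fix0 g) (hN : C.S.Norm g) (hu : cj g (C.S.E ua) = C.S.E ua) :
    ∃ (G : P1 → GL P1 F) (γ γ' : F) (y : P1 × P1), γ ^ 3 = 1 ∧ γ' ^ 3 = 1 ∧ sf * g * sf⁻¹ = bd G ∧ G 0 = 1 ∧
      (G 1 : Matrix P1 P1 F) = γ • C.S0.E y ∧ (G 2 : Matrix P1 P1 F) = γ' • C.S0.E (y + y) := by
  have hfN : C.S.Norm (sf : GL P2 F) := Over.norm_sp (by decide)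
  have hcj : cj (sf * g * sf⁻¹) (C.S.E va) = C.S.E va := by
    rw [cj_comp, cj_comp, ← C.sf_ua, cj_inv_cj, hu]
  obtain ⟨G, hG⟩ := C.exists_bd hcj
  have hN' : C.S.Norm (bd G) := hG ▸ (hfN.mul C.S hN).mul C.S (hfN.inv C.S)
  have hent : ∀ x y : P2, (sf * g * sf⁻¹ : GL P2 F).val x y =
      (g : Matrix P2 P2 F) (x.2, x.1) (y.2, y.1) := by
    intro x y
    have hsq : (sf : GL P2 F)⁻¹ = sf := inv_eq_of_mul_eq_one_right (by
      rw [sf, ← sp_mul, show Over.flip * Over.flip = (1 : Equiv.Perm P2) by decide, sp_one])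
    rw [hsq, Units.val_mul, Units.val_mul, sf, sp_val, mul_smul_comm, smul_mul_assoc, smul_mul_assoc, smul_smul,
      Matrix.smul_apply]
    have hε : (((Equiv.Perm.sign Over.flip : ℤˣ) : ℤ) : F) * (((Equiv.Perm.sign Over.flip : ℤˣ) : ℤ) : F) = 1 := by
      rcases Int.units_eq_one_or (Equiv.Perm.sign Over.flip) with h | h <;> simp [h]
    rw [hε, one_smul, Matrix.mul_apply, Finset.sum_eq_single (Over.flip y), Matrix.mul_apply,
      Finset.sum_eq_single (Over.flip x)]
    · simp [Frm.pm_apply, Over.flip, Prod.swap]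
    · intro z _ hz
      rw [Frm.pm_apply, if_neg, zero_mul]
      intro e
      apply hz
      rw [e]; simp [Over.flip]
    · simp
    · intro z _ hz
      rw [Frm.pm_apply, if_neg hz, mul_zero]
    · simp
  have h0 : G 0 = 1 := by
    refine Units.ext ?_
    ext a b
    have h := congrFun (congrFun hg.1 (0, a)) (0, b)
    rw [Z0, Matrix.mul_diagonal, Matrix.diagonal_apply] at h
    have e := hent (a, 0) (b, 0)
    rw [hG, bd_apply] at e
    simp only [if_true] at e h
    rw [mul_one] at h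
    rw [e, h, Units.val_one, Matrix.one_apply]
    by_cases hab : a = b <;> simp [hab]
  obtain ⟨γ, w, hw⟩ := hN' vb
  have hγ := C.S.coeff_cube hw
  have key : ∀ (i : P1) (a b : P1), (G (i + 1) : Matrix P1 P1 F) a b =
      γ * ∑ s, C.S.E w (a, i + 1) (s, i) * (G i : Matrix P1 P1 F) s b := by
    intro i a b
    have e := congrFun (congrFun (mul_eq_of_cj hw) (a, i + 1)) (b, i)
    rw [smul_mul_assoc, Matrix.smul_apply, smul_eq_mul, Matrix.mul_apply, Matrix.mul_apply,
      Finset.sum_eq_single ((b, i + 1) : P2)] at e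
    · rw [bd_apply, if_pos rfl, Frm.E_apply,
        if_pos (show ((b, i + 1) : P2) = (b, i) + vb.1 by simp [vb, pr, b0, Prod.ext_iff]),
        show vb.2 = 0 from rfl, Frm.d_zero_left, Frm.χ_zero, mul_one] at e
      rw [e, Fintype.sum_prod_type]
      congr 1
      refine Finset.sum_congr rfl fun s _ => ?_
      rw [Finset.sum_eq_single i]
      · rw [bd_apply, if_pos rfl]
      · intro t _ ht; rw [bd_apply, if_neg ht, mul_zero]
      · simp
    · intro z _ hz
      rw [bd_apply]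
      by_cases h : ((a, i + 1) : P2).2 = z.2
      · rw [if_pos h, Frm.E_apply, if_neg, mul_zero]
        intro e'
        have h1 := congrArg Prod.fst e'
        simp [vb, pr, b0] at h1
        exact hz (Prod.ext h1 h.symm)
      · rw [if_neg h, zero_mul]
    · simp
  have hw12 : w.1.2 = 1 := by
    by_contra hne
    have : (G (0 + 1) : Matrix P1 P1 F) = 0 := by
      ext a b
      rw [key]
      refine mul_eq_zero_of_right _ (Finset.sum_eq_zero fun s _ => ?_)
      rw [Frm.E_apply, if_neg (fun e => hne (by simpa using (congrArg Prod.snd e).symm)), zero_mul]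
    exact (G (0 + 1)).ne_zero this
  have hstep : ∀ i : P1, (G (i + 1) : Matrix P1 P1 F) =
      (γ * C.S0.χ (w.2.2 * i)) • (C.S0.E (p1 w) * (G i : Matrix P1 P1 F)) := by
    intro i
    ext a b
    rw [key, Matrix.smul_apply, smul_eq_mul, Matrix.mul_apply, Finset.mul_sum, Finset.mul_sum]
    refine Finset.sum_congr rfl fun s _ => ?_
    rw [Frm.E_apply, Frm.E_apply, C.χ_S, S_d]
    simp only [p1, S0_d, Prod.ext_iff, Prod.fst_add, Prod.snd_add, hw12, and_true]
    by_cases h : a = s + w.1.1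
    · simp [h, Frm.χ_add]; ring
    · simp [h]
  have h1 := hstep 0
  rw [zero_add, mul_zero, Frm.χ_zero, mul_one, h0, Units.val_one, mul_one] at h1
  have h2 := hstep 1
  rw [mul_one, h1, mul_smul_comm, Frm.E_mul, smul_smul, smul_smul, show (1 : P1) + 1 = 2 by decide] at h2
  refine ⟨G, γ, _, p1 w, hγ, ?_, hG, h0, h1, h2⟩
  simp only [mul_pow, hγ, Frm.χ_cube, one_mul]

theorem det_bd_form {g : GL P2 F} (hg : Fix0 g) (hN : C.S.Norm g) (hu : cj g (C.S.E ua) = C.S.E ua) :
    (g : Matrix P2 P2 F).det = 1 ∧ g ^ 3 = 1 := by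
  obtain ⟨G, γ, γ', y, hγ, hγ', hG, h0, h1, h2⟩ := C.bd_form hg hN hu
  constructor
  · have e : ((sf * g * sf⁻¹ : GL P2 F) : Matrix P2 P2 F).det = (g : Matrix P2 P2 F).det := by
      rw [Units.val_mul, Units.val_mul, Matrix.det_units_conj]
    rw [← e, hG, det_bd, show (Finset.univ : Finset P1) = {0, 1, 2} by decide, Finset.prod_insert (by decide),
      Finset.prod_insert (by decide), Finset.prod_singleton, h0, h1, h2, Units.val_one, Matrix.det_one,
      Matrix.det_smul, Matrix.det_smul, C.det_E0, C.det_E0, ZMod.card, hγ, hγ']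
    simp
  · have e : (sf * g * sf⁻¹) ^ 3 = 1 := by
      rw [hG, ← map_pow, ← map_one (bd (F := F))]
      congr 1
      funext i
      refine Units.ext ?_
      rw [Pi.pow_apply, Units.val_pow_eq_pow_val]
      rcases p1_cases i with rfl | rfl | rfl
      · show (G 0 : Matrix P1 P1 F) ^ 3 = 1
        rw [h0, Units.val_one, one_pow]
      · show (G 1 : Matrix P1 P1 F) ^ 3 = 1
        rw [h1, smul_pow, hγ, one_smul, Frm.E_cube]
      · show (G 2 : Matrix P1 P1 F) ^ 3 = 1
        rw [h2, smul_pow, hγ', one_smul, Frm.E_cube]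
    rw [conj_pow] at e
    exact conj_eq_one_iff.1 e

theorem sf_kz : (sf : GL P2 F) * C.kz * sf⁻¹ = bd fun i => C.S0.dg fun _ => 2 * (i * i) := by
  rw [sf, kz, Over.sp_conj_dg, bd_dg]
  rfl

theorem pow_kz (m : ℕ) :
    (sf : GL P2 F) * C.kz ^ m * sf⁻¹ = bd fun i => C.S0.dg fun _ => (m : P1) * (2 * (i * i)) := by
  rw [← conj_pow, C.sf_kz, ← map_pow]
  congr 1
  funext i
  rw [Pi.pow_apply, dg_pow]
  congr 1
  funext k
  simp [nsmul_eq_mul]

/-- Two of them commute up to the phase. -/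
theorem comm_bd_form {g g' : GL P2 F} (hg : Fix0 g) (hN : C.S.Norm g) (hu : cj g (C.S.E ua) = C.S.E ua)
    (hg' : Fix0 g') (hN' : C.S.Norm g') (hu' : cj g' (C.S.E ua) = C.S.E ua) :
    ∃ m : ℕ, g * g' = C.kz ^ m * (g' * g) := by
  obtain ⟨G, γ, γ', y, -, -, hG, h0, h1, h2⟩ := C.bd_form hg hN hu
  obtain ⟨H, δ, δ', z, -, -, hH, k0, k1, k2⟩ := C.bd_form hg' hN' hu'
  refine ⟨(2 * C.S0.B y z).val, ?_⟩
  have e : ∀ a b : GL P2 F, sf * (a * b) * sf⁻¹ = (sf * a * sf⁻¹) * (sf * b * sf⁻¹) := fun a b => by group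
  refine mul_left_cancel (mul_right_cancel (b := (sf : GL P2 F)⁻¹) (?_ : sf * (g * g') * sf⁻¹ = sf * _ * sf⁻¹))
  rw [e, e (C.kz ^ _), e g', hG, hH, C.pow_kz, ← map_mul, ← map_mul, ← map_mul]
  congr 1
  funext i
  refine Units.ext ?_
  rw [Pi.mul_apply, Pi.mul_apply, Pi.mul_apply, Units.val_mul, Units.val_mul, Units.val_mul, Frm.dg_val,
    ← Matrix.smul_one_eq_diagonal, smul_mul_assoc, one_mul, ZMod.natCast_zmod_val]
  rcases p1_cases i with rfl | rfl | rfl
  · show (G 0 : Matrix P1 P1 F) * (H 0 : Matrix P1 P1 F) = _ • ((H 0 : Matrix P1 P1 F) * G 0)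
    rw [h0, k0]
    simp [Frm.χ_zero]
  · show (G 1 : Matrix P1 P1 F) * (H 1 : Matrix P1 P1 F) = _ • ((H 1 : Matrix P1 P1 F) * G 1)
    rw [h1, k1, smul_mul_smul_comm, smul_mul_smul_comm, Frm.E_comm, smul_smul, smul_smul]
    congr 1
    rw [show 2 * C.S0.B y z * (2 * (1 * 1)) = C.S0.B y z by
      generalize C.S0.B y z = b; revert b; decide]
    ring
  · show (G 2 : Matrix P1 P1 F) * (H 2 : Matrix P1 P1 F) = _ • ((H 2 : Matrix P1 P1 F) * G 2)
    rw [h2, k2, smul_mul_smul_comm, smul_mul_smul_comm, Frm.E_comm, smul_smul, smul_smul]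
    congr 1
    simp only [Frm.B_add, Frm.B_add_left]
    rw [show 2 * C.S0.B y z * (2 * (2 * 2)) = C.S0.B y z + C.S0.B y z + (C.S0.B y z + C.S0.B y z) by
      generalize C.S0.B y z = b; revert b; decide]
    ring

/-- One commuting with the reflection is a power of the phase. -/
theorem jC_bd_form {g : GL P2 F} (hg : Fix0 g) (hN : C.S.Norm g) (hu : cj g (C.S.E ua) = C.S.E ua) (hj : JC g) :
    ∃ m : ℕ, g = C.kz ^ m := by
  obtain ⟨G, γ, γ', y, hγ, -, hG, h0, h1, h2⟩ := C.bd_form hg hN hu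
  have hneg : ∀ i, G (-i) = G i := by
    intro i
    refine Units.ext ?_
    ext a b
    have hsq : (sf : GL P2 F)⁻¹ = sf := inv_eq_of_mul_eq_one_right (by
      rw [sf, ← sp_mul, show Over.flip * Over.flip = (1 : Equiv.Perm P2) by decide, sp_one])
    have hent : ∀ x z : P2, (g : Matrix P2 P2 F) (Over.flip x) (Over.flip z) = (bd G : Matrix P2 P2 F) x z := by
      intro x z
      rw [← hG, hsq, Units.val_mul, Units.val_mul, sf, sp_val, mul_smul_comm, smul_mul_assoc, smul_mul_assoc,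
        smul_smul, Matrix.smul_apply]
      have hε : (((Equiv.Perm.sign Over.flip : ℤˣ) : ℤ) : F) * (((Equiv.Perm.sign Over.flip : ℤˣ) : ℤ) : F) = 1 := by
        rcases Int.units_eq_one_or (Equiv.Perm.sign Over.flip) with h | h <;> simp [h]
      rw [hε, one_smul, Matrix.mul_apply, Finset.sum_eq_single (Over.flip z), Matrix.mul_apply,
        Finset.sum_eq_single (Over.flip x)]
      · simp [Frm.pm_apply, Over.flip]
      · intro t _ ht
        rw [Frm.pm_apply, if_neg, zero_mul]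
        intro e
        apply ht
        rw [e]; simp [Over.flip]
      · simp
      · intro t _ ht
        rw [Frm.pm_apply, if_neg ht, mul_zero]
      · simp
    have e := hj.apply (i, a) (i, b)
    rw [show ((i, a) : P2) = Over.flip (a, i) from rfl, show ((i, b) : P2) = Over.flip (b, i) from rfl,
      show jσ (Over.flip (a, i)) = Over.flip (a, -i) from rfl, show jσ (Over.flip (b, i)) = Over.flip (b, -i) from rfl,
      hent, hent, bd_apply, bd_apply, if_pos rfl, if_pos rfl] at e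
    exact e
  have e12 := congrArg Units.val (hneg 1)
  rw [show -(1 : P1) = 2 by decide, h1, h2] at e12
  have hγ'0 : γ' ≠ 0 := fun e => (G 2).ne_zero (by rw [h2, e, zero_smul])
  obtain ⟨hy, hγγ⟩ := C.S0.smul_E_eq e12 hγ'0
  have hy0 : y = 0 := by
    calc y = y + y - y := by abel
      _ = 0 := by rw [hy, sub_self]
  obtain ⟨e, he⟩ := C.S0.exists_χ hγ
  refine ⟨(2 * e).val, mul_left_cancel (mul_right_cancel (b := (sf : GL P2 F)⁻¹)
    (?_ : sf * g * sf⁻¹ = sf * C.kz ^ _ * sf⁻¹))⟩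
  rw [hG, C.pow_kz]
  congr 1
  funext i
  refine Units.ext ?_
  rw [Frm.dg_val, ← Matrix.smul_one_eq_diagonal, ZMod.natCast_zmod_val]
  rcases p1_cases i with rfl | rfl | rfl
  · show (G 0 : Matrix P1 P1 F) = _
    rw [h0]; simp [Frm.χ_zero]
  · show (G 1 : Matrix P1 P1 F) = _
    rw [h1, hy0, Frm.E_zero, he, show 2 * e * (2 * (1 * 1)) = e by clear he; revert e; decide]
  · show (G 2 : Matrix P1 P1 F) = _
    rw [h2, hy0, add_zero, Frm.E_zero, hγγ, he, show 2 * e * (2 * (2 * 2)) = e by clear he; revert e; decide]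

end Ctx

end CfsgLib.Geo.HeisNine
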