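import Cfsg.Agent.Geo.HeisNine.Three

/-!
The model in dimension nine: two tensor factors, the blocks of the centraliser of a monomial, and the standard
normalising elements of an overgroup.
-/

set_option autoImplicit false
set_option linter.unusedSectionVars false
set_option linter.style.haveILetI false

namespace CfsgLib.Geo.HeisNine

open Matrix Cfsg.Geo CfsgLib.Geo
open scoped Kronecker

/-- The nine points. -/
abbrev P2 := P1 × P1

/-- The indices. -/
abbrev V := P2 × P2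

/-- The first component of an index. -/
def p1 (v : V) : P1 × P1 := (v.1.1, v.2.1)

/-- The second component of an index. -/
def p2 (v : V) : P1 × P1 := (v.1.2, v.2.2)

/-- An index from two components. -/
def pr (w w' : P1 × P1) : V := ((w.1, w'.1), (w.2, w'.2))

theorem p1_pr (w w' : P1 × P1) : p1 (pr w w') = w := rfl

theorem p2_pr (w w' : P1 × P1) : p2 (pr w w') = w' := rfl

theorem pr_eta (v : V) : pr (p1 v) (p2 v) = v := rfl

/-- The phase index of the block label. -/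
def va : V := pr 0 Ctx.a0

/-- The shift index of the block label. -/
def vb : V := pr 0 Ctx.b0

/-- The special signed matrix of a permutation. -/
def sp {F : Type*} [Field F] (σ : Equiv.Perm P2) : GL P2 F :=
  Units.map (algebraMap F (Matrix P2 P2 F)).toMonoidHom
      (Units.map (Int.castRingHom F).toMonoidHom (Equiv.Perm.sign σ)) * Frm.pm (F := F) σ

theorem sp_val {F : Type*} [Field F] (σ : Equiv.Perm P2) :
    (sp (F := F) σ : Matrix P2 P2 F) = ((Equiv.Perm.sign σ : ℤ) : F) • (Frm.pm (F := F) σ : Matrix P2 P2 F) := by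
  rw [sp, Units.val_mul]
  show algebraMap F (Matrix P2 P2 F) ((Equiv.Perm.sign σ : ℤ) : F) * (Frm.pm (F := F) σ : Matrix P2 P2 F) = _
  rw [← Algebra.smul_def]

theorem sp_mul {F : Type*} [Field F] (σ τ : Equiv.Perm P2) : sp (F := F) (σ * τ) = sp σ * sp τ := by
  refine Units.ext ?_
  rw [Units.val_mul, sp_val, sp_val, sp_val, Frm.pm_mul, Units.val_mul, Equiv.Perm.sign_mul, smul_mul_smul_comm]
  congr 1
  push_cast
  ring

theorem sp_one {F : Type*} [Field F] : sp (F := F) 1 = 1 := by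
  refine Units.ext ?_
  rw [sp_val]
  ext a b
  simp [Frm.pm_apply, Matrix.one_apply]
  congr

theorem sp_det {F : Type*} [Field F] (σ : Equiv.Perm P2) : (sp (F := F) σ : Matrix P2 P2 F).det = 1 := by
  rw [sp_val, Matrix.det_smul, Frm.det_pm, show Fintype.card P2 = 9 from rfl]
  rcases Int.units_eq_one_or (Equiv.Perm.sign σ) with h | h <;> simp [h]; norm_num

namespace Ctx

variable {F : Type*} [Field F] [Fintype F] (C : Ctx F)

/-- The pairing on nine points. -/
def S : Frm P2 F where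
  d x y := x.1 * y.1 + x.2 * y.2
  d_add := fun x y z => by simp only [Prod.fst_add, Prod.snd_add]; ring
  d_symm := fun x y => by ring
  d_nd := by decide
  tors := by decide
  ω := C.ω
  prim := C.prim
  card_ne := by
    show ((9 : ℕ) : F) ≠ 0
    exact_mod_cast C.nine

theorem S_d (x y : P2) : C.S.d x y = x.1 * y.1 + x.2 * y.2 := rfl

theorem χ_S (a : ZMod 3) : C.S.χ a = C.S0.χ a := rfl

theorem S_B (v w : V) : C.S.B v w = (v.2.1 * w.1.1 + v.2.2 * w.1.2) - (w.2.1 * v.1.1 + w.2.2 * v.1.2) := rfl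

theorem S_B_split (v w : V) : C.S.B v w = C.S0.B (p1 v) (p1 w) + C.S0.B (p2 v) (p2 w) := by
  simp only [S_B, S0_B, p1, p2]; ring

theorem E_kron (v : V) : C.S.E v = C.S0.E (p1 v) ⊗ₖ C.S0.E (p2 v) := by
  ext ⟨a1, a2⟩ ⟨b1, b2⟩
  simp only [Matrix.kroneckerMap_apply, Frm.E_apply, p1, p2, S0_d, S_d, Prod.ext_iff, Prod.fst_add, Prod.snd_add,
    Frm.χ_add, C.χ_S]
  by_cases h1 : a1 = b1 + v.1.1 <;> by_cases h2 : a2 = b2 + v.1.2 <;> simp [h1, h2]

/-- An element acting on the first factor. -/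
def kl : GL P1 F →* GL P2 F where
  toFun h := ⟨(h : Matrix P1 P1 F) ⊗ₖ (1 : Matrix P1 P1 F), ((h⁻¹ : GL P1 F) : Matrix P1 P1 F) ⊗ₖ 1,
    by rw [← Matrix.mul_kronecker_mul, Units.mul_inv, one_mul, Matrix.one_kronecker_one],
    by rw [← Matrix.mul_kronecker_mul, Units.inv_mul, one_mul, Matrix.one_kronecker_one]⟩
  map_one' := Units.ext Matrix.one_kronecker_one
  map_mul' g h := Units.ext (by
    show ((g * h : GL P1 F) : Matrix P1 P1 F) ⊗ₖ (1 : Matrix P1 P1 F) = _ ⊗ₖ _ * (_ ⊗ₖ _)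
    rw [← Matrix.mul_kronecker_mul, one_mul, Units.val_mul])

/-- An element acting on the second factor. -/
def kr : GL P1 F →* GL P2 F where
  toFun h := ⟨(1 : Matrix P1 P1 F) ⊗ₖ (h : Matrix P1 P1 F), 1 ⊗ₖ ((h⁻¹ : GL P1 F) : Matrix P1 P1 F),
    by rw [← Matrix.mul_kronecker_mul, Units.mul_inv, one_mul, Matrix.one_kronecker_one],
    by rw [← Matrix.mul_kronecker_mul, Units.inv_mul, one_mul, Matrix.one_kronecker_one]⟩
  map_one' := Units.ext Matrix.one_kronecker_one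
  map_mul' g h := Units.ext (by
    show (1 : Matrix P1 P1 F) ⊗ₖ ((g * h : GL P1 F) : Matrix P1 P1 F) = _ ⊗ₖ _ * (_ ⊗ₖ _)
    rw [← Matrix.mul_kronecker_mul, one_mul, Units.val_mul])

theorem kl_val (h : GL P1 F) : (kl h : Matrix P2 P2 F) = (h : Matrix P1 P1 F) ⊗ₖ 1 := rfl

theorem kr_val (h : GL P1 F) : (kr h : Matrix P2 P2 F) = 1 ⊗ₖ (h : Matrix P1 P1 F) := rfl

theorem cj_kl {h : GL P1 F} {v : V} {c : F} {w : P1 × P1} (e : cj h (C.S0.E (p1 v)) = c • C.S0.E w) :
    cj (kl h) (C.S.E v) = c • C.S.E (pr w (p2 v)) := by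
  refine cj_eq_of_mul ?_
  rw [kl_val, E_kron, E_kron, p1_pr, p2_pr, smul_mul_assoc, ← Matrix.mul_kronecker_mul, ← Matrix.mul_kronecker_mul,
    one_mul, mul_one, mul_eq_of_cj e, smul_mul_assoc, Matrix.smul_kronecker]

theorem cj_kr {h : GL P1 F} {v : V} {c : F} {w : P1 × P1} (e : cj h (C.S0.E (p2 v)) = c • C.S0.E w) :
    cj (kr h) (C.S.E v) = c • C.S.E (pr (p1 v) w) := by
  refine cj_eq_of_mul ?_
  rw [kr_val, E_kron, E_kron, p1_pr, p2_pr, smul_mul_assoc, ← Matrix.mul_kronecker_mul, ← Matrix.mul_kronecker_mul,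
    one_mul, mul_one, mul_eq_of_cj e, smul_mul_assoc, Matrix.kronecker_smul]

theorem perm_kl {h : GL P1 F} {π : P1 × P1 → P1 × P1} (e : C.S0.Perm h π) :
    C.S.Perm (kl h) fun v => pr (π (p1 v)) (p2 v) := fun v => by
  obtain ⟨c, hc⟩ := e (p1 v)
  exact ⟨c, C.cj_kl hc⟩

theorem perm_kr {h : GL P1 F} {π : P1 × P1 → P1 × P1} (e : C.S0.Perm h π) :
    C.S.Perm (kr h) fun v => pr (p1 v) (π (p2 v)) := fun v => by
  obtain ⟨c, hc⟩ := e (p2 v)
  exact ⟨c, C.cj_kr hc⟩

theorem det_kl (h : GL P1 F) : (kl h : Matrix P2 P2 F).det = (h : Matrix P1 P1 F).det ^ 3 := by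
  rw [kl_val, Matrix.det_kronecker, Matrix.det_one]; simp [ZMod.card]

theorem det_kr (h : GL P1 F) : (kr h : Matrix P2 P2 F).det = (h : Matrix P1 P1 F).det ^ 3 := by
  rw [kr_val, Matrix.det_kronecker, Matrix.det_one]; simp [ZMod.card]

theorem det_E (v : V) : (C.S.E v).det = 1 := by
  rw [E_kron, Matrix.det_kronecker, C.det_E0, C.det_E0]; simp

/-- Block diagonal elements, the label being the second coordinate. -/
def bd : (P1 → GL P1 F) →* GL P2 F where
  toFun G := ⟨Matrix.blockDiagonal fun i => (G i : Matrix P1 P1 F),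
    Matrix.blockDiagonal fun i => ((G⁻¹ i : GL P1 F) : Matrix P1 P1 F),
    by rw [← Matrix.blockDiagonal_mul]; simp [← Matrix.blockDiagonal_one]; rfl,
    by rw [← Matrix.blockDiagonal_mul]; simp [← Matrix.blockDiagonal_one]; rfl⟩
  map_one' := Units.ext (by simp [← Matrix.blockDiagonal_one]; rfl)
  map_mul' G H := Units.ext (by
    show Matrix.blockDiagonal (fun i => ((G * H) i : Matrix P1 P1 F)) = _
    rw [Units.val_mul, ← Matrix.blockDiagonal_mul]
    rfl)

theorem bd_val (G : P1 → GL P1 F) : (bd G : Matrix P2 P2 F) = Matrix.blockDiagonal fun i => (G i : Matrix P1 P1 F) :=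
  rfl

theorem bd_apply (G : P1 → GL P1 F) (x y : P2) :
    (bd G : Matrix P2 P2 F) x y = if x.2 = y.2 then (G x.2 : Matrix P1 P1 F) x.1 y.1 else 0 := by
  rw [bd_val, Matrix.blockDiagonal_apply]

theorem bd_const (h : GL P1 F) : bd (fun _ : P1 => h) = kl h := by
  refine Units.ext ?_
  ext x y
  rw [bd_apply, kl_val, Matrix.kroneckerMap_apply, Matrix.one_apply]
  split_ifs <;> simp

theorem det_bd (G : P1 → GL P1 F) : (bd G : Matrix P2 P2 F).det = ∏ i, (G i : Matrix P1 P1 F).det := by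
  rw [bd_val, Matrix.det_blockDiagonal]

theorem E_va (x y : P2) : C.S.E va x y = if x = y then C.S0.χ y.2 else 0 := by
  rw [Frm.E_apply, S_d, C.χ_S, show va.1 = 0 from rfl, add_zero, show va.2.1 = 0 from rfl, show va.2.2 = 1 from rfl,
    zero_mul, one_mul, zero_add]

theorem bd_comm (G : P1 → GL P1 F) : cj (bd G) (C.S.E va) = C.S.E va := by
  refine cj_eq_of_mul ?_
  ext x y
  have hE := C.E_va
  rw [Matrix.mul_apply, Matrix.mul_apply, Finset.sum_eq_single y, Finset.sum_eq_single x]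
  · simp only [hE, if_true, bd_apply]
    by_cases h : x.2 = y.2 <;> simp [h, mul_comm]
  · intro z _ hz; simp [hE, Ne.symm hz]
  · simp
  · intro z _ hz; simp [hE, hz]
  · simp

theorem exists_bd {g : GL P2 F} (h : cj g (C.S.E va) = C.S.E va) : ∃ G, g = bd G := by
  have hzero : ∀ g : GL P2 F, cj g (C.S.E va) = C.S.E va → ∀ x y : P2, x.2 ≠ y.2 →
      (g : Matrix P2 P2 F) x y = 0 := by
    intro g h x y hxy
    have e := congrFun (congrFun (mul_eq_of_cj h) x) y
    have hE := C.E_va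
    rw [Matrix.mul_apply, Matrix.mul_apply, Finset.sum_eq_single y (fun z _ hz => by simp [hE, hz]) (by simp),
      Finset.sum_eq_single x (fun z _ hz => by simp [hE, Ne.symm hz]) (by simp), hE, hE, if_pos rfl, if_pos rfl] at e
    have e' : (C.S0.χ y.2 - C.S0.χ x.2) * (g : Matrix P2 P2 F) x y = 0 := by linear_combination e
    exact (mul_eq_zero.1 e').resolve_left (sub_ne_zero.2 fun e => hxy (C.S0.χ_inj e).symm)
  have hi : cj g⁻¹ (C.S.E va) = C.S.E va := by
    conv_lhs => rw [← h]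
    rw [cj_inv_cj]
  have hb : ∀ g : GL P2 F, cj g (C.S.E va) = C.S.E va → (g : Matrix P2 P2 F) =
      Matrix.blockDiagonal (fun i => (g : Matrix P2 P2 F).submatrix (fun a => (a, i)) fun b => (b, i)) := by
    intro g hg
    ext ⟨a, i⟩ ⟨b, j⟩
    rw [Matrix.blockDiagonal_apply]
    by_cases hij : i = j
    · subst hij; simp
    · simp [hij, hzero g hg (a, i) (b, j) hij]
  have h1 := hb g h
  have h2 := hb g⁻¹ hi
  have e1 : ∀ i, (g : Matrix P2 P2 F).submatrix (fun a => (a, i)) (fun b => (b, i)) *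
      ((g⁻¹ : GL P2 F) : Matrix P2 P2 F).submatrix (fun a => (a, i)) (fun b => (b, i)) = 1 := by
    intro i
    have := g.mul_inv
    rw [h1, h2, ← Matrix.blockDiagonal_mul, ← Matrix.blockDiagonal_one] at this
    exact congrFun (Matrix.blockDiagonal_injective this) i
  exact ⟨fun i => ⟨_, _, e1 i, mul_eq_one_comm.1 (e1 i)⟩, Units.ext h1⟩

theorem bd_injective : Function.Injective (bd : (P1 → GL P1 F) → GL P2 F) := fun G H e => by
  funext i
  exact Units.ext (congrFun (Matrix.blockDiagonal_injective ((bd_val G).symm.trans ((congrArg Units.val e).trans (bd_val H)))) i)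

theorem quad_isQuad (c1 c2 c3 c4 c5 c6 : ZMod 3) : C.S.IsQuad fun x : P2 =>
    c1 * (x.1 * x.1) + c2 * (x.2 * x.2) + c3 * (x.1 * x.2) + C.S.d (c4, c5) x + c6 := by
  have h : ∀ f : P2 → ZMod 3, (∀ s : P2, ∃ (l : P2) (c : ZMod 3), ∀ x : P2,
      f (x + s) - f x = l.1 * x.1 + l.2 * x.2 + c) → C.S.IsQuad f := fun f hf => hf
  exact ((((h (fun x => x.1 * x.1) (by decide)).smul C.S c1).add C.S ((h (fun x => x.2 * x.2) (by decide)).smul C.S c2)).add C.S
    ((h (fun x => x.1 * x.2) (by decide)).smul C.S c3)).add C.S (C.S.isQuad_lin (c4, c5)) |>.add C.S (C.S.isQuad_const c6)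

/-- An affine permutation, with the pairing unfolded. -/
def Aff (σ : Equiv.Perm P2) : Prop :=
  (∀ s : P2, ∃ w, ∀ x, σ (x + s) = σ x + w) ∧
    ∀ l : P2, ∃ (l' : P2) (c : ZMod 3), ∀ x : P2, l.1 * x.1 + l.2 * x.2 = l'.1 * (σ x).1 + l'.2 * (σ x).2 + c

instance (σ : Equiv.Perm P2) : Decidable (Aff σ) := by unfold Aff; infer_instance

end Ctx

/-- An overgroup of the normaliser in the special linear group. -/
structure Over {F : Type*} [Field F] [Fintype F] (C : Ctx F) where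
  M : Subgroup (GL P2 F)
  le_sl : M ≤ specialLinear P2 F
  hN : ∀ g ∈ specialLinear P2 F, C.S.Norm g → g ∈ M

namespace Over

open Ctx

variable {F : Type*} [Field F] [Fintype F] {C : Ctx F} (O : Over C)

theorem mem_of_norm {g : GL P2 F} (hd : (g : Matrix P2 P2 F).det = 1) (hg : C.S.Norm g) : g ∈ O.M :=
  O.hN g (mem_specialLinear.2 hd) hg

theorem kl_mem {h : GL P1 F} (hh : h ∈ C.G0) : kl h ∈ O.M := by
  obtain ⟨π, hπ⟩ := hh.1.exists_perm
  exact O.mem_of_norm (by rw [det_kl, hh.2]) ((C.perm_kl hπ).norm C.S)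

theorem kr_mem {h : GL P1 F} (hh : h ∈ C.G0) : kr h ∈ O.M := by
  obtain ⟨π, hπ⟩ := hh.1.exists_perm
  exact O.mem_of_norm (by rw [det_kr, hh.2]) ((C.perm_kr hπ).norm C.S)

theorem u_mem (v : V) : C.S.u v ∈ O.M := O.mem_of_norm (by rw [Frm.u_val, C.det_E]) (C.S.norm_u v)

theorem norm_sp {σ : Equiv.Perm P2} (h : Aff σ) : C.S.Norm (sp σ) :=
  C.S.norm_of_smul (sp_val σ) (C.S.norm_pm h)

theorem sp_mem {σ : Equiv.Perm P2} (h : Aff σ) : sp σ ∈ O.M :=
  O.mem_of_norm (sp_det σ) (norm_sp h)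

theorem quad_mem (c1 c2 c3 c4 c5 c6 : ZMod 3) {f : P2 → ZMod 3}
    (h : ∀ x : P2, f x = c1 * (x.1 * x.1) + c2 * (x.2 * x.2) + c3 * (x.1 * x.2) + (c4 * x.1 + c5 * x.2) + c6) :
    C.S.dg f ∈ O.M := by
  refine O.mem_of_norm ?_ (C.S.norm_dg ?_)
  · rw [Frm.det_dg, Finset.sum_congr rfl fun x _ => h x]
    simp only [Finset.sum_add_distrib, ← Finset.mul_sum, Finset.sum_const, Finset.card_univ]
    have : (∑ x : P2, x.1 * x.1) = 0 ∧ (∑ x : P2, x.2 * x.2) = 0 ∧ (∑ x : P2, x.1 * x.2) = 0 ∧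
        (∑ x : P2, x.1) = 0 ∧ (∑ x : P2, x.2) = 0 := by decide
    obtain ⟨e1, e2, e3, e4, e5⟩ := this
    have e9 : (9 : ℕ) • c6 = 0 := (show ∀ c : ZMod 3, (9 : ℕ) • c = 0 by decide) c6
    rw [e1, e2, e3, e4, e5, show Fintype.card P2 = 9 from rfl, e9]
    simp [Frm.χ_zero]
  · rw [show f = _ from funext h]
    exact C.quad_isQuad c1 c2 c3 c4 c5 c6

/-- The shear. -/
def shear : Equiv.Perm P2 where
  toFun x := (x.1, x.2 - x.1)
  invFun x := (x.1, x.2 + x.1)
  left_inv x := by simp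
  right_inv x := by simp

/-- The exchange of the factors. -/
def flip : Equiv.Perm P2 := Equiv.prodComm P1 P1

theorem exists_move {v : V} (hv : v ≠ 0) : ∃ n ∈ O.M, ∃ π, C.S.Perm n π ∧ π va = v := by
  by_cases h2 : p2 v = 0
  · have h1 : p1 v ≠ 0 := fun e => hv (by rw [← pr_eta v, e, h2]; rfl)
    obtain ⟨h, hh, π, hπ, ha⟩ := C.exists_move h1
    obtain ⟨σ, hσ⟩ := (norm_sp (C := C) (σ := flip) (by decide)).exists_perm
    have he : σ va = pr a0 0 := by
      refine hσ.eq_of_cj C.S (c := C.S.χ 0) ?_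
      rw [cj_of_smul (sp_val flip), C.S.cj_pm (w := 0) (l' := (1, 0)) (c := 0) (by decide)
        (fun x => by simp only [S_d]; revert x; decide)]
      rfl
    refine ⟨kl h * sp flip, mul_mem (O.kl_mem hh) (O.sp_mem (by decide)), _, (C.perm_kl hπ).comp C.S hσ, ?_⟩
    simp only [Function.comp_apply, he, p1_pr, p2_pr, ha]
    rw [← h2, pr_eta]
  by_cases h1 : p1 v = 0
  · obtain ⟨h, hh, π, hπ, ha⟩ := C.exists_move h2
    refine ⟨kr h, O.kr_mem hh, _, C.perm_kr hπ, ?_⟩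
    simp only [va, p1_pr, p2_pr, ha]
    rw [← h1, pr_eta]
  obtain ⟨h, hh, π, hπ, ha⟩ := C.exists_move h1
  obtain ⟨k, hk, τ, hτ, hb⟩ := C.exists_move h2
  obtain ⟨σ, hσ⟩ := (norm_sp (C := C) (σ := shear) (by decide)).exists_perm
  have he : σ va = pr a0 a0 := by
    refine hσ.eq_of_cj C.S (c := C.S.χ 0) ?_
    rw [cj_of_smul (sp_val shear), C.S.cj_pm (w := 0) (l' := (1, 1)) (c := 0) (by decide)
        (fun x => by simp only [S_d]; revert x; decide)]
    rfl
  refine ⟨kl h * kr k * sp shear, mul_mem (mul_mem (O.kl_mem hh) (O.kr_mem hk)) (O.sp_mem (by decide)), _,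
    ((C.perm_kl hπ).comp C.S (C.perm_kr hτ)).comp C.S hσ, ?_⟩
  simp only [Function.comp_apply, he, p1_pr, p2_pr, ha, hb, pr_eta]

end Over

namespace Ctx

variable {F : Type*} [Field F] [Fintype F] (C : Ctx F)

/-- A transvection of the indices. -/
def tvn (c v : V) : V := v + (C.S.B c v).val • c

theorem perm_xa : C.S.Perm (kr C.x0) (C.tvn va) := fun v => by
  obtain ⟨e, he⟩ := C.perm_kr C.perm_x0 v
  refine ⟨e, ?_⟩
  rw [he]
  congr 2
  simp only [tvn, S_B]
  clear he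
  revert v; decide

theorem perm_conj_tv {n g : GL P2 F} {π : V → V} (hn : C.S.Perm n π) {c : V} (hg : C.S.Perm g (C.tvn c)) :
    C.S.Perm (n * g * n⁻¹) (C.tvn (π c)) := by
  obtain ⟨σ, hσ, hl, hr⟩ := hn.exists_inv C.S
  intro v
  obtain ⟨e, he⟩ := (hn.comp C.S hg).comp C.S hσ v
  refine ⟨e, ?_⟩
  rw [he]
  congr 2
  simp only [Function.comp_apply, tvn, hn.add C.S, hn.nsmul C.S, hr]
  conv_rhs => rw [← hr v, hn.symp C.S, hr v]

end Ctx

namespace Over

open Ctx

variable {F : Type*} [Field F] [Fintype F] {C : Ctx F} (O : Over C)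

theorem exists_lift {c : V} (hc : c ≠ 0) : ∃ x ∈ O.M, C.S.Perm x (C.tvn c) := by
  obtain ⟨n, hn, π, hπ, hv⟩ := O.exists_move hc
  exact ⟨n * kr C.x0 * n⁻¹, mul_mem (mul_mem hn (O.kr_mem C.x0_mem)) (inv_mem hn),
    hv ▸ C.perm_conj_tv hπ C.perm_xa⟩

theorem exists_pair {e f : V} (h : C.S.B e f = 1) : ∃ n ∈ O.M, ∃ π, C.S.Perm n π ∧ π va = e ∧ π vb = f := by
  have he0 : e ≠ 0 := fun e' => by rw [e', Frm.B_zero_left] at h; exact absurd h (by decide)
  obtain ⟨n, hn, π, hπ, ha⟩ := O.exists_move he0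
  obtain ⟨σ, hσ, hl, hr⟩ := hπ.exists_inv C.S
  have hf : C.S.B va (σ f) = 1 := by rw [← hπ.symp C.S, ha, hr, h]
  obtain ⟨f', hf'⟩ : ∃ f', f' = σ f := ⟨_, rfl⟩
  rw [← hf'] at hf
  have hab : C.S.B va vb = 1 := by rw [S_B]; rfl
  suffices ∃ m ∈ O.M, ∃ τ, C.S.Perm m τ ∧ τ va = va ∧ τ vb = f' by
    obtain ⟨m, hm, τ, hτ, hta, htb⟩ := this
    exact ⟨n * m, mul_mem hn hm, _, hπ.comp C.S hτ, by simp [hta, ha], by simp [htb, hf', hr]⟩
  have key : ∀ c : V, C.S.B c va = 0 → C.S.B c vb ≠ 0 → ∃ x ∈ O.M, ∃ τ, C.S.Perm x τ ∧ τ va = va ∧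
      τ vb = vb + c := fun c hca hcb => by
    obtain ⟨x, hx, hp⟩ := O.exists_lift (c := c) fun e => hcb (by rw [e, Frm.B_zero_left])
    have h1 : C.tvn c va = va := by simp [tvn, hca]
    rcases (by revert hcb; generalize C.S.B c vb = m; revert m; decide : C.S.B c vb = 1 ∨ C.S.B c vb = 2) with h | h
    · exact ⟨x, hx, _, hp, h1, by rw [tvn, h, ZMod.val_one, one_smul]⟩
    · refine ⟨x * x, mul_mem hx hx, _, hp.comp C.S hp, by simp [h1], ?_⟩
      have h3 : c + c + c = 0 := Prod.ext (C.S.tors _) (C.S.tors _)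
      have h2 : ((2 : ZMod 3)).val = 2 := rfl
      simp only [Function.comp_apply, tvn, h, h2, Frm.B_add, two_nsmul, Frm.B_self, add_zero]
      rw [show vb + (c + c) + (c + c) = vb + c + (c + c + c) by abel, h3, add_zero]
  have hca : C.S.B (f' - vb) va = 0 := by
    rw [Frm.B_swap, Frm.B_sub, hf, hab, sub_self, neg_zero]
  by_cases h0 : C.S.B (f' - vb) vb = 0
  · have e1 : C.S.B (f' - vb + va) vb = 1 := by rw [Frm.B_add_left, h0, hab, zero_add]
    obtain ⟨x, hx, τ, hτ, hta, htb⟩ := key (f' - vb + va)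
      (by rw [Frm.B_add_left, hca, Frm.B_self, add_zero]) (by rw [e1]; decide)
    refine ⟨kr C.x0 * kr C.x0 * x, mul_mem (mul_mem (O.kr_mem C.x0_mem) (O.kr_mem C.x0_mem)) hx, _,
      (C.perm_xa.comp C.S C.perm_xa).comp C.S hτ, by simp [hta, tvn, Frm.B_self], ?_⟩
    have e2 : τ vb = f' + va := by rw [htb]; abel
    simp only [Function.comp_apply, tvn, e2, Frm.B_add, hf, Frm.B_self, add_zero, ZMod.val_one, one_smul]
    have h3 : va + va + va = 0 := by decide
    rw [show f' + va + va + va = f' + (va + va + va) by abel, h3, add_zero]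
  · obtain ⟨x, hx, τ, hτ, hta, htb⟩ := key _ hca h0
    exact ⟨x, hx, τ, hτ, hta, by rw [htb, add_sub_cancel]⟩

end Over

end CfsgLib.Geo.HeisNine
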