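import Cfsg.Agent.Geo.HeisNine.Res
import Cfsg.Agent.Geo.Transvection

/-!
An overgroup with the cubic phase is the whole special linear group: all permutations of the nine points, then
transvections from the restriction to three antisymmetric lines.
-/

set_option autoImplicit false
set_option linter.unusedSectionVars false
set_option linter.style.haveILetI false

namespace CfsgLib.Geo.HeisNine

open Matrix Cfsg.Geo CfsgLib.Geo
open scoped Kronecker

/-- The quadratic shift. -/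
def zσ : Equiv.Perm P2 where
  toFun x := (x.1 - x.2 * x.2, x.2)
  invFun x := (x.1 + x.2 * x.2, x.2)
  left_inv x := by simp
  right_inv x := by simp

/-- A similitude of the plane of points. -/
def rotF (D b : P2) (x : P2) : P2 := (b.1 + x.1 * D.1 - x.2 * D.2, b.2 + x.1 * D.2 + x.2 * D.1)

theorem exists_rot {D b : P2} (hD : D ≠ 0) : ∃ σ : Equiv.Perm P2, ∀ x, σ x = rotF D b x := by
  have hn : (D.1 * D.1 + D.2 * D.2) * (D.1 * D.1 + D.2 * D.2) = 1 := by revert hD; revert D; decide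
  have hinj : Function.Injective (rotF D b) := by
    intro x y e
    simp only [rotF, Prod.mk.injEq] at e
    obtain ⟨e1, e2⟩ := e
    refine Prod.ext ?_ ?_
    · linear_combination (D.1 * D.1 + D.2 * D.2) * (D.1 * e1 + D.2 * e2) - (x.1 - y.1) * hn
    · linear_combination (D.1 * D.1 + D.2 * D.2) * (D.1 * e2 - D.2 * e1) - (x.2 - y.2) * hn
  exact ⟨Equiv.ofBijective _ (Finite.injective_iff_bijective.1 hinj), fun x => rfl⟩

theorem exists_perm_mapping {n : ℕ} (f g : Fin n → P2) (hf : Function.Injective f) (hg : Function.Injective g) :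
    ∃ σ : Equiv.Perm P2, ∀ k, σ (f k) = g k := by
  classical
  let e : {x // x ∈ Set.range f} ≃ {x // x ∈ Set.range g} :=
    (Equiv.ofInjective f hf).symm.trans (Equiv.ofInjective g hg)
  refine ⟨e.extendSubtype, fun k => ?_⟩
  rw [Equiv.extendSubtype_apply_of_mem e _ (Set.mem_range_self k)]
  show ((Equiv.ofInjective g hg) ((Equiv.ofInjective f hf).symm ⟨f k, Set.mem_range_self k⟩) : P2) = g k
  rw [Equiv.ofInjective_symm_apply]
  rfl

namespace Over

open Ctx

variable {F : Type*} [Field F] [Fintype F] {C : Ctx F} (O : Over C)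

theorem sp_conj_dg (σ : Equiv.Perm P2) (f : P2 → ZMod 3) :
    sp σ * C.S.dg f * (sp σ)⁻¹ = C.S.dg fun x => f (σ.symm x) := by
  rw [mul_inv_eq_iff_eq_mul]
  refine Units.ext ?_
  rw [Units.val_mul, Units.val_mul, sp_val, smul_mul_assoc, mul_smul_comm]
  congr 1
  ext x y
  rw [Frm.dg_val, Frm.dg_val, Matrix.mul_diagonal, Matrix.diagonal_mul, Frm.pm_apply]
  by_cases h : x = σ y
  · rw [if_pos h, h]; simp
  · rw [if_neg h]; simp

/-- The permutations whose signed matrices are in the overgroup. -/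
def Pg : Subgroup (Equiv.Perm P2) where
  carrier := {σ | sp σ ∈ O.M}
  mul_mem' := fun {σ τ} h h' => by show sp (σ * τ) ∈ O.M; rw [sp_mul]; exact mul_mem h h'
  one_mem' := by show sp (1 : Equiv.Perm P2) ∈ O.M; rw [sp_one]; exact one_mem _
  inv_mem' := fun {σ} h => by
    show sp σ⁻¹ ∈ O.M
    have e : sp (F := F) σ⁻¹ * sp σ = 1 := by rw [← sp_mul, inv_mul_cancel, sp_one]
    rw [eq_inv_of_mul_eq_one_left e]
    exact inv_mem h

theorem mem_Pg {σ : Equiv.Perm P2} : σ ∈ O.Pg ↔ sp σ ∈ O.M := Iff.rfl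

theorem zσ_mem (hy : C.cube ∈ O.M) : zσ ∈ O.Pg := by
  have e : kl C.F0 * C.cube * (kl C.F0)⁻¹ = sp zσ := by
    have hc : C.cube = bd fun i => C.S0.u a0 ^ (i * i).val := by
      rw [cube, ← bd_dg (C := C) fun i k => i * i * k]
      congr 1
      funext i
      have e1 : C.S0.u a0 = C.S0.dg fun k => k := by
        refine Units.ext ?_
        ext a b
        rw [Frm.u_val, Frm.E_apply, Frm.dg_val, Matrix.diagonal_apply]
        simp only [a0, add_zero, S0_d, one_mul]
        split_ifs with h <;> first | rfl | rw [h]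
      rw [e1, dg_pow]
      congr 1
      funext k
      simp [nsmul_eq_mul]
    obtain ⟨c, hc'⟩ := C.perm_F0 a0
    have hF : cj C.F0 (C.S0.E a0) = C.S0.E (-1, 0) := by
      refine cj_eq_of_mul ?_
      ext a b
      rw [Matrix.mul_apply, Matrix.mul_apply, Finset.sum_eq_single b, Finset.sum_eq_single (a + 1)]
      · simp only [F0_apply, Frm.E_apply, a0, S0_d, add_zero, one_mul, zero_mul, Frm.χ_zero, add_neg_cancel_right,
          if_true, mul_assoc, ← Frm.χ_add]
        congr 2; ring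
      · intro x _ hx
        rw [Frm.E_apply, if_neg (fun e => hx (by rw [e]; abel)), zero_mul]
      · simp
      · intro x _ hx
        simp [Frm.E_apply, a0, hx]
      · simp
    rw [hc, ← bd_const, ← map_mul, ← map_inv, ← map_mul]
    refine Units.ext ?_
    rw [sp_val, show Equiv.Perm.sign zσ = 1 by decide, Units.val_one, Int.cast_one, one_smul]
    ext x y
    rw [bd_apply, Frm.pm_apply]
    simp only [Pi.mul_apply, Pi.inv_apply]
    rw [← conj_pow, Units.val_pow_eq_pow_val, ← cj_coe, Frm.u_val, hF]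
    have hE : ∀ n : ℕ, C.S0.E ((-1, 0) : P1 × P1) ^ n = C.S0.E (-(n : P1), 0) := fun n => by
      induction n with
      | zero => simp [show ((0 : P1), (0 : P1)) = 0 from rfl, Frm.E_zero]
      | succ n ih =>
        rw [pow_succ, ih, Frm.E_mul, Frm.d_zero_left, Frm.χ_zero, one_smul]
        congr 1
        simp [Prod.ext_iff]; ring
    rw [hE, ZMod.natCast_zmod_val, Frm.E_apply]
    simp only [Frm.d_zero_left, Frm.χ_zero]
    have hz : x = zσ y ↔ x.1 = y.1 + -(y.2 * y.2) ∧ x.2 = y.2 := by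
      rw [← sub_eq_add_neg]; exact Prod.ext_iff
    by_cases h2 : x.2 = y.2
    · rw [if_pos h2, h2]
      by_cases h1 : x.1 = y.1 + -(y.2 * y.2)
      · rw [if_pos h1, if_pos (hz.2 ⟨h1, h2⟩)]
      · rw [if_neg h1, if_neg (fun e => h1 (hz.1 e).1)]
    · rw [if_neg h2, if_neg (fun e => h2 (hz.1 e).2)]
  rw [mem_Pg, ← e]
  exact mul_mem (mul_mem (O.kl_mem C.F0_mem) hy) (inv_mem (O.kl_mem C.F0_mem))

theorem Pg_top (hy : C.cube ∈ O.M) : O.Pg = ⊤ := by
  have hS : shear.symm ∈ O.Pg := inv_mem (show shear ∈ O.Pg from O.sp_mem (by decide))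
  have hJ : jσ ∈ O.Pg := O.sp_mem (by decide)
  have hZ : zσ ∈ O.Pg := O.zσ_mem hy
  have h0 : Equiv.swap ((1, 0) : P2) (2, 0) ∈ O.Pg := by
    have e : Equiv.swap ((1, 0) : P2) (2, 0) = shear.symm * zσ * shear.symm * zσ⁻¹ * shear.symm * zσ⁻¹ * jσ *
        shear.symm * zσ * shear.symm * zσ⁻¹ * shear.symm := by
      refine Equiv.ext fun x => ?_
      simp only [Equiv.Perm.mul_apply, Equiv.Perm.inv_def]
      revert x
      decide
    rw [e]
    exact mul_mem (mul_mem (mul_mem (mul_mem (mul_mem (mul_mem (mul_mem (mul_mem (mul_mem (mul_mem (mul_mem hS hZ) hS)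
      (inv_mem hZ)) hS) (inv_mem hZ)) hJ) hS) hZ) hS) (inv_mem hZ)) hS
  rw [eq_top_iff, ← Equiv.Perm.closure_isSwap, Subgroup.closure_le]
  rintro _ ⟨P, Q, hPQ, rfl⟩
  obtain ⟨σ, hσ⟩ := exists_rot (D := Q - P) (b := P - (Q - P)) (sub_ne_zero.2 (Ne.symm hPQ))
  have hmem : σ ∈ O.Pg := by
    refine O.sp_mem ⟨fun s => ⟨rotF (Q - P) 0 s, fun x => ?_⟩, fun l => ?_⟩
    · rw [hσ, hσ]
      simp only [rotF, Prod.mk_add_mk, Prod.fst_add, Prod.snd_add, Prod.fst_zero, Prod.snd_zero, Prod.mk.injEq]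
      constructor <;> ring
    · obtain ⟨D, hD⟩ : ∃ D, D = Q - P := ⟨_, rfl⟩
      have hn : (D.1 * D.1 + D.2 * D.2) * (D.1 * D.1 + D.2 * D.2) = 1 := by
        have : D ≠ 0 := hD ▸ sub_ne_zero.2 (Ne.symm hPQ)
        clear hD hσ
        revert this; revert D; decide
      obtain ⟨n, hn'⟩ : ∃ n, n = D.1 * D.1 + D.2 * D.2 := ⟨_, rfl⟩
      rw [← hn'] at hn
      obtain ⟨l', hl'⟩ : ∃ l' : P2, l' = (n * (l.1 * D.1 - l.2 * D.2), n * (l.1 * D.2 + l.2 * D.1)) := ⟨_, rfl⟩
      refine ⟨l', -(l'.1 * (P - (Q - P)).1 + l'.2 * (P - (Q - P)).2), fun x => ?_⟩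
      rw [hσ, ← hD]
      simp only [rotF, hl']
      linear_combination (-(l.1 * x.1 + l.2 * x.2)) * hn + n * (l.1 * x.1 + l.2 * x.2) * hn'
  have e1 : σ ((1, 0) : P2) = Q - (Q - P) := by
    rw [hσ]; simp only [rotF, one_mul, zero_mul, sub_zero, add_zero]
    refine Prod.ext ?_ ?_ <;> simp
  have e2 : σ ((2, 0) : P2) = Q := by
    rw [hσ]; simp only [rotF, zero_mul, sub_zero, add_zero]
    refine Prod.ext ?_ ?_ <;> simp <;> ring
  have e1' : σ ((1, 0) : P2) = P := by rw [e1, sub_sub_cancel]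
  have e : Equiv.swap P Q = σ * Equiv.swap ((1, 0) : P2) (2, 0) * σ⁻¹ := by
    rw [← e1', ← e2, Equiv.swap_apply_apply]
  rw [e]
  exact mul_mem (mul_mem hmem h0) (inv_mem hmem)

theorem sp_mem_all (hy : C.cube ∈ O.M) (σ : Equiv.Perm P2) : sp σ ∈ O.M := by
  rw [← O.mem_Pg, O.Pg_top hy]; trivial

theorem two_points (hy : C.cube ∈ O.M) {P Q : P2} (hPQ : P ≠ Q) (m : ZMod 3) :
    C.S.dg (fun x => m * ((if x = P then 1 else 0) - (if x = Q then 1 else 0))) ∈ O.M := by
  have h0 : C.S.dg (fun x => (if x = ((1, 1) : P2) then (1 : ZMod 3) else 0) - (if x = (2, 1) then 1 else 0)) ∈ O.M := by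
    have h1 := mul_mem (mul_mem (mul_mem (O.sp_mem_all hy (Equiv.swap ((1, 1) : P2) (2, 1))) hy)
      (inv_mem (O.sp_mem_all hy (Equiv.swap ((1, 1) : P2) (2, 1))))) (inv_mem hy)
    rw [cube, sp_conj_dg, Frm.dg_inv, Frm.dg_mul] at h1
    rw [show (fun x => (if x = ((1, 1) : P2) then (1 : ZMod 3) else 0) - (if x = (2, 1) then 1 else 0)) =
      (fun x => (Equiv.swap ((1, 1) : P2) (2, 1)).symm x |> fun x => x.2 * x.2 * x.1) + -(fun x => x.2 * x.2 * x.1) by
        decide]
    exact h1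
  obtain ⟨σ, hσ⟩ := exists_perm_mapping ![((1, 1) : P2), (2, 1)] ![P, Q] (by decide) (by
    intro a b e; fin_cases a <;> fin_cases b <;> simp_all)
  have h1 := mul_mem (mul_mem (O.sp_mem_all hy σ) h0) (inv_mem (O.sp_mem_all hy σ))
  rw [sp_conj_dg] at h1
  have h2 := pow_mem h1 m.val
  rw [dg_pow] at h2
  convert h2 using 2
  funext x
  rw [Pi.smul_apply, nsmul_eq_mul, ZMod.natCast_zmod_val]
  have e0 : σ (1, 1) = P := hσ 0
  have e1 : σ (2, 1) = Q := hσ 1
  congr 1
  simp only [Equiv.symm_apply_eq, e0, e1]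

end Over

end CfsgLib.Geo.HeisNine
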