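import Cfsg.Agent.Geo.HeisNine.Centre

/-!
Without the cubic phase, an element of an overgroup commuting with the reflection normalises the monomials: it can
be moved to commute with the phase of a lifted transvection.
-/

set_option autoImplicit false
set_option linter.unusedSectionVars false
set_option linter.style.haveILetI false

namespace CfsgLib.Geo.HeisNine

open Matrix Cfsg.Geo CfsgLib.Geo Ctx
open scoped Kronecker

variable {F : Type*} [Field F] [Fintype F]

/-- The inversion of the three points. -/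
def negM : GL P1 F := Frm.pm (Equiv.neg P1)

theorem kl_negM : kl (negM : GL P1 F) = (jM : GL P2 F) := by
  refine Units.ext ?_
  ext x y
  rw [Ctx.kl_val, Matrix.kroneckerMap_apply, negM, jM, Frm.pm_apply, Frm.pm_apply, Matrix.one_apply]
  by_cases h1 : x.1 = -y.1 <;> by_cases h2 : x.2 = y.2 <;>
    simp [h1, h2, Prod.ext_iff, jσ]

theorem jC_kl {h : GL P1 F} (hh : h * negM = negM * h) : JC (kl h : GL P2 F) := by
  show kl h * jM = jM * kl h
  rw [← kl_negM, ← map_mul, hh, map_mul]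

theorem kl_injective : Function.Injective (kl : GL P1 F → GL P2 F) := by
  intro g h e
  refine Units.ext ?_
  ext a b
  have e0 : ((kl g : GL P2 F) : Matrix P2 P2 F) = (kl h : GL P2 F) := by rw [e]
  have e' := congrFun (congrFun e0 (a, 0)) (b, 0)
  simpa [Ctx.kl_val, Matrix.kroneckerMap_apply] using e'

theorem comm_negM_of_jC {h : GL P1 F} (hh : JC (kl h : GL P2 F)) : h * negM = negM * h := by
  refine kl_injective ?_
  rw [map_mul, map_mul, kl_negM]
  exact hh

namespace Ctx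

variable (C : Ctx F)

theorem perm_negM : C.S0.Perm (negM : GL P1 F) fun v => -v := fun v =>
  ⟨C.S0.χ 0, C.S0.cj_pm (w := -v.1) (l' := -v.2) (c := 0) (fun x => by
    show -(x + v.1) = -x + -v.1
    rw [neg_add]) fun x => by
    show C.S0.d v.2 x = C.S0.d (-v.2) (-x) + 0
    rw [Frm.d_neg, Frm.d_neg_left, neg_neg, add_zero]⟩

theorem comm_negM_F0 : C.F0 * negM = negM * C.F0 := by
  refine Units.ext ?_
  ext a b
  rw [Units.val_mul, Units.val_mul, negM, Matrix.mul_apply, Matrix.mul_apply, Finset.sum_eq_single (-b),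
    Finset.sum_eq_single (-a)]
  · simp [Frm.pm_apply, F0_apply, mul_comm]
  · intro x _ hx
    rw [Frm.pm_apply, if_neg (fun e => hx (by rw [e]; simp)), zero_mul]
  · simp
  · intro x _ hx
    simp [Frm.pm_apply, hx]
  · simp

theorem comm_negM_x0 : C.x0 * negM = negM * C.x0 := by
  refine Units.ext ?_
  ext a b
  rw [Units.val_mul, Units.val_mul, negM, x0, Frm.dg_val, Matrix.diagonal_mul, Matrix.mul_diagonal, Frm.pm_apply]
  by_cases h : a = -b
  · subst h; simp [mul_comm]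
  · simp [h]

theorem exists_move_neg {v : P1 × P1} (hv : v ≠ 0) :
    ∃ h ∈ C.G0, h * negM = negM * h ∧ ∃ π, C.S0.Perm h π ∧ π a0 = v := by
  obtain ⟨i, j, hij⟩ : ∃ i j : Fin 4, (fun w : P1 × P1 => (-w.2, w.1))^[i.val]
      ((fun w : P1 × P1 => (w.1, w.2 + w.1))^[j.val] ((fun w : P1 × P1 => (-w.2, w.1)) a0)) = v := by
    revert hv; revert v; decide
  refine ⟨C.F0 ^ i.val * (C.x0 ^ j.val * C.F0), mul_mem (pow_mem C.F0_mem _) (mul_mem (pow_mem C.x0_mem _) C.F0_mem),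
    ?_, _, (C.perm_pow C.perm_F0 _).comp C.S0 ((C.perm_pow C.perm_x0 _).comp C.S0 C.perm_F0), hij⟩
  exact (((show Commute C.F0 negM from C.comm_negM_F0).pow_left _).mul_left
    (((show Commute C.x0 negM from C.comm_negM_x0).pow_left _).mul_left C.comm_negM_F0)).eq

theorem norm_of_kl {h : GL P1 F} (hN : C.S.Norm (kl h)) : C.S0.Norm h := by
  intro v
  obtain ⟨c, w, hw⟩ := hN (pr v 0)
  obtain ⟨π, hπ⟩ := hN.exists_perm
  have hw2 : p2 w = 0 := by
    by_contra hne
    obtain ⟨y, hy⟩ := C.S0.B_nd hne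
    have h1 : π (pr v 0) = w := hπ.eq_of_cj C.S hw
    have h2 : π (pr 0 y) = pr 0 y := hπ.eq_of_cj C.S (c := 1) (by
      have e : cj h (C.S0.E (p1 (pr 0 y))) = (1 : F) • C.S0.E 0 := by
        rw [p1_pr, Frm.E_zero, cj_one, one_smul]
      have := C.cj_kl e
      rwa [p2_pr] at this)
    have := hπ.symp C.S (pr v 0) (pr 0 y)
    rw [h1, h2, S_B_split, S_B_split] at this
    simp only [p1_pr, p2_pr, Frm.B_zero, Frm.B_zero_left, zero_add, add_zero] at this
    exact hy this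
  refine ⟨c, p1 w, ?_⟩
  rw [E_kron, E_kron, hw2, p1_pr, p2_pr, Frm.E_zero] at hw
  have e : cj h (C.S0.E v) ⊗ₖ (1 : Matrix P1 P1 F) = (c • C.S0.E (p1 w)) ⊗ₖ 1 := by
    rw [Matrix.smul_kronecker, ← hw, cj, cj, kl_val]
    show _ = ((h : Matrix P1 P1 F) ⊗ₖ (1 : Matrix P1 P1 F)) * _ * (((h⁻¹ : GL P1 F) : Matrix P1 P1 F) ⊗ₖ 1)
    rw [← Matrix.mul_kronecker_mul, ← Matrix.mul_kronecker_mul, one_mul, one_mul]
  ext a b
  have := congrFun (congrFun e (a, 0)) (b, 0)
  simpa [Matrix.kroneckerMap_apply] using this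

theorem order_three : ∀ p q : P1 × P1,
    let π : P1 × P1 → P1 × P1 := fun v => v.1.val • p + v.2.val • q
    q.2 * p.1 - p.2 * q.1 = 1 → (∀ v, π (π (π v)) = v) → (∀ v, π v = v) ∨
      ∃ (c : P1 × P1) (l : Fin 2), c ≠ (0, 0) ∧
        ∀ v, π v = (v.1 + ((l.val : P1) + 1) * (c.2 * v.1 - v.2 * c.1) * c.1,
          v.2 + ((l.val : P1) + 1) * (c.2 * v.1 - v.2 * c.1) * c.2) := by
  decide

theorem kz_jC : JC C.kz := by
  rw [C.kz_eq]
  exact jC_kl C.comm_negM_x0

theorem res_kz : res (C.kz : Matrix P2 P2 F) = C.S0.χ 2 • 1 := by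
  ext i j
  rw [res_eq, kz, Frm.dg_val, Matrix.smul_apply, Matrix.one_apply]
  simp only [Matrix.diagonal_apply, C.χ_S]
  by_cases h : i = j
  · subst h
    simp [Prod.ext_iff, show (1 : P1) ≠ 2 by decide]
  · simp [Prod.ext_iff, h]

theorem scalar_of_id {g : GL P1 F} {π : P1 × P1 → P1 × P1} (hπ : C.S0.Perm g π) (hid : ∀ v, π v = v)
    (hc : g * negM = negM * g) : ∃ c : F, (g : Matrix P1 P1 F) = c • 1 := by
  obtain ⟨c, w, hw⟩ := C.S0.isP_of_fix (g := g) fun v => by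
    obtain ⟨c, hc⟩ := hπ v
    exact ⟨c, by rw [hc, hid]⟩
  obtain ⟨e, he⟩ := C.perm_negM w
  have h1 : cj (negM : GL P1 F) (g : Matrix P1 P1 F) = g := by
    refine cj_eq_of_mul ?_
    rw [← Units.val_mul, ← Units.val_mul, hc]
  rw [hw, cj_smul, he, smul_smul] at h1
  have hc0 : c ≠ 0 := fun e0 => g.ne_zero (by rw [hw, e0, zero_smul])
  have h2 := (C.S0.smul_E_eq h1 (mul_ne_zero hc0 (C.S0.coeff_ne he))).1
  refine ⟨c, ?_⟩
  rw [hw, (show ∀ w : P1 × P1, -w = w → w = 0 by decide) w h2, Frm.E_zero]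

end Ctx

namespace Over

open Ctx

variable {C : Ctx F} (O : Over C)

theorem norm_of_jC (hy : C.cube ∉ O.M) {h : GL P2 F} (hh : h ∈ O.M) (hj : JC h) : C.S.Norm h := by
  have hkzM : C.kz ∈ O.M := O.kz_mem.1
  have hk : h * C.kz * h⁻¹ * C.kz⁻¹ ∈ O.K6 := by
    refine ⟨mul_mem (mul_mem (mul_mem hh hkzM) (inv_mem hh)) (inv_mem hkzM),
      ((hj.mul C.kz_jC).mul hj.inv).mul C.kz_jC.inv, ?_⟩
    have e1 : res ((h * C.kz * h⁻¹ : GL P2 F) : Matrix P2 P2 F) = res (C.kz : Matrix P2 P2 F) := by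
      rw [res_conj hj C.kz_jC, Units.val_mul, Units.val_mul,
        show ((resU C.kz C.kz_jC : GL P1 F) : Matrix P1 P1 F) = C.S0.χ 2 • 1 from C.res_kz, mul_smul_comm, mul_one,
        smul_mul_assoc, Units.mul_inv, C.res_kz]
    rw [res_gl_mul _ C.kz_jC.inv, e1, ← res_gl_mul _ C.kz_jC.inv, mul_inv_cancel, Units.val_one, res_one]
  have hkN := O.K6_le_norm hy hk
  obtain ⟨g0, hg0⟩ := O.exists_kl hk hkN
  obtain ⟨g', hg'⟩ : ∃ g', g' = g0 * C.x0 := ⟨_, rfl⟩
  have hval : h * C.kz * h⁻¹ = kl g' := by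
    rw [hg', map_mul, ← hg0, ← C.kz_eq, inv_mul_cancel_right]
  have hg'N : C.S0.Norm g' := C.norm_of_kl (by
    rw [hg', map_mul, ← hg0, ← C.kz_eq]
    exact hkN.mul C.S (by rw [C.kz_eq]; exact (C.perm_kl C.perm_x0).norm C.S))
  have hg'j : g' * negM = negM * g' := comm_negM_of_jC (hval ▸ (hj.mul C.kz_jC).mul hj.inv)
  have hkz3 : C.kz ^ 3 = 1 := by
    rw [C.kz_eq, ← map_pow, x0, Ctx.dg_pow, show (3 • fun k : P1 => 2 * (k * k)) = 0 by decide, Frm.dg_zero, map_one]
  have hg'3 : g' ^ 3 = 1 := kl_injective (by rw [map_pow, ← hval, conj_pow, hkz3, mul_one, mul_inv_cancel, map_one])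
  obtain ⟨π, hπ⟩ := hg'N.exists_perm
  have hπ3 : ∀ v, π (π (π v)) = v := fun v => by
    have h3 := C.perm_pow hπ 3
    rw [hg'3] at h3
    exact congrFun (h3.unique C.S0 C.S0.perm_one) v
  have hlin : ∀ v : P1 × P1, π v = v.1.val • π b0 + v.2.val • π a0 := fun v => by
    conv_lhs => rw [show v = v.1.val • b0 + v.2.val • a0 by revert v; decide]
    rw [hπ.add C.S0, hπ.nsmul C.S0, hπ.nsmul C.S0]
  have hdet : (π a0).2 * (π b0).1 - (π b0).2 * (π a0).1 = 1 := by
    rw [← S0_B C (π a0) (π b0), hπ.symp C.S0, S0_B]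
    decide
  have hcl := order_three (π b0) (π a0) hdet (fun v => by simp only [← hlin]; exact hπ3 v)
  simp only [← hlin] at hcl
  rcases hcl with hid | ⟨c, l, hc0, hform⟩
  · exfalso
    obtain ⟨d, hd⟩ := C.scalar_of_id hπ hid hg'j
    have hs : (C.kz : Matrix P2 P2 F) = d • 1 := by
      have e : C.kz = h⁻¹ * kl g' * h := by rw [← hval]; group
      rw [e, Units.val_mul, Units.val_mul, kl_val, hd, Matrix.smul_kronecker, Matrix.one_kronecker_one,
        mul_smul_comm, mul_one, smul_mul_assoc, Units.inv_mul]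
    have h0 := congrFun (congrFun hs (0, 0)) (0, 0)
    have h1 := congrFun (congrFun hs (1, 0)) (1, 0)
    simp only [kz, Frm.dg_val, Matrix.diagonal_apply_eq, Matrix.smul_apply, Matrix.one_apply_eq, smul_eq_mul,
      mul_one, mul_zero, Frm.χ_zero] at h0 h1
    rw [← h0, ← C.S.χ_zero] at h1
    exact absurd (C.S.χ_inj h1) (by decide)
  obtain ⟨m, hm, hmj, τ, hτ, hτa⟩ := C.exists_move_neg hc0
  obtain ⟨σ, hσ, hl, hr⟩ := hτ.exists_inv C.S0
  obtain ⟨L, hL⟩ : ∃ L : P1, L = (l.val : P1) + 1 := ⟨_, rfl⟩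
  have hperm : C.S0.Perm (m⁻¹ * g' * m) fun v => (v.1, v.2 + L * v.1) := by
    intro v
    obtain ⟨e, he⟩ := (hσ.comp C.S0 hπ).comp C.S0 hτ v
    refine ⟨e, ?_⟩
    rw [he]
    congr 2
    simp only [Function.comp_apply]
    have hB : c.2 * (τ v).1 - (τ v).2 * c.1 = v.1 := by
      have := hτ.symp C.S0 a0 v
      rw [hτa, S0_B, S0_B] at this
      rw [this]
      simp [a0]
    have hsub : ∀ (k : P1) (x : P1 × P1), (k * x.1, k * x.2) = k.val • x := by decide
    rw [hform, ← hL, hB, show ((τ v).1 + L * v.1 * c.1, (τ v).2 + L * v.1 * c.2) = τ v + (L * v.1).val • c by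
      rw [← hsub]; rfl, hσ.add C.S0, hl, hσ.nsmul C.S0, ← hτa, hl, ← hsub]
    simp [a0, Prod.ext_iff]
  have hxL : C.S0.Perm (C.x0 ^ L.val) fun v => (v.1, v.2 + L * v.1) := by
    have h1 := C.perm_pow C.perm_x0 L.val
    have : (fun w : P1 × P1 => (w.1, w.2 + w.1))^[L.val] = fun v => (v.1, v.2 + L * v.1) := funext fun v => by
      revert v; clear hperm hL h1; revert L; decide
    rwa [this] at h1
  obtain ⟨ρ, hρ, -, hrρ⟩ := hxL.exists_inv C.S0
  have hnj : (m⁻¹ * g' * m * (C.x0 ^ L.val)⁻¹) * negM = negM * (m⁻¹ * g' * m * (C.x0 ^ L.val)⁻¹) :=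
    ((((show Commute m negM from hmj).inv_left).mul_left hg'j).mul_left hmj).mul_left
      ((show Commute C.x0 negM from C.comm_negM_x0).pow_left _).inv_left
  obtain ⟨d, hd⟩ := C.scalar_of_id (hperm.comp C.S0 hρ) (fun v => hrρ v) hnj
  obtain ⟨h', hh'⟩ : ∃ h', h' = (kl m)⁻¹ * h := ⟨_, rfl⟩
  have hh'M : h' ∈ O.M := hh' ▸ mul_mem (inv_mem (O.kl_mem hm)) hh
  have hQ : (h' : Matrix P2 P2 F) * C.kz =
      d • ((kl (C.x0 ^ L.val) : Matrix P2 P2 F) * h') := by
    have e1 : ((kl (m⁻¹ * g' * m) : GL P2 F) : Matrix P2 P2 F) = d • (kl (C.x0 ^ L.val) : Matrix P2 P2 F) := by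
      rw [show m⁻¹ * g' * m = (m⁻¹ * g' * m * (C.x0 ^ L.val)⁻¹) * C.x0 ^ L.val by group, map_mul, Units.val_mul,
        kl_val, kl_val, hd, Matrix.smul_kronecker, Matrix.one_kronecker_one, smul_mul_assoc, one_mul]
    rw [← smul_mul_assoc, ← e1, ← Units.val_mul, ← Units.val_mul]
    congr 1
    rw [hh', map_mul, map_mul, map_inv, ← hval]
    group
  have hx : (kl (C.x0 ^ L.val) : Matrix P2 P2 F) = Matrix.diagonal fun x : P2 => C.S.χ (L * (2 * (x.1 * x.1))) := by
    rw [map_pow, ← C.kz_eq, kz, Ctx.dg_pow, Frm.dg_val]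
    congr 1
    funext x
    rw [Pi.smul_apply, nsmul_eq_mul, ZMod.natCast_zmod_val]
  have hQ' : cj h' (C.kz : Matrix P2 P2 F) = d • (kl (C.x0 ^ L.val) : Matrix P2 P2 F) :=
    cj_eq_of_mul (by rw [hQ, smul_mul_assoc])
  have hkd : (C.kz : Matrix P2 P2 F) = Matrix.diagonal fun x : P2 => C.S.χ (2 * (x.1 * x.1)) := Frm.dg_val _ _
  have htr : ∑ x : P2, C.S.χ (2 * (x.1 * x.1)) = d * ∑ x : P2, C.S.χ (L * (2 * (x.1 * x.1))) := by
    have e := congrArg Matrix.trace hQ'
    rw [cj, Matrix.trace_mul_comm, ← mul_assoc, Units.inv_mul, one_mul, Matrix.trace_smul, hx, hkd,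
      Matrix.trace_diagonal, Matrix.trace_diagonal, smul_eq_mul] at e
    exact e
  have hquad : ∀ x : P2, (d * C.S.χ (L * (2 * (x.1 * x.1))) - 1) * (d * C.S.χ (L * (2 * (x.1 * x.1))) - C.S.χ 2) = 0 := by
    have h0 : ((C.kz : Matrix P2 P2 F) - 1) * ((C.kz : Matrix P2 P2 F) - C.S.χ 2 • 1) = 0 := by
      rw [hkd, ← Matrix.diagonal_one, ← Matrix.diagonal_smul, Matrix.diagonal_sub, Matrix.diagonal_sub,
        Matrix.diagonal_mul_diagonal, ← Matrix.diagonal_zero]
      congr 1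
      funext x
      simp only [Pi.smul_apply, smul_eq_mul, mul_one]
      by_cases h1 : x.1 = 0
      · simp [h1, Frm.χ_zero]
      · rw [(show ∀ a : P1, a ≠ 0 → a * a = 1 by decide) _ h1, mul_one, sub_self, mul_zero]
    have h1 := congrArg (cj h') h0
    have hcs : ∀ A A' : Matrix P2 P2 F, cj h' (A - A') = cj h' A - cj h' A' := fun A A' => by
      simp [cj, mul_sub, sub_mul]
    rw [cj_mul, hcs, hcs, cj_smul, cj_one, hQ', hx, ← Matrix.diagonal_smul, ← Matrix.diagonal_one,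
      ← Matrix.diagonal_smul, Matrix.diagonal_sub, Matrix.diagonal_sub, Matrix.diagonal_mul_diagonal,
      show cj h' (0 : Matrix P2 P2 F) = 0 by simp [cj], ← Matrix.diagonal_zero] at h1
    intro x
    have := congrFun (Matrix.diagonal_injective h1) x
    simpa using this
  have hsum : ∀ f : P1 → F, ∑ x : P2, f x.1 = 3 * (f 0 + f 1 + f 2) := fun f => by
    rw [Fintype.sum_prod_type]
    simp only [Finset.sum_const, Finset.card_univ, ZMod.card, ← Finset.smul_sum]
    rw [show (Finset.univ : Finset P1) = {0, 1, 2} by decide, Finset.sum_insert (by decide),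
      Finset.sum_insert (by decide), Finset.sum_singleton, nsmul_eq_mul, add_assoc]
    norm_num
  rw [hsum (fun a => C.S.χ (2 * (a * a))), hsum (fun a => C.S.χ (L * (2 * (a * a))))] at htr
  have q0 := hquad (0, 0)
  have q1 := hquad (1, 0)
  simp only [show (2 : P1) * (0 * 0) = 0 by decide, show (2 : P1) * (1 * 1) = 2 by decide,
    show (2 : P1) * (2 * 2) = 2 by decide, mul_zero, Frm.χ_zero, mul_one] at htr q0 q1
  have htr' : 1 + C.S.χ 2 + C.S.χ 2 = d * (1 + C.S.χ (L * 2) + C.S.χ (L * 2)) :=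
    mul_left_cancel₀ C.three (by linear_combination htr)
  have hc2 : (C.S.χ 2 : F) ≠ 1 := fun e => absurd (C.S.χ_inj (e.trans C.S.χ_zero.symm)) (by decide)
  have hL12 : L = 1 ∨ L = 2 := by
    have key : ∀ l : Fin 2, (l.val : P1) + 1 = 1 ∨ (l.val : P1) + 1 = 2 := by decide
    rw [hL]; exact key l
  have hgoal : L = 1 ∧ d = 1 := by
    rcases mul_eq_zero.1 q0 with e | e
    · have hd1 : d = 1 := sub_eq_zero.1 e
      refine ⟨?_, hd1⟩
      rcases hL12 with rfl | rfl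
      · rfl
      · exfalso
        rw [hd1, one_mul, show (2 : P1) * 2 = 1 by decide] at q1
        rcases mul_eq_zero.1 q1 with e | e
        · exact absurd (C.S.χ_inj ((sub_eq_zero.1 e).trans C.S.χ_zero.symm)) (by decide)
        · exact absurd (C.S.χ_inj (sub_eq_zero.1 e)) (by decide)
    · exfalso
      have hd2 : d = C.S.χ 2 := sub_eq_zero.1 e
      rcases hL12 with rfl | rfl
      · rw [hd2, one_mul, ← Frm.χ_add, show (2 : P1) + 2 = 1 by decide] at q1
        rcases mul_eq_zero.1 q1 with e | e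
        · exact absurd (C.S.χ_inj ((sub_eq_zero.1 e).trans C.S.χ_zero.symm)) (by decide)
        · exact absurd (C.S.χ_inj (sub_eq_zero.1 e)) (by decide)
      · rw [hd2, mul_add, mul_add, mul_one, ← Frm.χ_add, show (2 : P1) + 2 * 2 = 0 by decide, Frm.χ_zero] at htr'
        exact hc2 (by linear_combination htr')
  obtain ⟨hL1, hd1⟩ := hgoal
  have hcomm : h' * C.kz = C.kz * h' := Units.ext (by
    rw [Units.val_mul, Units.val_mul, hQ, hd1, one_smul, hL1, ZMod.val_one, pow_one, ← C.kz_eq])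
  have hN := O.norm_of_kz hy hh'M hcomm
  obtain ⟨π', hπ'⟩ := hm.1.exists_perm
  rw [show h = kl m * h' by rw [hh', mul_inv_cancel_left]]
  exact ((C.perm_kl hπ').norm C.S).mul C.S hN

end Over

end CfsgLib.Geo.HeisNine
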