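import Cfsg.Agent.Geo.HeisNine.Conj

/-!
The reflection of the first coordinate: the restriction of its centraliser to the three antisymmetric lines.
-/

set_option autoImplicit false
set_option linter.unusedSectionVars false
set_option linter.style.haveILetI false

namespace CfsgLib.Geo.HeisNine

open Matrix Cfsg.Geo CfsgLib.Geo
open scoped Kronecker

/-- The reflection of the first coordinate. -/
def jσ : Equiv.Perm P2 := Equiv.prodCongr (Equiv.neg P1) (Equiv.refl P1)

variable {F : Type*} [Field F]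

/-- The reflection matrix. -/
def jM : GL P2 F := Frm.pm jσ

/-- Commuting with the reflection. -/
def JC (g : GL P2 F) : Prop := g * jM = jM * g

/-- The antisymmetric lines. -/
def Wm (F : Type*) [Field F] : Matrix P2 P1 F :=
  Matrix.of fun x i => if x = (1, i) then 1 else if x = (2, i) then -1 else 0

/-- A left inverse of the antisymmetric lines. -/
def Lm (F : Type*) [Field F] : Matrix P1 P2 F := Matrix.of fun i x => if x = (1, i) then 1 else 0

/-- The restriction to the antisymmetric lines. -/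
def res (g : Matrix P2 P2 F) : Matrix P1 P1 F := Lm F * g * Wm F

theorem JC.mul {g h : GL P2 F} (hg : JC g) (hh : JC h) : JC (g * h) := by
  unfold JC at *
  rw [mul_assoc, hh, ← mul_assoc, hg, mul_assoc]

theorem JC.inv {g : GL P2 F} (hg : JC g) : JC (g⁻¹ : GL P2 F) := by
  unfold JC at *
  rw [inv_mul_eq_iff_eq_mul, ← mul_assoc, hg, mul_inv_cancel_right]

theorem jC_one : JC (1 : GL P2 F) := by simp [JC]

theorem JC.apply {g : GL P2 F} (hg : JC g) (x y : P2) :
    (g : Matrix P2 P2 F) (jσ x) (jσ y) = (g : Matrix P2 P2 F) x y := by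
  have e0 : ((g * jM : GL P2 F) : Matrix P2 P2 F) = ((jM * g : GL P2 F) : Matrix P2 P2 F) := congrArg Units.val hg
  have e := congrFun (congrFun e0 (jσ x)) y
  rw [Units.val_mul, Units.val_mul, Matrix.mul_apply, Matrix.mul_apply, Finset.sum_eq_single (jσ y),
    Finset.sum_eq_single x] at e
  · simpa [jM, Frm.pm_apply] using e
  · intro z _ hz
    rw [jM, Frm.pm_apply, if_neg (fun h => hz (jσ.injective h).symm), zero_mul]
  · simp
  · intro z _ hz
    rw [jM, Frm.pm_apply, if_neg hz, mul_zero]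
  · simp

theorem res_eq (g : Matrix P2 P2 F) (i j : P1) : res g i j = g (1, i) (1, j) - g (1, i) (2, j) := by
  rw [res, Matrix.mul_assoc, Matrix.mul_apply, Finset.sum_eq_single ((1 : P1), i)]
  · rw [Lm, Matrix.of_apply, if_pos rfl, one_mul, Matrix.mul_apply]
    rw [Finset.sum_eq_add ((1 : P1), j) ((2 : P1), j) (by simp [Prod.ext_iff]; decide) (fun x _ hx => by
      simp [Wm, hx.1, hx.2]) (by simp) (by simp)]
    have h12 : ((2 : P1), j) ≠ ((1 : P1), j) := by simp [Prod.ext_iff]; decide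
    simp [Wm, h12, sub_eq_add_neg]
  · intro x _ hx; simp [Lm, hx]
  · simp

theorem Lm_mul_Wm : Lm F * Wm F = 1 := by
  have h := res_eq (F := F) 1
  ext i j
  have e := h i j
  rw [res, Matrix.mul_one] at e
  rw [e]
  simp [Matrix.one_apply, Prod.ext_iff, show (1 : P1) ≠ 2 by decide]

theorem res_one : res (1 : Matrix P2 P2 F) = 1 := by rw [res, Matrix.mul_one, Lm_mul_Wm]

theorem res_smul (c : F) (A : Matrix P2 P2 F) : res (c • A) = c • res A := by
  simp [res]

theorem mul_Wm {g : GL P2 F} (hg : JC g) : (g : Matrix P2 P2 F) * Wm F = Wm F * res (g : Matrix P2 P2 F) := by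
  ext ⟨a, t⟩ j
  have hW : ∀ (x : P2) (M : Matrix P2 P2 F), (M * Wm F) x j = M x (1, j) - M x (2, j) := fun x M => by
    rw [Matrix.mul_apply, Finset.sum_eq_add ((1 : P1), j) ((2 : P1), j) (by simp [Prod.ext_iff]; decide) (fun z _ hz => by
      simp [Wm, hz.1, hz.2]) (by simp) (by simp)]
    have h12 : ((2 : P1), j) ≠ ((1 : P1), j) := by simp [Prod.ext_iff]; decide
    simp [Wm, h12, sub_eq_add_neg]
  rw [hW, Matrix.mul_apply]
  have h : ∀ x y : P2, (g : Matrix P2 P2 F) (-x.1, x.2) (-y.1, y.2) = (g : Matrix P2 P2 F) x y := hg.apply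
  rcases Ctx.p1_cases a with rfl | rfl | rfl
  · rw [Finset.sum_eq_zero fun i _ => by simp [Wm, Prod.ext_iff, show (0 : P1) ≠ 1 by decide, show (0 : P1) ≠ 2 by decide]]
    have := h (0, t) (1, j)
    simp only [neg_zero, show -(1 : P1) = 2 by decide] at this
    rw [this, sub_self]
  · rw [Finset.sum_eq_single t (fun i _ hi => by simp [Wm, Prod.ext_iff, Ne.symm hi]) (by simp), res_eq]
    simp [Wm]
  · rw [Finset.sum_eq_single t (fun i _ hi => by simp [Wm, Prod.ext_iff, Ne.symm hi]) (by simp), res_eq]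
    have h1 := h (2, t) (1, j)
    have h2 := h (2, t) (2, j)
    simp only [show -(1 : P1) = 2 by decide, show -(2 : P1) = 1 by decide] at h1 h2
    rw [h1, h2]
    simp [Wm, Prod.ext_iff, show (2 : P1) ≠ 1 by decide]

theorem res_mul {g : Matrix P2 P2 F} {h : GL P2 F} (hh : JC h) :
    res (g * (h : Matrix P2 P2 F)) = res g * res (h : Matrix P2 P2 F) := by
  calc Lm F * (g * (h : Matrix P2 P2 F)) * Wm F = Lm F * g * ((h : Matrix P2 P2 F) * Wm F) := by
        simp only [Matrix.mul_assoc]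
    _ = Lm F * g * (Wm F * res (h : Matrix P2 P2 F)) := by rw [mul_Wm hh]
    _ = res g * res (h : Matrix P2 P2 F) := by
        generalize res (h : Matrix P2 P2 F) = X
        simp only [res, Matrix.mul_assoc]

theorem res_gl_mul (g : GL P2 F) {h : GL P2 F} (hh : JC h) :
    res ((g * h : GL P2 F) : Matrix P2 P2 F) = res (g : Matrix P2 P2 F) * res (h : Matrix P2 P2 F) := by
  rw [Units.val_mul, res_mul hh]

/-- The restriction as a group element. -/
def resU (g : GL P2 F) (hg : JC g) : GL P1 F :=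
  ⟨res (g : Matrix P2 P2 F), res ((g⁻¹ : GL P2 F) : Matrix P2 P2 F),
    by rw [← res_gl_mul g hg.inv, mul_inv_cancel, Units.val_one, res_one],
    by rw [← res_gl_mul g⁻¹ hg, inv_mul_cancel, Units.val_one, res_one]⟩

theorem resU_mul {g h : GL P2 F} (hg : JC g) (hh : JC h) : resU (g * h) (hg.mul hh) = resU g hg * resU h hh :=
  Units.ext (res_gl_mul g hh)

theorem res_conj {g h : GL P2 F} (hg : JC g) (hh : JC h) :
    res ((g * h * g⁻¹ : GL P2 F) : Matrix P2 P2 F) =
      ((resU g hg * resU h hh * (resU g hg)⁻¹ : GL P1 F) : Matrix P1 P1 F) := by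
  rw [res_gl_mul _ hg.inv, res_gl_mul g hh]
  rfl

namespace Ctx

variable [Fintype F] (C : Ctx F)

theorem pm_jσ (g : GL P2 F) : JC g ↔ g * Frm.pm jσ = Frm.pm jσ * g := Iff.rfl

theorem jC_kr (h : GL P1 F) : JC (kr h) := by
  refine Units.ext ?_
  ext x y
  rw [Units.val_mul, Units.val_mul, Matrix.mul_apply, Matrix.mul_apply, Finset.sum_eq_single (jσ y),
    Finset.sum_eq_single (jσ.symm x)]
  · simp only [jM, Frm.pm_apply, Equiv.apply_symm_apply, if_true, mul_one, one_mul, kr_val, Matrix.kroneckerMap_apply,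
      Matrix.one_apply]
    congr 1
    show (if x.1 = -y.1 then (1 : F) else 0) = if -x.1 = y.1 then 1 else 0
    by_cases he : x.1 = -y.1
    · rw [if_pos he, if_pos (by rw [he, neg_neg])]
    · rw [if_neg he, if_neg (fun e => he (by rw [← e, neg_neg]))]
  · intro z _ hz
    rw [jM, Frm.pm_apply, if_neg (fun e => hz (by rw [e, Equiv.symm_apply_apply])), zero_mul]
  · simp
  · intro z _ hz
    rw [jM, Frm.pm_apply, if_neg hz, mul_zero]
  · simp

theorem res_kr (h : GL P1 F) : res (kr h : Matrix P2 P2 F) = (h : Matrix P1 P1 F) := by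
  ext i j
  rw [res_eq, kr_val]
  simp [Matrix.kroneckerMap_apply, Matrix.one_apply, show (1 : P1) ≠ 2 by decide]

theorem u_plane {v : V} (hv : p1 v = 0) : C.S.u v = kr (C.S0.u (p2 v)) := by
  refine Units.ext ?_
  rw [Frm.u_val, E_kron, hv, Frm.E_zero, kr_val, Frm.u_val]

theorem jC_u {v : V} (hv : p1 v = 0) : JC (C.S.u v) := C.u_plane hv ▸ jC_kr _

theorem res_E {v : V} (hv : p1 v = 0) : res (C.S.E v) = C.S0.E (p2 v) := by
  rw [← Frm.u_val, C.u_plane hv, res_kr, Frm.u_val]

theorem perm_jM : C.S.Perm (jM : GL P2 F) fun v => pr (-p1 v) (p2 v) := fun v => by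
  refine ⟨C.S.χ 0, C.S.cj_pm (w := (-v.1.1, v.1.2)) (l' := (-v.2.1, v.2.2)) (c := 0) (fun x => ?_) fun x => ?_⟩
  · show (-(x.1 + v.1.1), x.2 + v.1.2) = ((-x.1, x.2) : P2) + (-v.1.1, v.1.2)
    rw [Prod.mk_add_mk, neg_add]
  · show v.2.1 * x.1 + v.2.2 * x.2 = (-v.2.1) * (-x.1) + v.2.2 * x.2 + 0
    ring

theorem plane_image {g : GL P2 F} (hg : JC g) {v w : V} {c : F} (hv : p1 v = 0)
    (h : cj g (C.S.E v) = c • C.S.E w) : p1 w = 0 := by
  obtain ⟨e, he⟩ := C.perm_jM w
  have h1 : JC (g * C.S.u v * g⁻¹) := (hg.mul (C.jC_u hv)).mul hg.inv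
  have hval : ((g * C.S.u v * g⁻¹ : GL P2 F) : Matrix P2 P2 F) = c • C.S.E w := by
    rw [← cj_coe, Frm.u_val, h]
  have h2 : cj (jM : GL P2 F) (c • C.S.E w) = c • C.S.E w := by
    rw [← hval]
    refine cj_eq_of_mul ?_
    rw [← Units.val_mul, ← Units.val_mul, h1]
  rw [cj_smul, he, smul_smul] at h2
  have h3 := (C.S.smul_E_eq h2 (mul_ne_zero (C.S.coeff_ne h) (C.S.coeff_ne he))).1
  have h4 : -p1 w = p1 w := congrArg p1 h3
  generalize p1 w = a at h4 ⊢
  revert h4; revert a; decide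

theorem res_norm {g : GL P2 F} (hg : JC g) (hN : C.S.Norm g) : C.S0.Norm (resU g hg) := fun v => by
  obtain ⟨c, w, hw⟩ := hN (pr 0 v)
  have hw1 := C.plane_image hg (v := pr 0 v) rfl hw
  refine ⟨c, p2 w, ?_⟩
  have e := congrArg res hw
  rw [res_smul, C.res_E hw1] at e
  rw [← e, ← Frm.u_val, ← C.S.u_val, cj_coe, cj_coe, res_conj hg (C.jC_u rfl)]
  congr 3
  refine Units.ext ?_
  exact (C.res_E (v := pr 0 v) rfl).symm

end Ctx

end CfsgLib.Geo.HeisNine
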