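import Cfsg.Agent.Geo.HeisNine.Basic
import Cfsg.Agent.Geo.SLThree.Hessian.Main

/-!
The dimension three: the monomial normaliser, its transitivity, and what its overgroups look like.
-/

set_option autoImplicit false
set_option linter.unusedSectionVars false
set_option linter.style.haveILetI false

namespace CfsgLib.Geo.HeisNine

open Matrix Cfsg.Geo CfsgLib.Geo CfsgLib.Geo.SL3.Hessian

/-- The points of the small model. -/
abbrev P1 := ZMod 3

/-- A finite field with a cube root of unity. -/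
structure Ctx (F : Type*) [Field F] [Fintype F] where
  ω : F
  prim : IsPrimitiveRoot ω 3

namespace Ctx

variable {F : Type*} [Field F] [Fintype F] (C : Ctx F)

theorem three (C : Ctx F) : (3 : F) ≠ 0 := by
  have := C.prim.neZero'.out
  simpa using this

theorem nine (C : Ctx F) : (9 : F) ≠ 0 := by
  rw [show (9 : F) = 3 * 3 by norm_num]; exact mul_ne_zero C.three C.three

/-- The pairing on three points. -/
def S0 : Frm P1 F where
  d x y := x * y
  d_add := mul_add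
  d_symm := mul_comm
  d_nd := by decide
  tors := by decide
  ω := C.ω
  prim := C.prim
  card_ne := by simpa [ZMod.card] using C.three

theorem S0_d (x y : P1) : C.S0.d x y = x * y := rfl

theorem S0_B (v w : P1 × P1) : C.S0.B v w = v.2 * w.1 - w.2 * v.1 := rfl

/-- The generating phase index. -/
def a0 : P1 × P1 := (0, 1)

/-- The generating shift index. -/
def b0 : P1 × P1 := (1, 0)

theorem ω_sum (C : Ctx F) : 1 + C.ω + C.ω ^ 2 = 0 := by
  have := C.prim.geom_sum_eq_zero (by norm_num)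
  rwa [Finset.sum_range_succ, Finset.sum_range_succ, Finset.sum_range_succ, Finset.sum_range_zero,
    zero_add, pow_zero, pow_one] at this

theorem χ_two : C.S0.χ 2 = C.ω ^ 2 := rfl

theorem χ_val (a : P1) : C.S0.χ a = (![1, C.ω, C.ω ^ 2] : Fin 3 → F) a := by
  fin_cases a
  exacts [pow_zero _, pow_one _, rfl]

theorem dft_eq : (Matrix.of fun a b : P1 => C.S0.χ (a * b)) =
    (!![1, 1, 1; 1, C.ω, C.ω ^ 2; 1, C.ω ^ 2, C.ω] : Matrix (Fin 3) (Fin 3) F) := by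
  ext a b
  refine (C.χ_val _).trans ?_
  fin_cases a <;> fin_cases b <;> rfl

theorem dft_det : (((C.ω ^ 2 - C.ω) / 3) • Matrix.of fun a b : P1 => C.S0.χ (a * b)).det = 1 := by
  have h3 := C.three
  have hc : C.ω ^ 3 = 1 := C.S0.ω_cube
  have hs := C.ω_sum
  have key : (((C.ω ^ 2 - C.ω) / 3) •
      (!![1, 1, 1; 1, C.ω, C.ω ^ 2; 1, C.ω ^ 2, C.ω] : Matrix (Fin 3) (Fin 3) F)).det = 1 := by
    rw [Matrix.det_smul, Matrix.det_fin_three, Fintype.card_fin]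
    simp
    field_simp
    grind
  rw [C.dft_eq]
  exact key

/-- The discrete Fourier transform. -/
noncomputable def F0 : GL P1 F :=
  Matrix.GeneralLinearGroup.mkOfDetNeZero _ (C.dft_det.trans_ne one_ne_zero)

theorem F0_det : (C.F0 : Matrix P1 P1 F).det = 1 := C.dft_det

theorem F0_apply (a b : P1) : (C.F0 : Matrix P1 P1 F) a b = ((C.ω ^ 2 - C.ω) / 3) * C.S0.χ (a * b) := rfl

theorem perm_F0 : C.S0.Perm C.F0 fun v => (-v.2, v.1) := fun v => by
  refine ⟨C.S0.χ (-(v.2 * v.1)), cj_eq_of_mul ?_⟩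
  ext a b
  rw [smul_mul_assoc, Matrix.smul_apply, smul_eq_mul, Matrix.mul_apply, Matrix.mul_apply,
    Finset.sum_eq_single (b + v.1), Finset.sum_eq_single (a + v.2)]
  · simp only [Frm.E_apply, F0_apply, S0_d]
    rw [if_pos (show a = a + v.2 + -v.2 by abel)]
    simp only [if_true]
    have : C.S0.χ (a * (b + v.1)) * C.S0.χ (v.2 * b) =
        C.S0.χ (-(v.2 * v.1)) * (C.S0.χ (v.1 * (a + v.2)) * C.S0.χ ((a + v.2) * b)) := by
      simp only [← Frm.χ_add]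
      congr 1; ring
    linear_combination ((C.ω ^ 2 - C.ω) / 3) * this
  · intro x _ hx
    simp only [Frm.E_apply]
    rw [if_neg (fun e => hx (by rw [e]; abel)), zero_mul]
  · simp
  · intro x _ hx
    simp [Frm.E_apply, hx]
  · simp

/-- The phase lifting the transvection at the generating index. -/
def x0 : GL P1 F := C.S0.dg fun k => 2 * (k * k)

theorem perm_x0 : C.S0.Perm C.x0 fun v => (v.1, v.2 + v.1) := fun v => by
  refine ⟨C.S0.χ (2 * (v.1 * v.1)), cj_eq_of_mul ?_⟩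
  ext a b
  rw [x0, Frm.dg_val, Matrix.diagonal_mul, Matrix.mul_diagonal, Matrix.smul_apply, smul_eq_mul]
  simp only [Frm.E_apply, S0_d]
  by_cases hab : a = b + v.1
  · subst hab
    rw [if_pos rfl, if_pos rfl]
    simp only [← Frm.χ_add]
    congr 1
    generalize v.1 = s
    generalize v.2 = l
    revert s l b; decide
  · simp [hab]

theorem x0_det_cube : (C.x0 : Matrix P1 P1 F).det ^ 3 = 1 := by
  rw [x0, Frm.det_dg, Frm.χ_cube]

theorem det_E0 (v : P1 × P1) : (C.S0.E v).det = 1 := by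
  have h : C.S0.E v = (Frm.pm (F := F) (Equiv.addRight v.1) : Matrix P1 P1 F) *
      (C.S0.dg fun k => v.2 * k : Matrix P1 P1 F) := by
    ext a b
    rw [Frm.dg_val, Matrix.mul_diagonal, Frm.pm_apply, Frm.E_apply]
    simp only [S0_d, Equiv.coe_addRight]
    by_cases h : a = b + v.1 <;> simp [h]
  rw [h, Matrix.det_mul, Frm.det_pm, Frm.det_dg,
    show Equiv.Perm.sign (Equiv.addRight v.1) = 1 by generalize v.1 = s; revert s; decide,
    show ∑ k : P1, v.2 * k = 0 by generalize v.2 = s; revert s; decide]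
  simp [Frm.χ_zero]

/-- The normalising elements whose determinant cubes to one. -/
def G0 : Subgroup (GL P1 F) where
  carrier := {g | C.S0.Norm g ∧ (g : Matrix P1 P1 F).det ^ 3 = 1}
  mul_mem' := fun {g h} hg hh => ⟨hg.1.mul C.S0 hh.1,
    by rw [Units.val_mul, Matrix.det_mul, mul_pow, hg.2, hh.2, one_mul]⟩
  one_mem' := ⟨C.S0.norm_one, by simp⟩
  inv_mem' := fun {g} hg => ⟨hg.1.inv C.S0, by
    have h : ((g⁻¹ : GL P1 F) : Matrix P1 P1 F).det * (g : Matrix P1 P1 F).det = 1 := by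
      rw [← Matrix.det_mul, Units.inv_mul, Matrix.det_one]
    calc ((g⁻¹ : GL P1 F) : Matrix P1 P1 F).det ^ 3
        = ((g⁻¹ : GL P1 F) : Matrix P1 P1 F).det ^ 3 * (g : Matrix P1 P1 F).det ^ 3 := by rw [hg.2, mul_one]
      _ = 1 := by rw [← mul_pow, h, one_pow]⟩

theorem F0_mem : C.F0 ∈ C.G0 := ⟨C.perm_F0.norm C.S0, by rw [C.F0_det, one_pow]⟩

theorem x0_mem : C.x0 ∈ C.G0 := ⟨C.perm_x0.norm C.S0, C.x0_det_cube⟩

theorem u_mem (v : P1 × P1) : C.S0.u v ∈ C.G0 := ⟨C.S0.norm_u v, by rw [Frm.u_val, C.det_E0, one_pow]⟩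

theorem perm_pow {g : GL P1 F} {π : P1 × P1 → P1 × P1} (h : C.S0.Perm g π) (n : ℕ) :
    C.S0.Perm (g ^ n) π^[n] := by
  induction n with
  | zero => exact C.S0.perm_one
  | succ n ih =>
    rw [pow_succ', Function.iterate_succ']
    exact h.comp C.S0 ih

theorem exists_move {v : P1 × P1} (hv : v ≠ 0) :
    ∃ h ∈ C.G0, ∃ π, C.S0.Perm h π ∧ π a0 = v := by
  obtain ⟨i, j, hij⟩ : ∃ i j : Fin 4, (fun w : P1 × P1 => (-w.2, w.1))^[i.val]
      ((fun w : P1 × P1 => (w.1, w.2 + w.1))^[j.val] ((fun w : P1 × P1 => (-w.2, w.1)) a0)) = v := by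
    revert hv; revert v; decide
  exact ⟨C.F0 ^ i.val * (C.x0 ^ j.val * C.F0), mul_mem (pow_mem C.F0_mem _) (mul_mem (pow_mem C.x0_mem _) C.F0_mem),
    _, (C.perm_pow C.perm_F0 _).comp C.S0 ((C.perm_pow C.perm_x0 _).comp C.S0 C.perm_F0), hij⟩

/-- An element normalising the monomials is a scalar times one whose determinant cubes to one. -/
theorem exists_scaled {g : GL P1 F} (hg : C.S0.Norm g) :
    ∃ h ∈ C.G0, ∃ c : F, (g : Matrix P1 P1 F) = c • (h : Matrix P1 P1 F) := by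
  obtain ⟨π, hπ⟩ := hg.exists_perm
  have hv : π a0 ≠ 0 := fun e => by
    have := hπ.injective C.S0 (e.trans (hπ.zero C.S0).symm)
    exact absurd this (by decide)
  obtain ⟨n, hn, σ, hσ, hσa⟩ := C.exists_move hv
  obtain ⟨σ', hσ', hl, -⟩ := hσ.exists_inv C.S0
  have h1 := hσ'.comp C.S0 hπ
  have hfa : σ' (π a0) = a0 := by rw [← hσa, hl]
  obtain ⟨m, hm⟩ : ∃ m : P1, σ' (π b0) = (1, m) := by
    have hB := h1.symp C.S0 a0 b0
    simp only [Function.comp_apply, hfa] at hB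
    refine ⟨(σ' (π b0)).2, Prod.ext ?_ rfl⟩
    simpa [S0_B, a0, b0] using hB
  have hx := C.perm_pow C.perm_x0 (-m).val
  have h2 := hx.comp C.S0 h1
  have hfix : ∀ v : P1 × P1, ((fun w : P1 × P1 => (w.1, w.2 + w.1))^[(-m).val] ∘ σ' ∘ π) v = v := by
    intro v
    have hab : ((fun w : P1 × P1 => (w.1, w.2 + w.1))^[(-m).val]) a0 = a0 ∧
        ((fun w : P1 × P1 => (w.1, w.2 + w.1))^[(-m).val]) (1, m) = b0 :=
      (show ∀ k : P1, ((fun w : P1 × P1 => (w.1, w.2 + w.1))^[(-k).val]) a0 = a0 ∧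
        ((fun w : P1 × P1 => (w.1, w.2 + w.1))^[(-k).val]) (1, k) = b0 by decide) m
    have hv : v = v.1.val • b0 + v.2.val • a0 := by revert v; decide
    rw [hv, h2.add C.S0, h2.nsmul C.S0, h2.nsmul C.S0]
    simp [hfa, hm, hab.1, hab.2]
  obtain ⟨c, w, hw⟩ := C.S0.isP_of_fix (g := C.x0 ^ (-m).val * (n⁻¹ * g)) fun v => by
    obtain ⟨c, hc⟩ := h2 v
    rw [hfix v] at hc
    exact ⟨c, hc⟩
  refine ⟨n * (C.x0 ^ (-m).val)⁻¹ * C.S0.u w,
    mul_mem (mul_mem hn (inv_mem (pow_mem C.x0_mem _))) (C.u_mem w), c, ?_⟩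
  have e : g = (n * (C.x0 ^ (-m).val)⁻¹) * (C.x0 ^ (-m).val * (n⁻¹ * g)) := by group
  conv_lhs => rw [e]
  rw [Units.val_mul, hw, Units.val_mul (n * (C.x0 ^ (-m).val)⁻¹) (C.S0.u w), Frm.u_val, mul_smul_comm]

theorem norm_of_two {g : GL P1 F} (ha : C.S0.IsP (cj g (C.S0.E a0))) (hb : C.S0.IsP (cj g (C.S0.E b0))) :
    C.S0.Norm g := by
  have hadd : ∀ v w, C.S0.IsP (cj g (C.S0.E v)) → C.S0.IsP (cj g (C.S0.E w)) →
      C.S0.IsP (cj g (C.S0.E (v + w))) := by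
    rintro v w ⟨c, x, hx⟩ ⟨c', x', hx'⟩
    refine ⟨(C.S0.χ (C.S0.d v.2 w.1))⁻¹ * (c * c' * C.S0.χ (C.S0.d x.2 x'.1)), x + x', ?_⟩
    have e : C.S0.E (v + w) = (C.S0.χ (C.S0.d v.2 w.1))⁻¹ • (C.S0.E v * C.S0.E w) := by
      rw [Frm.E_mul, smul_smul, inv_mul_cancel₀ (C.S0.χ_ne _), one_smul]
    rw [e, cj_smul, cj_mul, hx, hx', smul_mul_smul_comm, Frm.E_mul, smul_smul, smul_smul]
    congr 1; ring
  have h0 : C.S0.IsP (cj g (C.S0.E 0)) := ⟨1, 0, by rw [C.S0.E_zero, cj_one, one_smul]⟩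
  intro v
  have hn : ∀ (w : P1 × P1), C.S0.IsP (cj g (C.S0.E w)) → ∀ n : ℕ, C.S0.IsP (cj g (C.S0.E (n • w))) := by
    intro w hw n
    induction n with
    | zero => rw [zero_smul]; exact h0
    | succ n ih => rw [succ_nsmul]; exact hadd _ _ ih hw
  have hv : v = v.1.val • b0 + v.2.val • a0 := by revert v; decide
  rw [hv]
  exact hadd _ _ (hn _ hb _) (hn _ ha _)

theorem u_a0_val : ((C.S0.u a0 : GL P1 F) : Matrix P1 P1 F) =
    (Matrix.diagonal ![1, C.ω, C.ω ^ 2] : Matrix (Fin 3) (Fin 3) F) := by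
  ext a b
  rw [Frm.u_val, Frm.E_apply]
  simp only [a0, add_zero, S0_d, one_mul]
  by_cases h : a = b
  · subst h
    rw [if_pos rfl]
    exact (C.χ_val a).trans (Matrix.diagonal_apply_eq (![1, C.ω, C.ω ^ 2] : Fin 3 → F) a).symm
  · rw [if_neg h]
    exact (Matrix.diagonal_apply_ne (![1, C.ω, C.ω ^ 2] : Fin 3 → F) (i := a) (j := b) h).symm

theorem u_b0_val : ((C.S0.u b0 : GL P1 F) : Matrix P1 P1 F) = CfsgLib.Elusive.cycMat F := by
  ext a b
  rw [Frm.u_val, Frm.E_apply]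
  simp only [b0, S0_d, zero_mul, Frm.χ_zero]
  fin_cases a <;> fin_cases b <;> rfl

set_option maxHeartbeats 1000000 in
/-- An overgroup of the normaliser inside the special linear group is the normaliser or everything. -/
theorem three_cases (hp : (Fintype.card F).Prime) (hmod : Fintype.card F % 3 = 1) (X : Subgroup (GL P1 F))
    (hle : X ≤ specialLinear P1 F)
    (hN : ∀ h ∈ specialLinear P1 F, C.S0.Norm h → h ∈ X) :
    (∀ h ∈ X, C.S0.Norm h) ∨ specialLinear P1 F ≤ X := by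
  have hμ := C.prim
  have h3' := C.three
  obtain ⟨a, ha⟩ : ∃ a : GL (Fin 3) F, a = C.S0.u a0 := ⟨_, rfl⟩
  obtain ⟨b, hb⟩ : ∃ b : GL (Fin 3) F, b = C.S0.u b0 := ⟨_, rfl⟩
  have hav : (a : Matrix (Fin 3) (Fin 3) F) = Matrix.diagonal ![1, C.ω, C.ω ^ 2] := ha ▸ C.u_a0_val
  have hbv : (b : Matrix (Fin 3) (Fin 3) F) = CfsgLib.Elusive.cycMat F := hb ▸ C.u_b0_val
  have hdet : ∀ v, C.S0.u v ∈ specialLinear P1 F := fun v => mem_specialLinear.2 (C.det_E0 v)
  have haX : a ∈ X := ha ▸ hN _ (hdet _) (C.S0.norm_u _)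
  have hbX : b ∈ X := hb ▸ hN _ (hdet _) (C.S0.norm_u _)
  let Pm : Subgroup (GL P1 F) :=
    { carrier := {g | C.S0.IsP (g : Matrix P1 P1 F)}
      mul_mem' := fun {g h} ⟨c, x, hx⟩ ⟨c', y, hy⟩ => ⟨c * c' * C.S0.χ (C.S0.d x.2 y.1), x + y, by
        rw [Units.val_mul, hx, hy, smul_mul_smul_comm, Frm.E_mul, smul_smul]⟩
      one_mem' := ⟨1, 0, by rw [C.S0.E_zero, one_smul]; rfl⟩
      inv_mem' := fun {g} ⟨c, x, hx⟩ => by
        refine ⟨c⁻¹ * C.S0.χ (C.S0.d x.2 x.1), -x, ?_⟩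
        refine Units.inv_eq_of_mul_eq_one_right ?_
        have hc : c ≠ 0 := fun e => g.ne_zero (by rw [hx, e, zero_smul])
        rw [hx, smul_mul_smul_comm, Frm.E_mul_neg, smul_smul, mul_assoc, mul_assoc, ← Frm.χ_add, add_neg_cancel,
          Frm.χ_zero, mul_one, mul_inv_cancel₀ hc, one_smul] }
  have hR : ∀ x : GL (Fin 3) F, x ∈ Subgroup.closure ({a, b} : Set (GL (Fin 3) F)) → C.S0.IsP
      (Units.val (α := Matrix P1 P1 F) x) := fun x hx => by
    refine (Subgroup.closure_le (k := ({a, b} : Set (GL (Fin 3) F))) Pm).2 ?_ hx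
    rintro x (rfl | rfl)
    · exact ⟨1, a0, by rw [one_smul, ha]; rfl⟩
    · exact ⟨1, b0, by rw [one_smul, hb]; rfl⟩
  have hnorm : ∀ g : GL (Fin 3) F, g * a * g⁻¹ ∈ Subgroup.closure ({a, b} : Set (GL (Fin 3) F)) →
      g * b * g⁻¹ ∈ Subgroup.closure ({a, b} : Set (GL (Fin 3) F)) → C.S0.Norm (g : GL P1 F) := fun g h1 h2 => by
    have e1 := hR _ h1
    have e2 := hR _ h2
    rw [ha] at e1
    rw [hb] at e2
    exact C.norm_of_two e1 e2
  have hmem : ∀ g ∈ specialLinear (Fin 3) F, g * a * g⁻¹ ∈ Subgroup.closure {a, b} →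
      g * b * g⁻¹ ∈ Subgroup.closure {a, b} → g ∈ X := fun g hg h1 h2 => hN g hg (hnorm g h1 h2)
  have hframe : HasFrame C.ω X := ⟨hμ, h3', ⟨a, haX, hav⟩, ⟨b, hbX, hbv⟩⟩
  by_cases htv : ∃ w φ : Fin 3 → F, w ≠ 0 ∧ φ ≠ 0 ∧ HasTv X w φ
  · obtain ⟨w, φ, hw, hφ, hwφ⟩ := htv
    exact Or.inr (sl_of_tv (exists_natCast hp) hframe hw hφ hwφ)
  push Not at htv
  left
  have hμ0 : C.ω ≠ 0 := hμ.ne_zero (by norm_num)
  have hsum := C.ω_sum
  have hc3 := C.S0.ω_cube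
  obtain ⟨z, hz⟩ : ∃ z : GL (Fin 3) F, (z : Matrix (Fin 3) (Fin 3) F) = C.ω • 1 :=
    ⟨Matrix.GeneralLinearGroup.mkOfDetNeZero (C.ω • 1) (by simp [hμ0]), rfl⟩
  obtain ⟨t, ht⟩ : ∃ t : GL (Fin 3) F, (t : Matrix (Fin 3) (Fin 3) F) = !![-1, 0, 0; 0, 0, -1; 0, -1, 0] :=
    ⟨Matrix.GeneralLinearGroup.mkOfDetNeZero !![-1, 0, 0; 0, 0, -1; 0, -1, 0] (by simp [Matrix.det_fin_three]), rfl⟩
  have hdu : (((C.ω ^ 2 - C.ω) / 3) • !![1, 1, 1; 1, C.ω, C.ω ^ 2; 1, C.ω ^ 2, C.ω]).det = 1 := by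
    rw [Matrix.det_smul, Matrix.det_fin_three, Fintype.card_fin]
    simp
    field_simp
    grind
  have hdv : (((C.ω ^ 2 - C.ω) / 3) • !![1, C.ω ^ 2, C.ω ^ 2; C.ω, C.ω, C.ω ^ 2; C.ω, C.ω ^ 2, C.ω]).det = 1 := by
    rw [Matrix.det_smul, Matrix.det_fin_three, Fintype.card_fin]
    simp
    field_simp
    grind
  obtain ⟨u, hu⟩ : ∃ u : GL (Fin 3) F,
      (u : Matrix (Fin 3) (Fin 3) F) = ((C.ω ^ 2 - C.ω) / 3) • !![1, 1, 1; 1, C.ω, C.ω ^ 2; 1, C.ω ^ 2, C.ω] :=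
    ⟨Matrix.GeneralLinearGroup.mkOfDetNeZero _ (hdu.trans_ne one_ne_zero), rfl⟩
  obtain ⟨v, hv⟩ : ∃ v : GL (Fin 3) F,
      (v : Matrix (Fin 3) (Fin 3) F) =
        ((C.ω ^ 2 - C.ω) / 3) • !![1, C.ω ^ 2, C.ω ^ 2; C.ω, C.ω, C.ω ^ 2; C.ω, C.ω ^ 2, C.ω] :=
    ⟨Matrix.GeneralLinearGroup.mkOfDetNeZero _ (hdv.trans_ne one_ne_zero), rfl⟩
  let S : Setup F :=
    { M := X, μ := C.ω, a := a, b := b, z := z, t := t, u := u, v := v, prim := hμ, three := h3', a_val := hav,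
      b_val := hbv, z_val := hz, t_val := ht, u_val := hu, v_val := hv, le_sl := hle, p := Fintype.card F,
      prime := hp, charP := charP_of_card_prime hp, seven_le := seven_le_of_mod hmod hp,
      slope := fun _ _ g _ Q α β γ _ hg => slope_of_prime hp Q g α β γ hg, noTv := fun w φ hw hwφ => by
        by_contra hφ
        exact htv w φ hw hφ hwφ,
      mem_of_normalizes := hmem }
  intro g hg
  have hgX : g ∈ S.X := S.M_le_X hg
  exact hnorm g (S.conj_mem_R hgX S.a_mem_R) (S.conj_mem_R hgX S.b_mem_R)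

theorem not_commute_conj : ∀ p q : P1 × P1,
    let π : P1 × P1 → P1 × P1 := fun v => v.1.val • p + v.2.val • q
    let σ : P1 × P1 → P1 × P1 := fun v => (-(π (v.2, -v.1)).2, (π (v.2, -v.1)).1)
    C.S0.B q p = 1 → (∀ v, π (π (π v)) = v) → (∀ v, π (σ v) = σ (π v)) → ∀ v, π v = v := by
  intro p q
  simp only [S0_B]
  revert p q
  decide

theorem eq_id_of_commute (π : P1 × P1 → P1 × P1) (hl : ∀ v : P1 × P1, π v = v.1.val • π b0 + v.2.val • π a0)
    (hB : C.S0.B (π a0) (π b0) = 1) (h3 : ∀ v, π (π (π v)) = v)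
    (hc : ∀ v : P1 × P1, π (-(π (v.2, -v.1)).2, (π (v.2, -v.1)).1) =
      (-(π ((π v).2, -(π v).1)).2, (π ((π v).2, -(π v).1)).1)) : ∀ v, π v = v := by
  have h := C.not_commute_conj (π b0) (π a0) hB
  obtain ⟨f, hf⟩ : ∃ f : P1 × P1 → P1 × P1, f = fun v => v.1.val • π b0 + v.2.val • π a0 := ⟨_, rfl⟩
  have e : π = f := funext fun v => by rw [hl v, hf]
  rw [← hf, ← e] at h
  exact h h3 hc

/-- An element normalising the special part of the normaliser normalises the monomials. -/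
theorem norm_of_normalizes {g : GL P1 F}
    (h : ∀ x ∈ specialLinear P1 F, C.S0.Norm x → C.S0.Norm (g * x * g⁻¹))
    (h' : ∀ x ∈ specialLinear P1 F, C.S0.Norm x → C.S0.Norm (g⁻¹ * x * g)) : C.S0.Norm g := by
  have key : ∀ v, C.S0.IsP (cj g (C.S0.E v)) := by
    intro v
    obtain ⟨w, hw⟩ : ∃ w, w = g * C.S0.u v * g⁻¹ := ⟨_, rfl⟩
    have hwN : C.S0.Norm w := hw ▸ h _ (mem_specialLinear.2 (C.det_E0 v)) (C.S0.norm_u v)
    obtain ⟨π, hπ⟩ := hwN.exists_perm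
    have hw3 : w ^ 3 = 1 := by
      rw [hw, conj_pow, show C.S0.u v ^ 3 = 1 from Units.ext (by
        rw [Units.val_pow_eq_pow_val, Frm.u_val, Frm.E_cube]; rfl), mul_one, mul_inv_cancel]
    have hπ3 : ∀ x, π (π (π x)) = x := fun x => by
      have h3 := C.perm_pow hπ 3
      rw [hw3] at h3
      exact congrFun (h3.unique C.S0 C.S0.perm_one) x
    obtain ⟨m, hm⟩ : ∃ m, m = C.F0 * w * C.F0⁻¹ := ⟨_, rfl⟩
    have hzN : C.S0.Norm (g⁻¹ * C.F0 * g) := h' _ (mem_specialLinear.2 C.F0_det) (C.perm_F0.norm C.S0)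
    obtain ⟨c, y, hy⟩ := hzN v
    have hm' : (m : Matrix P1 P1 F) = c • cj g (C.S0.E y) := by
      have e : m = g * ((g⁻¹ * C.F0 * g) * C.S0.u v * (g⁻¹ * C.F0 * g)⁻¹) * g⁻¹ := by rw [hm, hw]; group
      rw [e, ← cj_coe, ← cj_coe, Frm.u_val, hy, cj_smul]
    have hcomm : ((w * m : GL P1 F) : Matrix P1 P1 F) = C.S0.χ (C.S0.B v y) • ((m * w : GL P1 F) : Matrix P1 P1 F) := by
      rw [Units.val_mul, Units.val_mul, hm', hw, ← cj_coe, Frm.u_val, mul_smul_comm, smul_mul_assoc, ← cj_mul,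
        ← cj_mul, Frm.E_comm, cj_smul, smul_smul, smul_smul, mul_comm]
    obtain ⟨φ, hφ, hφl, -⟩ := C.perm_F0.exists_inv C.S0
    have hm1 : C.S0.Perm m ((fun u => (-u.2, u.1)) ∘ π ∘ φ) := hm ▸ (C.perm_F0.comp C.S0 hπ).comp C.S0 hφ
    have e1 := hπ.comp C.S0 hm1
    have e2 : C.S0.Perm (w * m) (((fun u => (-u.2, u.1)) ∘ π ∘ φ) ∘ π) := fun x => by
      obtain ⟨d, hd⟩ := (hm1.comp C.S0 hπ) x
      exact ⟨d, by rw [cj_of_smul hcomm, hd]⟩
    have heq := e1.unique C.S0 e2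
    have hφ' : ∀ x : P1 × P1, φ x = (x.2, -x.1) := fun x => by
      have := hφl (x.2, -x.1)
      simpa using this
    have hlin : ∀ x : P1 × P1, π x = x.1.val • π b0 + x.2.val • π a0 := fun x => by
      conv_lhs => rw [show x = x.1.val • b0 + x.2.val • a0 by revert x; decide]
      rw [hπ.add C.S0, hπ.nsmul C.S0, hπ.nsmul C.S0]
    have hid' : ∀ x, π x = x := C.eq_id_of_commute π hlin
      (by rw [hπ.symp C.S0]; simp [S0_B, a0, b0]) hπ3 fun x => by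
        have := congrFun heq x
        simpa only [Function.comp_apply, hφ'] using this
    obtain ⟨c', x', hx'⟩ := C.S0.isP_of_fix (g := w) fun x => by
      obtain ⟨d, hd⟩ := hπ x
      exact ⟨d, by rw [hd, hid']⟩
    exact ⟨c', x', by rw [← hx', hw, ← cj_coe, Frm.u_val]⟩
  exact key

end Ctx

end CfsgLib.Geo.HeisNine
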