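import Cfsg.Agent.Geo.HeisNine.Global
import Cfsg.Agent.Geo.TensorPow.U.Basic

/-!
The monomials are isometries over the square of a field with order two modulo three; so are the normalising
elements of determinant one.
-/

set_option autoImplicit false
set_option linter.unusedSectionVars false
set_option linter.style.haveILetI false

namespace CfsgLib.Geo.HeisNine

open Matrix Cfsg Cfsg.Geo CfsgLib.Geo
open CfsgLib.Geo.TensorPow.U (st hd)

variable {ι : Type} [Fintype ι] [DecidableEq ι] {F : Type*} [Field F] {q : ℕ}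

/-- Preserving the sum of norms. -/
def IsU (q : ℕ) (g : GL ι F) : Prop := st q (g : Matrix ι ι F) * (g : Matrix ι ι F) = 1

section general

variable [Finite F] (hF : Nat.card F = q ^ 2)
include hF

theorem isU_one : IsU q (1 : GL ι F) := by
  rw [IsU, Units.val_one, TensorPow.U.st_one hF, one_mul]

theorem IsU.mul {g h : GL ι F} (hg : IsU q g) (hh : IsU q h) : IsU q (g * h) := by
  unfold IsU at *
  rw [Units.val_mul, TensorPow.U.st_mul hF, mul_assoc, ← mul_assoc (st q (g : Matrix ι ι F)), hg, one_mul, hh]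

theorem IsU.inv {g : GL ι F} (hg : IsU q g) : IsU q g⁻¹ := by
  have e : ((g⁻¹ : GL ι F) : Matrix ι ι F) = st q (g : Matrix ι ι F) :=
    Units.inv_eq_of_mul_eq_one_left hg
  rw [IsU, e, TensorPow.U.st_st hF, ← e, Units.mul_inv]

theorem isU_iff_mem_GU {n : ℕ} {g : GL (Fin n) F} : IsU q g ↔ g ∈ Cfsg.GU n F q :=
  TensorPow.U.isU_iff hF _

theorem isU_reindex {κ : Type} [Fintype κ] [DecidableEq κ] (e : κ ≃ ι) (g : GL κ F) :
    IsU q (glReindex e g) ↔ IsU q g := by
  unfold IsU
  rw [show ((glReindex e g : GL ι F) : Matrix ι ι F) = (g : Matrix κ κ F).submatrix e.symm e.symm from rfl,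
    show st q ((g : Matrix κ κ F).submatrix e.symm e.symm) = (st q (g : Matrix κ κ F)).submatrix e.symm e.symm from rfl,
    Matrix.submatrix_mul_equiv]
  constructor
  · intro h
    have h' := congrArg (fun X : Matrix ι ι F => X.submatrix e e) h
    simpa using h'
  · intro h; rw [h, Matrix.submatrix_one_equiv]

theorem IsU.det {g : GL ι F} (hg : IsU q g) : (g : Matrix ι ι F).det ^ q * (g : Matrix ι ι F).det = 1 := by
  have h := congrArg Matrix.det hg
  rwa [Matrix.det_mul, st, Matrix.det_transpose, TensorPow.U.map_frob hF,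
    show (g : Matrix ι ι F).map (CfsgLib.Forms.frobQ hF) = (CfsgLib.Forms.frobQ hF).mapMatrix (g : Matrix ι ι F) from rfl,
    ← RingHom.map_det, CfsgLib.Forms.frobQ_apply hF, Matrix.det_one] at h

/-- The gram matrix of a group element is fixed by the conjugate transpose. -/
theorem st_gram (A : Matrix ι ι F) : st q (st q A * A) = st q A * A := by
  rw [TensorPow.U.st_mul hF, TensorPow.U.st_st hF]

theorem eq_one_of_cube {c : F} (hmod : q % 3 = 2) (hc : c ^ q = c) (h3 : c ^ 3 = 1) : c = 1 := by
  have h0 : c ≠ 0 := fun h => by simp [h] at h3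
  rw [← Nat.div_add_mod q 3, hmod, pow_add, pow_mul, h3, one_pow, one_mul] at hc
  exact mul_right_cancel₀ h0 (by rw [one_mul, ← pow_two, hc])

end general

namespace Frm

variable {α : Type} [AddCommGroup α] [Fintype α] [DecidableEq α] [Finite F] (S : Frm α F)
  (hF : Nat.card F = q ^ 2) (hmod : q % 3 = 2)
include hF hmod

theorem χ_norm (a : ZMod 3) : S.χ a ^ q * S.χ a = 1 := by
  rw [← pow_succ, ← Nat.div_add_mod q 3, hmod, show 3 * (q / 3) + 2 + 1 = 3 * (q / 3 + 1) by ring, pow_mul,
    S.χ_cube, one_pow]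

theorem isU_u (v : α × α) : IsU q (S.u v) := by
  unfold IsU
  ext a c
  simp only [st, Matrix.mul_apply, Matrix.transpose_apply, Matrix.map_apply, u_val, E_apply]
  rw [Finset.sum_eq_single (c + v.1)]
  · rw [if_pos rfl, Matrix.one_apply]
    by_cases h : a = c
    · subst h; rw [if_pos rfl, if_pos rfl, S.χ_norm hF hmod]
    · rw [if_neg h, if_neg (fun e => h (add_right_cancel e).symm), zero_pow (TensorPow.U.q_ne_zero hF), zero_mul]
  · intro b _ hb
    rw [if_neg hb, mul_zero]
  · simp

/-- An element conjugating all monomials to isometries carries the form to a multiple. -/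
theorem gram_scalar (g : GL α F) (h : ∀ x, IsU q (g * S.u x * g⁻¹)) :
    ∃ k : F, k ≠ 0 ∧ k ^ q = k ∧ st q (g : Matrix α α F) * (g : Matrix α α F) = k • 1 := by
  obtain ⟨G, hG⟩ : ∃ G, G = st q (g : Matrix α α F) * (g : Matrix α α F) := ⟨_, rfl⟩
  have hc : ∀ x, cj (S.u x) G = G := fun x => by
    have h1 := h x
    have h2 : st q ((g * S.u x : GL α F) : Matrix α α F) * ((g * S.u x : GL α F) : Matrix α α F) = G := by
      rw [show g * S.u x = (g * S.u x * g⁻¹) * g by group, Units.val_mul (g * S.u x * g⁻¹), TensorPow.U.st_mul hF,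
        mul_assoc, ← mul_assoc (st q _) ((g * S.u x * g⁻¹ : GL α F) : Matrix α α F), h1, one_mul, hG]
    rw [Units.val_mul, TensorPow.U.st_mul hF, mul_assoc, ← mul_assoc (st q (g : Matrix α α F)), ← hG] at h2
    refine cj_eq_of_mul ?_
    calc (S.u x : Matrix α α F) * G
        = (S.u x : Matrix α α F) * (st q (S.u x : Matrix α α F) * (G * (S.u x : Matrix α α F))) := by rw [h2]
      _ = _ := by
        rw [← mul_assoc, ← Units.inv_eq_of_mul_eq_one_left (S.isU_u hF hmod x), Units.mul_inv, one_mul]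
  have hk : G = S.coef 0 G • 1 := by
    refine S.ext_coef fun y => ?_
    rw [← S.E_zero, map_smul, coef_E, smul_eq_mul]
    by_cases hy : y = 0
    · subst hy; rw [if_pos rfl, mul_one]
    · rw [if_neg hy, mul_zero]
      by_contra h0
      obtain ⟨x, hx⟩ := S.B_nd hy
      have h1 := congrArg (S.coef y) (hc x)
      rw [coef_cj_u] at h1
      have h2 := S.χ_inj ((mul_right_cancel₀ h0 (h1.trans (one_mul _).symm)).trans S.χ_zero.symm)
      rw [B_swap, neg_eq_zero] at h2
      exact hx h2
  haveI : Nonempty α := ⟨0⟩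
  refine ⟨S.coef 0 G, fun h0 => ?_, ?_, hG ▸ hk⟩
  · have hdet : G.det ≠ 0 := by
      rw [hG, Matrix.det_mul]
      refine mul_ne_zero ?_ ((Matrix.isUnit_iff_isUnit_det _).1 g.isUnit).ne_zero
      rw [st, Matrix.det_transpose, TensorPow.U.map_frob hF,
        show (g : Matrix α α F).map (CfsgLib.Forms.frobQ hF) =
          (CfsgLib.Forms.frobQ hF).mapMatrix (g : Matrix α α F) from rfl, ← RingHom.map_det]
      exact (map_ne_zero _).2 ((Matrix.isUnit_iff_isUnit_det _).1 g.isUnit).ne_zero
    rw [hk, h0, zero_smul, Matrix.det_zero] at hdet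
    exact hdet rfl
  · have e : st q G = G := by rw [hG, st_gram hF]
    rw [hk, TensorPow.U.st_smul hF, TensorPow.U.st_one hF] at e
    have := congrFun (congrFun e 0) 0
    simpa using this

end Frm

namespace Ctx

variable [Fintype F] (C : Ctx F) (hF : Nat.card F = q ^ 2) (hmod : q % 3 = 2)
include hF hmod

/-- A normalising element of determinant one is an isometry. -/
theorem isU_of_norm {g : GL P2 F} (hN : C.S.Norm g) (hd : g ∈ specialLinear P2 F) : IsU q g := by
  obtain ⟨k, -, hkq, hk⟩ := C.S.gram_scalar hF hmod g fun x => by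
    obtain ⟨c, w, hw⟩ := hN x
    obtain ⟨a, rfl⟩ := C.S.exists_χ (C.S.coeff_cube hw)
    unfold IsU
    rw [← cj_coe, Frm.u_val, hw, TensorPow.U.st_smul hF, smul_mul_smul_comm, C.S.χ_norm hF hmod, one_smul]
    exact C.S.isU_u hF hmod w
  have e := congrArg Matrix.det hk
  rw [Matrix.det_mul, st, Matrix.det_transpose, TensorPow.U.map_frob hF,
    show (g : Matrix P2 P2 F).map (CfsgLib.Forms.frobQ hF) =
      (CfsgLib.Forms.frobQ hF).mapMatrix (g : Matrix P2 P2 F) from rfl, ← RingHom.map_det,
    mem_specialLinear.1 hd, map_one, one_mul, Matrix.det_smul, Matrix.det_one, mul_one,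
    show Fintype.card P2 = 3 * 3 by simp [ZMod.card], pow_mul] at e
  have h1 := eq_one_of_cube hF hmod (by rw [← pow_mul, mul_comm, pow_mul, hkq]) e.symm
  rw [IsU, hk, eq_one_of_cube hF hmod hkq h1, one_smul]

end Ctx

end CfsgLib.Geo.HeisNine
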