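import Cfsg.Agent.Geo.HeisNine.UTop
import Cfsg.Agent.Geo.HeisNine.Build

/-!
The normaliser of an absolutely irreducible symplectic-type 3-group in dimension nine is maximal in the special
unitary group over the square of a prime two modulo three.
-/

set_option autoImplicit false
set_option linter.unusedSectionVars false
set_option linter.style.haveILetI false

namespace CfsgLib.Geo.HeisNine

open Matrix Cfsg Cfsg.Geo CfsgLib.Geo CfsgLib.Geo.UTv

variable {F : Type*} [Field F] [Fintype F] {p : ℕ}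

/-- The determinant-one isometries of the nine points. -/
def USL (p : ℕ) : Subgroup (GL P2 F) := (suGL 9 F p).comap (glReindex eP.symm).toMonoidHom

theorem mem_USL (hF : Nat.card F = p ^ 2) {g : GL P2 F} :
    g ∈ (USL p : Subgroup (GL P2 F)) ↔ IsU p g ∧ g ∈ specialLinear P2 F := by
  show glReindex eP.symm g ∈ Cfsg.GU 9 F p ∧ glReindex eP.symm g ∈ specialLinear (Fin 9) F ↔ _
  rw [← isU_iff_mem_GU hF, isU_reindex hF, Over.reindex_sl]

theorem cubic_not_affine : ∀ (k : ZMod 3) (l : P2),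
    ¬ ∀ x : P2, x.2 * x.2 * (x.1 + 1) = k + (l.1 * x.1 + l.2 * x.2) + x.2 * x.2 * x.1 := by
  decide

namespace Ctx

variable (C : Ctx F) (hF : Nat.card F = p ^ 2) (hp : p.Prime) (hmod : p % 3 = 2)
include hF hp hmod

theorem cube_mem_USL : C.cube ∈ (USL p : Subgroup (GL P2 F)) := by
  refine (mem_USL hF).2 ⟨?_, mem_specialLinear.2 ?_⟩
  · show TensorPow.U.st p (C.cube : Matrix P2 P2 F) * (C.cube : Matrix P2 P2 F) = 1
    have e : TensorPow.U.st p (C.cube : Matrix P2 P2 F) =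
        Matrix.diagonal fun a : P2 => C.S.χ (a.2 * a.2 * a.1) ^ p := by
      ext a b
      simp only [TensorPow.U.st, cube, Frm.dg_val, Matrix.transpose_apply, Matrix.map_apply, Matrix.diagonal_apply]
      by_cases h : a = b
      · subst h; simp
      · rw [if_neg (Ne.symm h), if_neg h, zero_pow hp.ne_zero]
    rw [e, cube, Frm.dg_val, Matrix.diagonal_mul_diagonal, ← Matrix.diagonal_one]
    congr 1
    funext a
    exact C.S.χ_norm hF hmod _
  · rw [cube, Frm.det_dg, show ∑ a : P2, a.2 * a.2 * a.1 = 0 by decide, Frm.χ_zero]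

theorem cube_not_norm : ¬ C.S.Norm C.cube := by
  intro hN
  obtain ⟨c, w, hw⟩ := hN (((1, 0), (0, 0)) : V)
  obtain ⟨k, rfl⟩ := C.S.exists_χ (C.S.coeff_cube hw)
  have e := mul_eq_of_cj hw
  have key : ∀ x : P2, C.S.χ ((x.2 * x.2) * (x.1 + 1)) =
      if x + (1, 0) = x + w.1 then C.S.χ (k + C.S.d w.2 x + x.2 * x.2 * x.1) else 0 := fun x => by
    have h := congrFun (congrFun e (x + (1, 0))) x
    rw [cube, Frm.dg_val, Matrix.diagonal_mul, smul_mul_assoc, Matrix.smul_apply, Matrix.mul_diagonal, Frm.E_apply,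
      Frm.E_apply, if_pos rfl, show C.S.d ((0, 0) : P2) x = 0 from Frm.d_zero_left _ _, Frm.χ_zero, mul_one,
      smul_eq_mul] at h
    split_ifs at h ⊢ with h1
    · rw [Frm.χ_add, Frm.χ_add]
      simpa [mul_assoc] using h
    · simpa using h
  have hw1 : w.1 = (1, 0) := by
    by_contra hne
    have h := key 0
    rw [if_neg (fun e => hne (add_left_cancel e).symm)] at h
    exact C.S.χ_ne _ h
  have h2 : ∀ x : P2, x.2 * x.2 * (x.1 + 1) = k + (w.2.1 * x.1 + w.2.2 * x.2) + x.2 * x.2 * x.1 := fun x => by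
    have h := key x
    rw [hw1, if_pos rfl] at h
    exact C.S.χ_inj h
  exact cubic_not_affine k w.2 h2

theorem std_maximal_unitary :
    IsMaximalIn (USL p : Subgroup (GL P2 F)) (subgroupNormalizer C.RS ⊓ USL p) := by
  refine isMaximalIn_of_key (fun hle => C.cube_not_norm hF hp hmod
    (C.mem_normalizer_RS.1 (hle (C.cube_mem_USL hF hp hmod)))) fun M hM hMI hMX => ?_
  let O : Over C := ⟨M, fun g hg => ((mem_USL hF).1 (hMI hg)).2, fun g hg hn =>
    hM ⟨C.mem_normalizer_RS.2 hn, (mem_USL hF).2 ⟨C.isU_of_norm hF hmod hn hg, hg⟩⟩⟩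
  by_cases hy : C.cube ∈ M
  · intro g hg
    exact O.mem_M9.1 (O.su_le_of_cube hF hp hmod (fun g hg => ((mem_USL hF).1 (hMI hg)).1) hy hg)
  · exact absurd (fun g hg => C.mem_normalizer_RS.2 (O.all_norm hy hg)) hMX

end Ctx

/-- The normaliser of a symplectic-type 3-group in dimension nine is maximal in the special unitary group. -/
theorem symplectic_unitary_maximal (hp : p.Prime) (hF : Nat.card F = p ^ 2) (hmod : p % 3 = 2)
    {R : Subgroup (GL (Fin 9) F)} (hsym : IsSymplecticTypeGroup 3 R)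
    (hirr : ActsAbsolutelyIrreducibly (matrixSet R)) (hsim : R ≤ similarityGroup (Cfsg.hermForm 9 F p))
    (hcen : Nat.card (Subgroup.center R) = 3) :
    IsMaximalIn (suGL 9 F p) (subgroupNormalizer R ⊓ suGL 9 F p) := by
  classical
  have hf := isUnitaryForm hF (n := 9)
  obtain ⟨ω, hω⟩ : ∃ ω : F, IsPrimitiveRoot ω 3 := by
    haveI : Fact (Nat.Prime 3) := ⟨Nat.prime_three⟩
    obtain ⟨w, hw⟩ := exists_prime_orderOf_dvd_card' (G := Fˣ) 3 (by
      rw [Nat.card_units, hF, ← Nat.div_add_mod p 3, hmod]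
      exact ⟨3 * (p / 3) ^ 2 + 4 * (p / 3) + 1, by
        rw [show (3 * (p / 3) + 2) ^ 2 = 3 * (3 * (p / 3) ^ 2 + 4 * (p / 3) + 1) + 1 by ring, Nat.add_sub_cancel]⟩)
    exact ⟨w, IsPrimitiveRoot.iff_orderOf.2 (by rw [orderOf_units, hw])⟩
  obtain ⟨C, -⟩ : ∃ C : Ctx F, C.ω = ω := ⟨⟨ω, hω⟩, rfl⟩
  have hD := gdata_of_irred C (Fintype.card_fin 9) hsym hirr hcen
  obtain ⟨e, P, hR⟩ := exists_conj_of_gdata C hD
  have hRU : ∀ r ∈ R, IsU p r := by
    intro r hr
    obtain ⟨c, hc⟩ := hsim hr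
    have h1 : Cfsg.hermForm 9 F p (Pi.single (0 : Fin 9) (1 : F)) (Pi.single 0 1) = 1 :=
      (Over.hh_ee hF 0 0).trans (if_pos rfl)
    have hcp : (c : F) ^ p = c := by
      have h := hf.herm ((r : Matrix (Fin 9) (Fin 9) F) *ᵥ Pi.single 0 1) ((r : Matrix (Fin 9) (Fin 9) F) *ᵥ Pi.single 0 1)
      rw [hc, h1, mul_one, frobEquiv_apply] at h
      exact h.symm
    have h3 : ((r * r * r : GL (Fin 9) F) : Matrix (Fin 9) (Fin 9) F) = 1 := by
      rw [← pow_three', hD.cube r hr, Units.val_one]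
    have hc3 : (c : F) ^ 3 = 1 := by
      have h := hc ((r : Matrix (Fin 9) (Fin 9) F) *ᵥ ((r : Matrix (Fin 9) (Fin 9) F) *ᵥ Pi.single 0 1))
        ((r : Matrix (Fin 9) (Fin 9) F) *ᵥ ((r : Matrix (Fin 9) (Fin 9) F) *ᵥ Pi.single 0 1))
      rw [Matrix.mulVec_mulVec, Matrix.mulVec_mulVec, Units.val_mul, Units.val_mul] at *
      rw [h3, Matrix.one_mulVec, h1, hc, hc, h1] at h
      linear_combination -h
    rw [isU_iff_mem_GU hF, UTv.mem_GU]
    intro u v
    rw [hc, eq_one_of_cube hF hmod hcp hc3, one_mul]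
  obtain ⟨g, hg⟩ : ∃ g : GL P2 F, g = glReindex e P := ⟨_, rfl⟩
  obtain ⟨k, hk0, hkp, hk⟩ := C.S.gram_scalar hF hmod g fun x => by
    have h : glReindex e (P * glReindex e.symm (C.S.u x) * P⁻¹) = g * C.S.u x * g⁻¹ := by
      rw [map_mul, map_mul, map_inv, hg]
      congr 2
      refine Units.ext ?_
      ext a b
      show (C.S.u x : Matrix P2 P2 F) (e (e.symm a)) (e (e.symm b)) = _
      rw [Equiv.apply_symm_apply, Equiv.apply_symm_apply]
    rw [← h, isU_reindex hF]
    refine hRU _ ?_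
    rw [← hR]
    exact ⟨C.S.u x, C.u_mem_RS x, rfl⟩
  obtain ⟨ν, hν⟩ := Unit.exists_norm_eq hf.ne_refl hf.involutive (t := k⁻¹) (by
    rw [map_inv₀, frobEquiv_apply, hkp])
  rw [frobEquiv_apply] at hν
  have hν0 : ν ≠ 0 := fun h => inv_ne_zero hk0 (by rw [← hν, h, zero_mul])
  obtain ⟨D, hDv⟩ : ∃ D : GL (Fin 9) F, (D : Matrix (Fin 9) (Fin 9) F) = ν • 1 :=
    ⟨Matrix.GeneralLinearGroup.mkOfDetNeZero (ν • (1 : Matrix (Fin 9) (Fin 9) F)) (by simp [hν0]), rfl⟩
  have hDc : ∀ x, D * x = x * D := fun x => Units.ext (by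
    rw [Units.val_mul, Units.val_mul, hDv, smul_mul_assoc, mul_smul_comm, one_mul, mul_one])
  obtain ⟨Q, hQ⟩ : ∃ Q, Q = P * D := ⟨_, rfl⟩
  have hQU : IsU p Q := by
    rw [← isU_reindex hF e, hQ, map_mul, ← hg]
    have e1 : ((glReindex e D : GL P2 F) : Matrix P2 P2 F) = ν • 1 := by
      ext a b
      show (D : Matrix (Fin 9) (Fin 9) F) (e.symm a) (e.symm b) = _
      rw [hDv]; simp [Matrix.one_apply]
    unfold IsU
    rw [Units.val_mul, e1, mul_smul_comm, mul_one, TensorPow.U.st_smul hF, smul_mul_smul_comm, hk, smul_smul,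
      mul_comm (ν ^ p), hν, inv_mul_cancel₀ hk0, one_smul]
  obtain ⟨ψ, hψ⟩ : ∃ ψ, ψ = Tensor.glTransport (F := F) e Q := ⟨_, rfl⟩
  have hsame : ∀ x, ψ x = Tensor.glTransport (F := F) e P x := fun x => by
    rw [hψ]
    show Q * glReindex e.symm x * Q⁻¹ = P * glReindex e.symm x * P⁻¹
    rw [hQ, mul_assoc P D, hDc]; group
  have h0 := Tensor.isMaximalIn_map ψ (C.std_maximal_unitary hF hp hmod)
  have hN : (subgroupNormalizer C.RS).map ψ.toMonoidHom = subgroupNormalizer R := by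
    rw [subgroupNormalizer, subgroupNormalizer, Subgroup.map_equiv_normalizer_eq,
      show ψ = Tensor.glTransport (F := F) e P from MulEquiv.ext hsame, hR]
  have hS : (USL p : Subgroup (GL P2 F)).map ψ.toMonoidHom = suGL 9 F p := by
    have key : ∀ x, ψ x ∈ suGL 9 F p ↔ x ∈ (USL p : Subgroup (GL P2 F)) := fun x => by
      rw [mem_USL hF, hψ]
      refine and_congr ?_ ?_
      · show Q * glReindex e.symm x * Q⁻¹ ∈ Cfsg.GU 9 F p ↔ _
        rw [← isU_iff_mem_GU hF]
        constructor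
        · intro h
          have h' := ((hQU.inv hF).mul hF h).mul hF hQU
          rwa [show Q⁻¹ * (Q * glReindex e.symm x * Q⁻¹) * Q = glReindex e.symm x by group, isU_reindex hF] at h'
        · intro h
          exact (hQU.mul hF ((isU_reindex hF _ x).2 h)).mul hF (hQU.inv hF)
      · show Q * glReindex e.symm x * Q⁻¹ ∈ specialLinear (Fin 9) F ↔ _
        rw [mem_specialLinear, mem_specialLinear, Units.val_mul, Units.val_mul, Matrix.det_units_conj,
          show ((glReindex e.symm x : GL (Fin 9) F) : Matrix (Fin 9) (Fin 9) F) =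
            (x : Matrix P2 P2 F).submatrix e e from rfl, Matrix.det_submatrix_equiv_self]
    refine le_antisymm (by rintro _ ⟨x, hx, rfl⟩; exact (key x).2 hx) fun y hy => ?_
    obtain ⟨x, rfl⟩ := ψ.surjective y
    exact ⟨x, (key x).1 hy, rfl⟩
  rwa [Subgroup.map_inf_eq _ _ ψ.toMonoidHom ψ.injective, hN, hS] at h0

end CfsgLib.Geo.HeisNine
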