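import Cfsg.Agent.Geo.HeisNine.UBasic
import Cfsg.Agent.Geo.UnitFrameMax

/-!
The nine points as coordinates; over four elements the cubic phase gives all monomial isometries, so everything.
-/

set_option autoImplicit false
set_option linter.unusedSectionVars false
set_option linter.style.haveILetI false

namespace CfsgLib.Geo.HeisNine

open Matrix Cfsg Cfsg.Geo CfsgLib.Geo CfsgLib.Geo.UTv
open CfsgLib.Geo.Mono (monomialGroup mem_monomialGroup IsMonoAt)

/-- The nine points as coordinates. -/
def eP : Fin 9 ≃ P2 := (finProdFinEquiv : Fin 3 × Fin 3 ≃ Fin (3 * 3)).symm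

variable {F : Type*} [Field F] [Fintype F] {q : ℕ}

namespace Over

open Ctx

variable {C : Ctx F} (O : Over C)

/-- The overgroup in standard coordinates. -/
def M9 : Subgroup (GL (Fin 9) F) := O.M.map (glReindex eP.symm).toMonoidHom

theorem mem_M9 {g : GL P2 F} : glReindex eP.symm g ∈ O.M9 ↔ g ∈ O.M := by
  constructor
  · rintro ⟨h, hh, e⟩
    rwa [← (glReindex eP.symm).injective e]
  · exact fun h => ⟨g, h, rfl⟩

theorem reindex_sl {g : GL P2 F} :
    glReindex eP.symm g ∈ specialLinear (Fin 9) F ↔ g ∈ specialLinear P2 F := by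
  rw [mem_specialLinear, mem_specialLinear,
    show ((glReindex eP.symm g : GL (Fin 9) F) : Matrix (Fin 9) (Fin 9) F) = (g : Matrix P2 P2 F).submatrix eP eP from rfl,
    Matrix.det_submatrix_equiv_self]

theorem exists_reindex (g : GL (Fin 9) F) : ∃ h : GL P2 F, glReindex eP.symm h = g :=
  (glReindex (F := F) eP.symm).surjective g

theorem M9_le (hF : Nat.card F = q ^ 2) (hU : ∀ g ∈ O.M, IsU q g) : O.M9 ≤ suGL 9 F q := by
  rintro _ ⟨g, hg, rfl⟩
  exact ⟨(isU_iff_mem_GU hF).1 ((isU_reindex hF _ g).2 (hU g hg)), reindex_sl.2 (O.le_sl hg)⟩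

/-- A phase of vanishing sum. -/
theorem dg_sum_zero (hy : C.cube ∈ O.M) {f : P2 → ZMod 3} (hf : ∑ x, f x = 0) : C.S.dg f ∈ O.M := by
  classical
  obtain ⟨Q, hQ⟩ : ∃ Q : P2, Q = 0 := ⟨0, rfl⟩
  have key : ∀ s : Finset P2,
      C.S.dg (fun x => ∑ P ∈ s, f P * ((if x = P then 1 else 0) - (if x = Q then 1 else 0))) ∈ O.M := by
    intro s
    induction s using Finset.induction_on with
    | empty =>
      have e : (fun x : P2 => ∑ P ∈ (∅ : Finset P2), f P * ((if x = P then 1 else 0) - (if x = Q then 1 else 0))) =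
          (0 : P2 → ZMod 3) := by funext x; simp
      rw [e, Frm.dg_zero]; exact one_mem _
    | insert a s ha ih =>
      have h1 : C.S.dg (fun x => f a * ((if x = a then 1 else 0) - (if x = Q then 1 else 0))) ∈ O.M := by
        by_cases h : a = Q
        · have e : (fun x : P2 => f a * ((if x = a then 1 else 0) - (if x = Q then 1 else 0))) =
              (0 : P2 → ZMod 3) := by funext x; simp [h]
          rw [e, Frm.dg_zero]; exact one_mem _
        · exact O.two_points hy h _
      have h2 := mul_mem h1 ih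
      rw [Frm.dg_mul] at h2
      convert h2 using 2
      funext x
      rw [Finset.sum_insert ha, Pi.add_apply]
  convert key Finset.univ using 2
  funext x
  simp only [mul_sub, Finset.sum_sub_distrib, mul_ite, mul_one, mul_zero, Finset.sum_ite_eq, Finset.mem_univ, if_true]
  by_cases h : x = Q <;> simp [h, hf]

/-- Over four elements the cubic phase gives the whole special unitary group. -/
theorem su_le_two (hF : Nat.card F = 2 ^ 2) (hU : ∀ g ∈ O.M, IsU 2 g) (hy : C.cube ∈ O.M) :
    suGL 9 F 2 ≤ O.M9 := by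
  classical
  have hsub := O.M9_le hF hU
  have h2 : (2 : F) = 0 := by
    obtain ⟨r, hr⟩ := CharP.exists F
    obtain ⟨n, hr', hn⟩ := FiniteField.card F r
    rw [← Nat.card_eq_fintype_card, hF] at hn
    have h := hr'.dvd_of_dvd_pow (show r ∣ 2 ^ 2 from hn ▸ dvd_pow_self r n.pos.ne')
    rw [(Nat.prime_dvd_prime_iff_eq hr' Nat.prime_two).1 h] at hr
    exact_mod_cast CharP.cast_eq_zero F 2
  refine UFrame.frame_key hF (Or.inl (Or.inl le_rfl)) ?_ hsub ?_
  · rintro g ⟨hg, hgS⟩
    obtain ⟨h, rfl⟩ := exists_reindex g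
    obtain ⟨π, hπ⟩ := mem_monomialGroup.1 hg
    have hhU : IsU 2 h := (isU_reindex hF _ h).1 ((isU_iff_mem_GU hF).2 hgS.1)
    obtain ⟨σ, hσ⟩ : ∃ σ : Equiv.Perm P2, ∀ x, σ x = eP (π (eP.symm x)) := ⟨eP.permCongr π, fun x => rfl⟩
    have hz : ∀ x y, x ≠ σ y → (h : Matrix P2 P2 F) x y = 0 := fun x y hxy => by
      have := hπ (eP.symm x) (eP.symm y) (fun e => hxy (by rw [hσ, ← e, Equiv.apply_symm_apply]))
      simpa [show ((glReindex eP.symm h : GL (Fin 9) F) : Matrix (Fin 9) (Fin 9) F) =
        (h : Matrix P2 P2 F).submatrix eP eP from rfl] using this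
    have hent : ∀ y, ∃ a, (h : Matrix P2 P2 F) (σ y) y = C.S.χ a := fun y => by
      refine C.S.exists_χ ?_
      have e := congrFun (congrFun hhU y) y
      rw [Matrix.mul_apply, Finset.sum_eq_single (σ y) (fun b _ hb => by rw [hz b y hb, mul_zero]) (by simp),
        Matrix.one_apply_eq] at e
      rw [← e]
      simp only [TensorPow.U.st, Matrix.transpose_apply, Matrix.map_apply]
      ring
    choose a ha using hent
    have hdec : h = C.S.dg (fun x => a (σ.symm x)) * sp σ := by
      refine Units.ext ?_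
      ext x y
      rw [Units.val_mul, Frm.dg_val, Matrix.diagonal_mul, sp_val, Matrix.smul_apply, Frm.pm_apply, smul_eq_mul]
      have h1 : ((Equiv.Perm.sign σ : ℤ) : F) = 1 := by
        rcases Int.units_eq_one_or (Equiv.Perm.sign σ) with e | e <;> simp [e]
        linear_combination -h2
      by_cases hxy : x = σ y
      · subst hxy; simp [h1, ha]
      · simp [hz x y hxy, hxy]
    rw [O.mem_M9, hdec]
    refine mul_mem (O.dg_sum_zero hy ?_) (O.sp_mem_all hy σ)
    have hd := mem_specialLinear.1 (reindex_sl.1 hgS.2)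
    rw [hdec, Units.val_mul, Matrix.det_mul, (sp_det σ), mul_one, Frm.det_dg] at hd
    exact C.S.χ_inj (hd.trans C.S.χ_zero.symm)
  · intro hle
    obtain ⟨π, hπ⟩ := mem_monomialGroup.1 (hle (O.mem_M9.2 (O.kr_mem C.F0_mem)))
    have hne : ∀ t : P1, (kr C.F0 : Matrix P2 P2 F) (0, t) (0, 0) ≠ 0 := fun t => by
      rw [kr_val, Matrix.kroneckerMap_apply, Matrix.one_apply_eq, one_mul, F0_apply]
      refine mul_ne_zero (fun e => ?_) (C.S0.χ_ne _)
      have h1 := C.F0.ne_zero
      apply h1
      ext i j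
      rw [F0_apply, e, zero_mul]
      rfl
    have hrow : ∀ t : P1, eP.symm ((0 : P1), t) = π (eP.symm (0, 0)) := fun t => by
      by_contra hcon
      have := hπ _ _ hcon
      exact hne t (by simpa [show ((glReindex eP.symm (kr C.F0) : GL (Fin 9) F) : Matrix (Fin 9) (Fin 9) F) =
        (kr C.F0 : Matrix P2 P2 F).submatrix eP eP from rfl] using this)
    have := eP.symm.injective ((hrow 0).trans (hrow 1).symm)
    exact absurd (congrArg Prod.snd this) (show (0 : P1) ≠ 1 by decide)

end Over

end CfsgLib.Geo.HeisNine
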