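import Cfsg.Agent.Geo.HeisNine.UThree
import Cfsg.Agent.Geo.HeisNine.UNine
import Cfsg.Agent.Geo.SUEight.Block

/-!
The elements fixing the symmetric part give all transvections with an antisymmetric centre on four points.
-/

set_option autoImplicit false
set_option linter.unusedSectionVars false
set_option linter.style.haveILetI false

namespace CfsgLib.Geo.HeisNine

open Matrix Cfsg Cfsg.Geo CfsgLib.Geo CfsgLib.Geo.UTv
open CfsgLib.Geo.TensorPow.U (hd cq)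

variable {F : Type*} [Field F] [Fintype F] {p : ℕ}

theorem reindex_apply (g : GL P2 F) (x : P2 → F) :
    ((glReindex eP.symm g : GL (Fin 9) F) : Matrix (Fin 9) (Fin 9) F) *ᵥ (x ∘ eP) =
      ((g : Matrix P2 P2 F) *ᵥ x) ∘ eP := by
  rw [show ((glReindex eP.symm g : GL (Fin 9) F) : Matrix (Fin 9) (Fin 9) F) =
    (g : Matrix P2 P2 F).submatrix eP eP from rfl, Matrix.submatrix_mulVec_equiv]
  congr 1

theorem herm_comp (q : ℕ) (x y : P2 → F) : Cfsg.hermForm 9 F q (x ∘ eP) (y ∘ eP) = hd q x y :=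
  Equiv.sum_comp eP fun z => x z * y z ^ q

theorem Wm_apply (z : P1 → F) (a t : P1) :
    (Wm F *ᵥ z) (a, t) = if a = 1 then z t else if a = 2 then -z t else 0 := by
  rw [Matrix.mulVec, dotProduct, Finset.sum_eq_single t (fun i _ hi => by simp [Wm, Prod.ext_iff, Ne.symm hi]) (by simp)]
  rcases Ctx.p1_cases a with rfl | rfl | rfl <;> simp (decide := true) [Wm, Prod.ext_iff]

theorem Wm_mul_transpose : Wm F * (Wm F)ᵀ = 1 - ((jM : GL P2 F) : Matrix P2 P2 F) := by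
  ext ⟨k, t⟩ ⟨l, s⟩
  rw [Matrix.mul_apply, Matrix.sub_apply, Matrix.one_apply, jM, Frm.pm_apply,
    Finset.sum_eq_single t (fun i _ hi => by simp [Wm, Prod.ext_iff, Ne.symm hi]) (by simp)]
  simp only [Wm, Matrix.transpose_apply, Matrix.of_apply, Prod.ext_iff, jσ, Equiv.prodCongr_apply, Prod.map,
    Equiv.neg_apply, Equiv.coe_refl, id]
  rcases Ctx.p1_cases k with rfl | rfl | rfl <;> rcases Ctx.p1_cases l with rfl | rfl | rfl <;>
    by_cases hts : t = s <;>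
    simp (decide := true) [hts, eq_comm (a := s)]

theorem hd_Wm_right (q : ℕ) (hneg : ∀ a : F, (-a) ^ q = -a ^ q) (h0 : q ≠ 0) (x : P2 → F) (z : P1 → F) :
    hd q x (Wm F *ᵥ z) = hd q ((Wm F)ᵀ *ᵥ x) z := by
  have e : cq q (Wm F *ᵥ z) = Wm F *ᵥ cq q z := by
    funext ⟨a, t⟩
    show (Wm F *ᵥ z) (a, t) ^ q = _
    rw [Wm_apply, Wm_apply]
    split_ifs <;> simp [cq, hneg, zero_pow h0]
  rw [TensorPow.U.hd_eq_dot, TensorPow.U.hd_eq_dot, e, Matrix.dotProduct_mulVec, Matrix.mulVec_transpose]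

namespace Over

open Ctx

variable {C : Ctx F} (O : Over C)

theorem jC_comm {k : GL P2 F} (hk : JC k) :
    (k : Matrix P2 P2 F) * (1 + (jM : GL P2 F)) = (1 + (jM : GL P2 F) : Matrix P2 P2 F) * k := by
  rw [mul_add, add_mul, mul_one, one_mul, ← Units.val_mul, ← Units.val_mul, hk]

/-- The restrictions of those fixing the symmetric part. -/
def L3 : Subgroup (GL (Fin 3) F) where
  carrier := {x | ∃ h ∈ O.M, ∃ hh : JC h, resU h hh = x ∧
    (h : Matrix P2 P2 F) * (1 + (jM : GL P2 F)) = 1 + (jM : GL P2 F)}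
  mul_mem' := by
    rintro _ _ ⟨h, hm, hh, rfl, h1⟩ ⟨h', hm', hh', rfl, h1'⟩
    exact ⟨h * h', mul_mem hm hm', hh.mul hh', resU_mul hh hh', by rw [Units.val_mul, mul_assoc, h1', h1]⟩
  one_mem' := ⟨1, one_mem _, jC_one, Units.ext res_one, by rw [Units.val_one, one_mul]⟩
  inv_mem' := by
    rintro _ ⟨h, hm, hh, rfl, h1⟩
    refine ⟨h⁻¹, inv_mem hm, hh.inv, Units.ext rfl, ?_⟩
    conv_lhs => rw [← h1, Units.inv_mul_cancel_left]

theorem L3_conj {x y : GL (Fin 3) F} (hx : x ∈ O.M3) (hy : y ∈ O.L3) : x * y * x⁻¹ ∈ O.L3 := by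
  obtain ⟨⟨g, hg, hgj, rfl⟩, -⟩ := hx
  obtain ⟨h, hm, hh, rfl, h1⟩ := hy
  refine ⟨g * h * g⁻¹, mul_mem (mul_mem hg hm) (inv_mem hg), (hgj.mul hh).mul hgj.inv,
    Units.ext (res_conj hgj hh), ?_⟩
  rw [Units.val_mul, Units.val_mul, mul_assoc, jC_comm hgj.inv, ← mul_assoc, mul_assoc (g : Matrix P2 P2 F), h1,
    jC_comm hgj, mul_assoc, Units.mul_inv, mul_one]

theorem rM_sym : ((rM : GL P2 F) : Matrix P2 P2 F) * (1 + (jM : GL P2 F)) = -(1 + (jM : GL P2 F) : Matrix P2 P2 F) := by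
  rw [rM_val, neg_mul, neg_inj, mul_add, mul_one]
  ext x y
  rw [Matrix.add_apply, Matrix.add_apply, ← Units.val_mul, jM, ← Frm.pm_mul, Frm.pm_apply, Frm.pm_apply,
    Frm.pm_apply, Matrix.one_apply]
  have key : ∀ x y : P2, ((x = Equiv.swap ((1, 0) : P2) (2, 0) y ↔ x = y) ∧
      (x = (Equiv.swap ((1, 0) : P2) (2, 0) * jσ) y ↔ x = jσ y)) ∨
      ((x = Equiv.swap ((1, 0) : P2) (2, 0) y ↔ x = jσ y) ∧
      (x = (Equiv.swap ((1, 0) : P2) (2, 0) * jσ) y ↔ x = y)) := by decide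
  rcases key x y with ⟨k1, k2⟩ | ⟨k1, k2⟩
  · simp only [k1, k2]
  · simp only [k1, k2]; exact add_comm _ _

/-- The commutator with the label shift. -/
theorem exists_x3 (hy : C.cube ∈ O.M) : ∃ x ∈ O.L3,
    (x : Matrix (Fin 3) (Fin 3) F) = Matrix.diagonal ![-1, -1, 1] := by
  let r : GL P2 F := rM
  let b : GL P2 F := C.S.u vb
  have hbj : JC b := C.jC_u rfl
  have hrj : JC r := jC_rM
  have hrr : r * r = 1 := by rw [show r = sp _ from rfl, ← sp_mul, Equiv.swap_mul_self, sp_one]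
  have hrM : r ∈ O.M := O.sp_mem_all hy _
  refine ⟨resU (r * b * r⁻¹ * b⁻¹) (((hrj.mul hbj).mul hrj.inv).mul hbj.inv), ⟨r * b * r⁻¹ * b⁻¹,
    mul_mem (mul_mem (mul_mem hrM (O.u_mem _)) (inv_mem hrM)) (inv_mem (O.u_mem _)), _, rfl, ?_⟩, ?_⟩
  · rw [inv_eq_of_mul_eq_one_right hrr, Units.val_mul, Units.val_mul, Units.val_mul, mul_assoc, jC_comm hbj.inv,
      ← mul_assoc, mul_assoc ((r : Matrix P2 P2 F) * b), rM_sym, mul_neg, mul_assoc (r : Matrix P2 P2 F), jC_comm hbj,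
      neg_mul, mul_assoc, mul_assoc, Units.mul_inv, mul_one, rM_sym, neg_neg]
  · show res ((r * b * r⁻¹ * b⁻¹ : GL P2 F) : Matrix P2 P2 F) = _
    rw [res_gl_mul _ hbj.inv, res_gl_mul _ hrj.inv, res_gl_mul _ hbj, inv_eq_of_mul_eq_one_right hrr, res_rM,
      show b = C.S.u vb from rfl, C.u_plane (v := vb) rfl, ← map_inv, res_kr, res_kr, Frm.u_inv_val, Frm.u_val]
    show Matrix.diagonal (dv F) * C.S0.E b0 * Matrix.diagonal (dv F) * (C.S0.χ (C.S0.d b0.2 b0.1) • C.S0.E (-b0)) =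
      (Matrix.diagonal ![-1, -1, 1] : Matrix (Fin 3) (Fin 3) F)
    refine Eq.trans ?_ (show (Matrix.diagonal fun a : P1 => if a = 2 then (1 : F) else -1) =
      (Matrix.diagonal ![-1, -1, 1] : Matrix (Fin 3) (Fin 3) F) by
        congr 1; funext a; fin_cases a <;> rfl)
    rw [show C.S0.d b0.2 b0.1 = 0 from rfl, Frm.χ_zero, one_smul]
    ext x y
    rw [Matrix.mul_apply, Finset.sum_eq_single (y + -1)]
    · rw [Matrix.mul_diagonal, Matrix.diagonal_mul, Frm.E_apply, Frm.E_apply, Matrix.diagonal_apply]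
      simp only [b0, Prod.fst_neg, Prod.snd_neg, neg_zero, S0_d, zero_mul, Frm.χ_zero, if_true, mul_one]
      rcases p1_cases x with rfl | rfl | rfl <;> rcases p1_cases y with rfl | rfl | rfl <;>
        simp (decide := true) [dv]
    · intro z _ hz
      rw [Frm.E_apply (v := -b0), if_neg (fun e => hz (by rw [e]; rfl)), mul_zero]
    · simp

variable (hF : Nat.card F = p ^ 2) (hp : p.Prime) (hmod : p % 3 = 2) (hp5 : 5 ≤ p)
  (hU : ∀ g ∈ O.M, IsU p g) (hy : C.cube ∈ O.M)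
include hF hp hmod hp5 hU hy

theorem suGL_le_L3 : suGL 3 F p ≤ O.L3 := by
  let f : Cfsg.SU 3 F p →* GL (Fin 3) F := Matrix.SpecialLinearGroup.toGL.comp (Cfsg.SU 3 F p).subtype
  have hM3 := O.suGL_le_M3 hF hp hmod hp5 hU hy
  have hf : ∀ g, f g ∈ O.M3 := fun g => hM3
    ⟨fun u v => g.2 u v, mem_specialLinear.2 g.1.2⟩
  let N : Subgroup (Cfsg.SU 3 F p) := O.L3.comap f
  have hN : N.Normal := ⟨fun y hy' x => by
    show f (x * y * x⁻¹) ∈ O.L3
    rw [map_mul, map_mul, map_inv]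
    exact O.L3_conj (hf x) hy'⟩
  rcases SUEight.normal_su (q := p) hF le_rfl (by omega) N hN with hc | hc
  swap
  · exact SUEight.suGL_le_of_comap hc
  exfalso
  obtain ⟨x, hx, hxv⟩ := O.exists_x3 hy
  have hxS : x ∈ suGL 3 F p := by
    obtain ⟨h, hm, hh, rfl, -⟩ := hx
    exact ⟨(isU_iff_mem_GU hF).1 (O.X3_isU hF hp hmod hp5 hU ⟨h, hm, hh, rfl⟩), mem_specialLinear.2 (by
      rw [hxv, Matrix.det_diagonal, Fin.prod_univ_three]; simp)⟩
  obtain ⟨b, hbv⟩ : ∃ b : GL (Fin 3) F, (b : Matrix (Fin 3) (Fin 3) F) = CfsgLib.Elusive.cycMat F :=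
    ⟨C.S0.u b0, C.u_b0_val⟩
  have hbS : b ∈ suGL 3 F p := by
    have hbe : b = C.S0.u b0 := Units.ext (hbv.trans C.u_b0_val.symm)
    subst hbe
    exact ⟨(isU_iff_mem_GU hF).1 (C.S0.isU_u hF hmod b0), mem_specialLinear.2 (C.det_E0 b0)⟩
  let X : Cfsg.SU 3 F p :=
    ⟨⟨(x : Matrix (Fin 3) (Fin 3) F), mem_specialLinear.1 hxS.2⟩, fun u v => herm_mulVec hxS u v⟩
  let B : Cfsg.SU 3 F p :=
    ⟨⟨(b : Matrix (Fin 3) (Fin 3) F), mem_specialLinear.1 hbS.2⟩, fun u v => herm_mulVec hbS u v⟩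
  have hXN : X ∈ N := by
    show f X ∈ O.L3
    rwa [show f X = x from Units.ext rfl]
  have e := congrArg (fun g => ((f g : GL (Fin 3) F) : Matrix (Fin 3) (Fin 3) F) 2 1)
    (Subgroup.mem_center_iff.1 (hc hXN) B)
  simp only [map_mul, Units.val_mul, show f X = x from Units.ext rfl, show f B = b from Units.ext rfl, hxv, hbv,
    Matrix.mul_diagonal, Matrix.diagonal_mul] at e
  simp [CfsgLib.Elusive.cycMat] at e
  have h2 := two_ne_u hF hp hmod hp5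
  exact h2 (by linear_combination -e)

/-- An antisymmetric centre on four points. -/
theorem full_seed {β : F} (hβ : β * β ^ p = -1) :
    Full p O.M9 ((Wm F *ᵥ (![1, β, 0] : P1 → F)) ∘ eP) := by
  obtain ⟨z, hz⟩ : ∃ z : P1 → F, z = ![1, β, 0] := ⟨_, rfl⟩
  rw [← hz]
  have hneg : ∀ a : F, (-a) ^ p = -a ^ p := fun a => TensorU.pow_neg hF a
  have hzz : Cfsg.hermForm 3 F p z z = 0 := by
    rw [hz]
    simp [Cfsg.hermForm, Fin.sum_univ_three, hp.ne_zero, hβ]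
  have hww : Cfsg.hermForm 9 F p ((Wm F *ᵥ z) ∘ eP) ((Wm F *ᵥ z) ∘ eP) = 0 := by
    rw [herm_comp, hd_Wm p z z hneg]
    show 2 * Cfsg.hermForm 3 F p z z = 0
    rw [hzz, mul_zero]
  refine full_of_mem hF hww fun c hc => ?_
  have h2 := two_ne_u (F := F) hF hp hmod hp5
  have hc2 : 2 * c + (2 * c) ^ p = 0 := by
    haveI := SU3.charP_of_prime hF hp
    haveI : Fact p.Prime := ⟨hp⟩
    rw [mul_pow, show (2 : F) ^ p = 2 from by
      rw [show (2 : F) = ((2 : ℕ) : F) by norm_num]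
      exact (frobenius_def p ((2 : ℕ) : F)).symm.trans (map_natCast (frobenius F p) 2)]
    linear_combination 2 * hc
  obtain ⟨h, hm, hh, hres, hsym⟩ := O.suGL_le_L3 hF hp hmod hp5 hU hy (utv_mem hF hzz hc2)
  suffices e : tvec ((Wm F *ᵥ z) ∘ eP) (uax p ((Wm F *ᵥ z) ∘ eP) c) (uax_dot_self hww c) = glReindex eP.symm h by
    rw [e]; exact O.mem_M9.2 hm
  refine gl_ext_mulVec fun v => ?_
  obtain ⟨x, rfl⟩ : ∃ x : P2 → F, x ∘ eP = v := ⟨v ∘ eP.symm, funext fun i => by simp⟩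
  rw [utv_mulVec hF hww, reindex_apply, herm_comp, hd_Wm_right p hneg hp.ne_zero]
  suffices key : (h : Matrix P2 P2 F) *ᵥ x = x + (c * hd p ((Wm F)ᵀ *ᵥ x) z) • (Wm F *ᵥ z) by
    rw [key]; rfl
  have hW : (h : Matrix P2 P2 F) *ᵥ (Wm F *ᵥ ((Wm F)ᵀ *ᵥ x)) =
      Wm F *ᵥ ((Wm F)ᵀ *ᵥ x + (2 * c * hd p ((Wm F)ᵀ *ᵥ x) z) • z) := by
    rw [Matrix.mulVec_mulVec, mul_Wm hh, ← Matrix.mulVec_mulVec]
    congr 1
    rw [show res (h : Matrix P2 P2 F) = ((tvec z (uax p z (2 * c)) (uax_dot_self hzz _) : GL (Fin 3) F) :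
      Matrix (Fin 3) (Fin 3) F) from congrArg Units.val hres]
    exact utv_mulVec hF hzz _ _
  rw [Matrix.mulVec_mulVec (M := Wm F) (N := (Wm F)ᵀ), Wm_mul_transpose, Matrix.mulVec_add, Matrix.mulVec_smul,
    Matrix.mulVec_mulVec, Matrix.mulVec_mulVec, Wm_mul_transpose] at hW
  have hS : ((h : Matrix P2 P2 F) * (1 + ((jM : GL P2 F) : Matrix P2 P2 F))) *ᵥ x =
      (1 + ((jM : GL P2 F) : Matrix P2 P2 F)) *ᵥ x := by
    rw [hsym]
  rw [mul_sub, mul_one, Matrix.sub_mulVec, Matrix.sub_mulVec, Matrix.one_mulVec] at hW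
  rw [mul_add, mul_one, Matrix.add_mulVec, Matrix.add_mulVec, Matrix.one_mulVec] at hS
  refine smul_right_injective (P2 → F) h2 ?_
  show (2 : F) • ((h : Matrix P2 P2 F) *ᵥ x) = (2 : F) • (x + (c * hd p ((Wm F)ᵀ *ᵥ x) z) • (Wm F *ᵥ z))
  rw [mul_assoc, ← smul_smul] at hW
  simp only [two_smul] at hW ⊢
  linear_combination (norm := module) hW + hS

end Over

end CfsgLib.Geo.HeisNine
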