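import Cfsg.Agent.Geo.HeisNine.UBasic
import Cfsg.Agent.Geo.SUThree.Hessian

/-!
Over the square of a prime at least five and two modulo three, the restriction of the centraliser of the
reflection to the three antisymmetric lines contains the whole special unitary group of dimension three.
-/

set_option autoImplicit false
set_option linter.unusedSectionVars false
set_option linter.style.haveILetI false

namespace CfsgLib.Geo.HeisNine

open Matrix Cfsg Cfsg.Geo CfsgLib.Geo CfsgLib.Geo.UTv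
open CfsgLib.Geo.SL3.Hessian (HasFrame Setup)
open CfsgLib.Geo.TensorPow.U (hd)

variable {F : Type*} [Field F] [Fintype F] {p : ℕ}

/-- The reflection with the first coordinate swapped. -/
def rM : GL P2 F := sp (Equiv.swap ((1, 0) : P2) (2, 0))

theorem rM_val : ((rM : GL P2 F) : Matrix P2 P2 F) =
    -(Frm.pm (F := F) (Equiv.swap ((1, 0) : P2) (2, 0)) : Matrix P2 P2 F) := by
  rw [rM, sp_val, Equiv.Perm.sign_swap (by decide)]; simp

theorem jC_rM : JC (rM : GL P2 F) := by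
  show rM * jM = jM * rM
  refine Units.ext ?_
  rw [Units.val_mul, Units.val_mul, rM_val, jM, neg_mul, mul_neg]
  congr 1
  rw [← Units.val_mul, ← Units.val_mul, ← Frm.pm_mul, ← Frm.pm_mul]
  congr 2
  decide

/-- The signs. -/
def dv (F : Type*) [Field F] (a : P1) : F := if a = 0 then 1 else -1

theorem res_rM : res ((rM : GL P2 F) : Matrix P2 P2 F) = Matrix.diagonal (dv F) := by
  ext i j
  rw [res_eq, rM_val, Matrix.neg_apply, Matrix.neg_apply, Frm.pm_apply, Frm.pm_apply, Matrix.diagonal_apply]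
  rcases Ctx.p1_cases i with rfl | rfl | rfl <;> rcases Ctx.p1_cases j with rfl | rfl | rfl <;>
    simp (decide := true) [dv]

theorem hd_Wm (q : ℕ) (x y : P1 → F) (hq : ∀ a : F, (-a) ^ q = -a ^ q) :
    hd q (Wm F *ᵥ x) (Wm F *ᵥ y) = 2 * hd q x y := by
  have hW : ∀ (z : P1 → F) (a : P1) (t : P1), (Wm F *ᵥ z) (a, t) = if a = 1 then z t else if a = 2 then -z t else 0 := by
    intro z a t
    rw [Matrix.mulVec, dotProduct, Finset.sum_eq_single t (fun i _ hi => by simp [Wm, Prod.ext_iff, Ne.symm hi]) (by simp)]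
    rcases Ctx.p1_cases a with rfl | rfl | rfl <;> simp (decide := true) [Wm, Prod.ext_iff]
  have h3 : ∀ f : P1 → F, ∑ i, f i = f 0 + f 1 + f 2 := fun f => Fin.sum_univ_three f
  rw [hd, hd, Fintype.sum_prod_type, h3 (fun a => ∑ t, _)]
  simp only [hW, show (0 : P1) ≠ 1 by decide, show (0 : P1) ≠ 2 by decide, show (2 : P1) ≠ 1 by decide, if_true,
    if_false, zero_mul, hq, neg_mul_neg, Finset.sum_const_zero, zero_add, two_mul]

namespace Over

open Ctx

variable {C : Ctx F} (O : Over C)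

/-- The restrictions of the centraliser of the reflection. -/
def X3 : Subgroup (GL P1 F) where
  carrier := {x | ∃ h ∈ O.M, ∃ hh : JC h, resU h hh = x}
  mul_mem' := by
    rintro _ _ ⟨h, hm, hh, rfl⟩ ⟨h', hm', hh', rfl⟩
    exact ⟨h * h', mul_mem hm hm', hh.mul hh', resU_mul hh hh'⟩
  one_mem' := ⟨1, one_mem _, jC_one, Units.ext res_one⟩
  inv_mem' := by
    rintro _ ⟨h, hm, hh, rfl⟩
    exact ⟨h⁻¹, inv_mem hm, hh.inv, Units.ext rfl⟩

theorem kr_mem_X3 {h : GL P1 F} (hh : h ∈ C.G0) : h ∈ O.X3 :=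
  ⟨kr h, O.kr_mem hh, jC_kr h, Units.ext (res_kr h)⟩

/-- Those of determinant one. -/
def M3 : Subgroup (GL (Fin 3) F) := O.X3 ⊓ specialLinear P1 F

variable (hF : Nat.card F = p ^ 2) (hp : p.Prime) (hmod : p % 3 = 2) (hp5 : 5 ≤ p)
  (hU : ∀ g ∈ O.M, IsU p g) (hy : C.cube ∈ O.M)
include hF hp hmod hp5

theorem two_ne_u : (2 : F) ≠ 0 := fun e => by
  haveI := SU3.charP_of_prime hF hp
  have := Nat.le_of_dvd (by norm_num) ((CharP.cast_eq_zero_iff F p 2).1 (by exact_mod_cast e))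
  omega

include hU

theorem X3_isU {x : GL P1 F} (hx : x ∈ O.X3) : IsU p x := by
  obtain ⟨h, hm, hh, rfl⟩ := hx
  have hU' := (TensorPow.U.isU_iff hF _).1 (hU h hm)
  refine (TensorPow.U.isU_iff hF _).2 fun a b => ?_
  have hneg : ∀ a : F, (-a) ^ p = -a ^ p := fun a => TensorU.pow_neg hF a
  have e := hU' (Wm F *ᵥ a) (Wm F *ᵥ b)
  rw [Matrix.mulVec_mulVec, Matrix.mulVec_mulVec, mul_Wm hh, ← Matrix.mulVec_mulVec, ← Matrix.mulVec_mulVec,
    hd_Wm p _ _ hneg, hd_Wm p _ _ hneg] at e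
  exact mul_left_cancel₀ (two_ne_u hF hp hmod hp5) e

theorem M3_le : O.M3 ≤ suGL 3 F p := fun x hx =>
  ⟨(isU_iff_mem_GU hF).1 (O.X3_isU hF hp hmod hp5 hU hx.1), hx.2⟩

include hy

theorem D_mem : resU (rM : GL P2 F) jC_rM ∈ O.M3 := by
  refine ⟨⟨rM, O.sp_mem_all hy _, jC_rM, rfl⟩, mem_specialLinear.2 ?_⟩
  show (res ((rM : GL P2 F) : Matrix P2 P2 F)).det = 1
  rw [res_rM, Matrix.det_diagonal, show (Finset.univ : Finset P1) = {0, 1, 2} by decide,
    Finset.prod_insert (by decide), Finset.prod_insert (by decide), Finset.prod_singleton]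
  simp [dv, show (1 : P1) ≠ 0 by decide, show (2 : P1) ≠ 0 by decide]

/-- Over twenty-five elements a product of six generators is a transvection. -/
theorem exists_tv_five (h5 : p = 5) :
    ∃ w φ : Fin 3 → F, w ≠ 0 ∧ φ ≠ 0 ∧ HasTv O.M3 w φ := by
  have hω : C.ω ^ 2 + C.ω + 1 = 0 := by linear_combination C.ω_sum
  have hc5 : (5 : F) = 0 := by
    haveI := SU3.charP_of_prime hF hp
    have := CharP.cast_eq_zero F p
    rw [h5] at this
    exact_mod_cast this
  have h2 := two_ne_u hF hp hmod hp5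
  obtain ⟨D, hD⟩ : ∃ D, D = resU (rM : GL P2 F) jC_rM := ⟨_, rfl⟩
  have hDm : D ∈ O.X3 := hD ▸ (O.D_mem hF hp hmod hp5 hU hy).1
  have hg : D * C.F0 * D * C.x0 * C.F0 * C.x0⁻¹ ∈ O.X3 :=
    mul_mem (mul_mem (mul_mem (mul_mem (mul_mem hDm (O.kr_mem_X3 C.F0_mem)) hDm) (O.kr_mem_X3 C.x0_mem))
      (O.kr_mem_X3 C.F0_mem)) (inv_mem (O.kr_mem_X3 C.x0_mem))
  obtain ⟨w, hw⟩ : ∃ w : Fin 3 → F, w = ![3 + 3 * C.ω, 1 + 2 * C.ω, 1 + 2 * C.ω] := ⟨_, rfl⟩
  obtain ⟨φ, hφ⟩ : ∃ φ : Fin 3 → F, φ = ![2 + C.ω, 1, 1] := ⟨_, rfl⟩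
  have hd : φ ⬝ᵥ w = 0 := by
    rw [hw, hφ]
    simp [dotProduct, Fin.sum_univ_three]
    linear_combination (3 : F) * hω + (1 + 2 * C.ω) * hc5
  have hval : ((D * C.F0 * D * C.x0 * C.F0 * C.x0⁻¹ : GL P1 F) : Matrix P1 P1 F) =
      (tvec w φ hd : Matrix (Fin 3) (Fin 3) F) := by
    have h3 : (3 : F)⁻¹ = 2 := inv_eq_of_mul_eq_one_right (by linear_combination hc5)
    have hR : ∀ i l : P1, (tvec w φ hd : Matrix (Fin 3) (Fin 3) F) i l = (if i = l then 1 else 0) + w i * φ l :=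
      fun i l => by rw [tvec_val]; rfl
    have hχ1 : C.S0.χ 1 = C.ω := C.χ_val 1
    have hχ2 : C.S0.χ 2 = C.ω ^ 2 := C.χ_val 2
    have e22 : (2 : P1) * 2 = 1 := by decide
    have en2 : -(2 : P1) = 1 := by decide
    ext i l
    refine Eq.trans ?_ (hR i l).symm
    rw [hD, x0, Frm.dg_inv, Units.val_mul, Matrix.mul_apply]
    simp only [Units.val_mul, Frm.dg_val, Matrix.diagonal_apply, mul_ite, mul_zero,
      Finset.sum_ite_eq', Finset.mem_univ, if_true, Matrix.mul_apply]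
    rw [show ((resU (rM : GL P2 F) jC_rM : GL P1 F) : Matrix P1 P1 F) = Matrix.diagonal (dv F) from res_rM]
    simp only [Matrix.diagonal_apply, ite_mul, zero_mul, mul_ite, mul_zero, Finset.sum_ite_eq, Finset.sum_ite_eq',
      Finset.mem_univ, if_true, F0_apply, Pi.neg_apply, hw, hφ, dv, div_eq_mul_inv, h3]
    rw [show (Finset.univ : Finset P1) = {0, 1, 2} by decide, Finset.sum_insert (by decide),
      Finset.sum_insert (by decide), Finset.sum_singleton]
    rcases p1_cases i with rfl | rfl | rfl <;> rcases p1_cases l with rfl | rfl | rfl <;>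
      simp (decide := true) [e22, en2, Frm.χ_zero, hχ1, hχ2] <;> grind
  refine ⟨w, φ, fun e => ?_, fun e => ?_, hd, ?_⟩
  · have h1 := congrFun e 1
    rw [hw] at h1
    simp at h1
    have : (3 : F) = 0 := by linear_combination 4 * hω - (1 + 2 * C.ω) * h1
    exact C.three (by exact_mod_cast this)
  · have h1 := congrFun e 1
    rw [hφ] at h1
    simp at h1
  · rw [show tvec w φ hd = (D * C.F0 * D * C.x0 * C.F0 * C.x0⁻¹ : GL P1 F) from (Units.ext hval).symm]
    exact ⟨hg, mem_specialLinear.2 (by rw [hval]; exact mem_specialLinear.1 (tvec_mem_specialLinear _ _ _))⟩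

/-- The restrictions contain the special unitary group. -/
theorem suGL_le_M3 : suGL 3 F p ≤ O.M3 := by
  have h3F : (3 : F) ≠ 0 := C.three
  obtain ⟨a, ha⟩ : ∃ a : GL (Fin 3) F, a = C.S0.u a0 := ⟨_, rfl⟩
  obtain ⟨b, hb⟩ : ∃ b : GL (Fin 3) F, b = C.S0.u b0 := ⟨_, rfl⟩
  have hav : (a : Matrix (Fin 3) (Fin 3) F) = Matrix.diagonal ![1, C.ω, C.ω ^ 2] := ha ▸ C.u_a0_val
  have hbv : (b : Matrix (Fin 3) (Fin 3) F) = CfsgLib.Elusive.cycMat F := hb ▸ C.u_b0_val
  have hN : ∀ g ∈ specialLinear P1 F, C.S0.Norm g → g ∈ O.M3 := fun g hg hn =>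
    ⟨O.kr_mem_X3 ⟨hn, by rw [mem_specialLinear.1 hg, one_pow]⟩, hg⟩
  have hfr : HasFrame C.ω O.M3 := ⟨C.prim, h3F,
    ⟨a, ha ▸ hN _ (mem_specialLinear.2 (C.det_E0 _)) (C.S0.norm_u _), hav⟩,
    ⟨b, hb ▸ hN _ (mem_specialLinear.2 (C.det_E0 _)) (C.S0.norm_u _), hbv⟩⟩
  suffices htv : ∃ w φ : Fin 3 → F, w ≠ 0 ∧ φ ≠ 0 ∧ HasTv O.M3 w φ by
    obtain ⟨w, φ, hw, hφ, h⟩ := htv
    exact SU3.suGL_le_of_tv hF hp (by omega) (O.M3_le hF hp hmod hp5 hU) hfr hw h hφ
  by_cases h5 : p = 5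
  · exact O.exists_tv_five hF hp hmod hp5 hU hy h5
  have hp7 : 7 ≤ p := by
    rcases Nat.lt_or_ge p 7 with h | h
    · interval_cases p <;> simp_all
    · exact h
  by_contra htv
  push Not at htv
  let Pm : Subgroup (GL P1 F) :=
    { carrier := {g | C.S0.IsP (g : Matrix P1 P1 F)}
      mul_mem' := fun {g h} ⟨c, x, hx⟩ ⟨c', y, hy⟩ => ⟨c * c' * C.S0.χ (C.S0.d x.2 y.1), x + y, by
        rw [Units.val_mul, hx, hy, smul_mul_smul_comm, Frm.E_mul, smul_smul]⟩
      one_mem' := ⟨1, 0, by rw [C.S0.E_zero, one_smul]; rfl⟩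
      inv_mem' := fun {g} ⟨c, x, hx⟩ => by
        refine ⟨c⁻¹ * C.S0.χ (C.S0.d x.2 x.1), -x, ?_⟩
        refine Units.inv_eq_of_mul_eq_one_right ?_
        have hc : c ≠ 0 := fun e => g.ne_zero (by rw [hx, e, zero_smul])
        rw [hx, smul_mul_smul_comm, Frm.E_mul_neg, smul_smul, mul_assoc, mul_assoc, ← Frm.χ_add, add_neg_cancel,
          Frm.χ_zero, mul_one, mul_inv_cancel₀ hc, one_smul] }
  have hR : ∀ x : GL (Fin 3) F, x ∈ Subgroup.closure ({a, b} : Set (GL (Fin 3) F)) → C.S0.IsP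
      (Units.val (α := Matrix P1 P1 F) x) := fun x hx => by
    refine (Subgroup.closure_le (k := ({a, b} : Set (GL (Fin 3) F))) Pm).2 ?_ hx
    rintro x (rfl | rfl)
    · exact ⟨1, a0, by rw [one_smul, ha]; rfl⟩
    · exact ⟨1, b0, by rw [one_smul, hb]; rfl⟩
  have hnorm : ∀ g : GL (Fin 3) F, g * a * g⁻¹ ∈ Subgroup.closure ({a, b} : Set (GL (Fin 3) F)) →
      g * b * g⁻¹ ∈ Subgroup.closure ({a, b} : Set (GL (Fin 3) F)) → C.S0.Norm (g : GL P1 F) := fun g h1 h2 => by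
    have e1 := hR _ h1
    have e2 := hR _ h2
    rw [ha] at e1
    rw [hb] at e2
    exact C.norm_of_two e1 e2
  obtain ⟨a', b', z, t, u, v, -, -, hzv, htv', huv, hvv⟩ := SU3.exists_std (F := F) C.prim h3F
  have hchar := SU3.charP_of_prime hF hp
  let S : Setup F :=
    { M := O.M3, μ := C.ω, a := a, b := b, z := z, t := t, u := u, v := v
      prim := C.prim, three := h3F, a_val := hav, b_val := hbv, z_val := hzv, t_val := htv', u_val := huv,
      v_val := hvv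
      le_sl := fun g hg => hg.2
      p := p, prime := hp, charP := hchar, seven_le := hp7
      slope := fun x hx g hg Q' α β γ h1 h2 => SU3.slope_fixed hF hp (O.M3_le hF hp hmod hp5 hU hx).1
        (O.M3_le hF hp hmod hp5 hU hg).1 h1 h2
      noTv := fun w φ hw hT => by
        by_contra hφ
        exact htv w φ hw hφ hT
      mem_of_normalizes := fun g hg h1 h2 => hN g hg (hnorm g h1 h2) }
  have hgX : (resU (rM : GL P2 F) jC_rM : GL (Fin 3) F) ∈ S.X := S.M_le_X (O.D_mem hF hp hmod hp5 hU hy)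
  have hn := hnorm _ (S.conj_mem_R hgX S.a_mem_R) (S.conj_mem_R hgX S.b_mem_R)
  obtain ⟨c, w, hw⟩ := hn b0
  have hcube := C.S0.coeff_cube hw
  have e := mul_eq_of_cj hw
  rw [show ((resU (rM : GL P2 F) jC_rM : GL P1 F) : Matrix P1 P1 F) = Matrix.diagonal (dv F) from res_rM,
    smul_mul_assoc] at e
  have e' := congrFun (congrFun e 1) 0
  rw [Matrix.diagonal_mul, Matrix.smul_apply, Matrix.mul_diagonal, smul_eq_mul] at e'
  simp only [Frm.E_apply, b0, S0_d, mul_zero, Frm.χ_zero, zero_add, dv,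
    if_neg (show (1 : P1) ≠ 0 by decide), if_true, mul_one] at e'
  split_ifs at e' with hh
  · have hc : c = -1 := by linear_combination -e'
    rw [hc] at hcube
    exact two_ne_u hF hp hmod hp5 (by linear_combination -hcube)
  · simp at e'

end Over

end CfsgLib.Geo.HeisNine
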