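import Cfsg.Agent.Geo.HeisNine.USeed
import Cfsg.Agent.Geo.UnitEichler

/-!
An overgroup with the cubic phase is the whole special unitary group: permutations and phases of the nine points
move the seed to centres on two points, whose Eichler transformations span the orthogonal of a centre.
-/

set_option autoImplicit false
set_option linter.unusedSectionVars false
set_option linter.style.haveILetI false

namespace CfsgLib.Geo.HeisNine

open Matrix Cfsg Cfsg.Geo CfsgLib.Geo CfsgLib.Geo.UTv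
open CfsgLib.Geo.TensorPow.U (hd cq)

variable {F : Type*} [Field F] [Fintype F] {p : ℕ}

/-- A coordinate vector. -/
def ee (i : Fin 9) : Fin 9 → F := Pi.single i 1

/-- A centre on four points. -/
def four (β : F) (i j k l : Fin 9) : Fin 9 → F := ee i - ee j + β • ee k - β • ee l

/-- A centre on two points. -/
def two (β : F) (i j : Fin 9) : Fin 9 → F := ee i + β • ee j

theorem inj_four {i j k l : Fin 9} (h1 : i ≠ j) (h2 : i ≠ k) (h3 : i ≠ l) (h4 : j ≠ k) (h5 : j ≠ l) (h6 : k ≠ l) :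
    Function.Injective ![i, j, k, l] := by
  intro a b e
  fin_cases a <;> fin_cases b <;>
    simp [h1, h2, h3, h4, h5, h6, h1.symm, h2.symm, h3.symm, h4.symm, h5.symm, h6.symm] at e ⊢

theorem exists_fin_notMem {s : Finset (Fin 9)} (h : s.card < 9) : ∃ x, x ∉ s := by
  by_contra hcon
  push Not at hcon
  rw [Finset.eq_univ_of_forall hcon, Finset.card_univ, Fintype.card_fin] at h
  exact absurd h (lt_irrefl 9)

namespace Over

open Ctx

variable {C : Ctx F} (O : Over C)

/-- A permutation of the coordinates, up to its sign, lies in the overgroup. -/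
theorem exists_perm9 (hy : C.cube ∈ O.M) (σ : Equiv.Perm (Fin 9)) :
    ∃ g ∈ O.M9, ∃ s : F, s * s = 1 ∧
      ∀ v : Fin 9 → F, (g : Matrix (Fin 9) (Fin 9) F) *ᵥ v = s • fun i => v (σ.symm i) := by
  obtain ⟨τ, hτ⟩ : ∃ τ : Equiv.Perm P2, τ = eP.permCongr σ := ⟨_, rfl⟩
  refine ⟨glReindex eP.symm (sp τ), O.mem_M9.2 (O.sp_mem_all hy τ), ((Equiv.Perm.sign τ : ℤ) : F), ?_, fun v => ?_⟩
  · rcases Int.units_eq_one_or (Equiv.Perm.sign τ) with e | e <;> simp [e]
  · obtain ⟨x, rfl⟩ : ∃ x : P2 → F, x ∘ eP = v := ⟨v ∘ eP.symm, funext fun i => by simp⟩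
    rw [reindex_apply, sp_val, Matrix.smul_mulVec]
    funext i
    simp only [Function.comp_apply, Pi.smul_apply]
    congr 1
    rw [Matrix.mulVec, dotProduct, Finset.sum_eq_single (τ.symm (eP i))]
    · rw [Frm.pm_apply, if_pos (τ.apply_symm_apply _).symm, one_mul, hτ]
      congr 1
      rw [Equiv.symm_apply_eq, Equiv.permCongr_apply, Equiv.symm_apply_apply, Equiv.apply_symm_apply]
    · intro y _ hy'
      rw [Frm.pm_apply, if_neg (fun e => hy' (by rw [e, Equiv.symm_apply_apply])), zero_mul]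
    · simp

/-- A phase of vanishing sum lies in the overgroup. -/
theorem exists_phase9 (hy : C.cube ∈ O.M) (f : Fin 9 → ZMod 3) (hf : ∑ i, f i = 0) :
    ∃ g ∈ O.M9, ∀ v : Fin 9 → F, (g : Matrix (Fin 9) (Fin 9) F) *ᵥ v = fun i => C.S.χ (f i) * v i := by
  refine ⟨glReindex eP.symm (C.S.dg fun x => f (eP.symm x)), O.mem_M9.2 (O.dg_sum_zero hy ?_), fun v => ?_⟩
  · rw [← hf]; exact Equiv.sum_comp eP.symm f
  · obtain ⟨x, rfl⟩ : ∃ x : P2 → F, x ∘ eP = v := ⟨v ∘ eP.symm, funext fun i => by simp⟩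
    rw [reindex_apply]
    funext i
    simp only [Function.comp_apply, Frm.dg_val, Matrix.mulVec_diagonal, Equiv.symm_apply_apply]

variable (hF : Nat.card F = p ^ 2) (hp : p.Prime) (hmod : p % 3 = 2) (hp5 : 5 ≤ p)
  (hU : ∀ g ∈ O.M, IsU p g) (hy : C.cube ∈ O.M)
include hF

theorem hh_ee (i j : Fin 9) : Cfsg.hermForm 9 F p (ee i) (ee j) = if i = j then 1 else 0 := by
  have hp0 : p ≠ 0 := TensorPow.U.q_ne_zero hF
  rw [Cfsg.hermForm, Finset.sum_eq_single i]
  · by_cases h : i = j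
    · subst h; simp [ee]
    · simp [ee, h, hp0]
  · intro b _ hb; simp [ee, Pi.single_eq_of_ne hb]
  · simp

include hp hmod hp5 hU hy

theorem full_four {β : F} (hβ : β * β ^ p = -1) {i j k l : Fin 9} (hinj : Function.Injective ![i, j, k, l]) :
    Full p O.M9 (four β i j k l) := by
  obtain ⟨σ₀, hσ⟩ := exists_perm_mapping ![((1, 0) : P2), (2, 0), (1, 1), (2, 1)] ![eP i, eP j, eP k, eP l]
    (by decide) (fun a b e => hinj (eP.injective (by
      fin_cases a <;> fin_cases b <;> simp_all)))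
  obtain ⟨σ, hσ'⟩ : ∃ σ : Equiv.Perm (Fin 9), σ = eP.symm.permCongr σ₀ := ⟨_, rfl⟩
  obtain ⟨g, hg, s, hs, hgv⟩ := O.exists_perm9 hy σ
  have h := full_smul hF (full_conj hF (O.M9_le hF hU) (O.full_seed hF hp hmod hp5 hU hy hβ) hg) s
  rw [hgv, smul_smul, hs, one_smul] at h
  convert h using 1
  have e0 : σ₀ ((1, 0) : P2) = eP i := hσ 0
  have e1 : σ₀ ((2, 0) : P2) = eP j := hσ 1
  have e2 : σ₀ ((1, 1) : P2) = eP k := hσ 2
  have e3 : σ₀ ((2, 1) : P2) = eP l := hσ 3
  funext x
  obtain ⟨y, hy'⟩ : ∃ y, y = σ₀.symm (eP x) := ⟨_, rfl⟩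
  have hx : ∀ (a : Fin 9) (b : P2), σ₀ b = eP a → (x = a ↔ y = b) := fun a b e => by
    rw [hy', Equiv.symm_apply_eq, e, eP.injective.eq_iff]
  have hv : ((Wm F *ᵥ (![1, β, 0] : P1 → F)) ∘ eP) (σ.symm x) = (Wm F *ᵥ (![1, β, 0] : P1 → F)) y := by
    have e : σ.symm x = eP.symm (σ₀.symm (eP x)) := by
      rw [Equiv.symm_apply_eq, hσ', Equiv.permCongr_apply]
      simp
    rw [Function.comp_apply, e, Equiv.apply_symm_apply, hy']
  rw [hv]
  simp only [four, ee, Pi.sub_apply, Pi.add_apply, Pi.smul_apply, Pi.single_apply, smul_eq_mul, hx i _ e0, hx j _ e1,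
    hx k _ e2, hx l _ e3]
  obtain ⟨a, t⟩ := y
  rw [show (Wm F *ᵥ (![1, β, 0] : P1 → F)) (a, t) = _ from Wm_apply _ a t]
  rcases p1_cases a with rfl | rfl | rfl <;> rcases p1_cases t with rfl | rfl | rfl <;>
    simp (decide := true)

theorem full_two {β : F} (hβ : β * β ^ p = -1) {i l : Fin 9} (hil : i ≠ l) (m : ZMod 3) :
    Full p O.M9 (two (C.S.χ m * β) i l) := by
  classical
  have hf := isUnitaryForm hF (n := 9)
  obtain ⟨j, hj⟩ := exists_fin_notMem (s := {i, l}) (lt_of_le_of_lt Finset.card_le_two (by norm_num))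
  obtain ⟨k, hk⟩ := exists_fin_notMem (s := {i, l, j}) (lt_of_le_of_lt Finset.card_le_three (by norm_num))
  simp only [Finset.mem_insert, Finset.mem_singleton, not_or] at hj hk
  have hinj : Function.Injective ![i, j, k, l] :=
    inj_four (Ne.symm hj.1) (Ne.symm hk.1) hil (Ne.symm hk.2.2) hj.2 hk.2.1
  have hMI := O.M9_le hF hU
  have h1 := O.full_four hF hp hmod hp5 hU hy hβ hinj
  obtain ⟨g, hg, hgv⟩ := O.exists_phase9 hy (fun x => (if x = i then 1 else 0) - (if x = l then 1 else 0))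
    (by simp [Finset.sum_sub_distrib])
  obtain ⟨v, hv⟩ : ∃ v : Fin 9 → F, v = C.ω • ee i - ee j + β • ee k - (C.ω ^ 2 * β) • ee l := ⟨_, rfl⟩
  have hω2 : C.S.χ (-1) = C.ω ^ 2 := rfl
  have h2 : Full p O.M9 v := by
    have h := full_conj hF hMI h1 hg
    rw [hgv] at h
    convert h using 1
    funext x
    simp only [hv, four, ee, Pi.sub_apply, Pi.add_apply, Pi.smul_apply, Pi.single_apply, smul_eq_mul]
    by_cases hxi : x = i
    · subst hxi; simp [hil, Ne.symm hj.1, Ne.symm hk.1, show (C.S.χ (1 : ZMod 3)) = C.ω from C.S.χ_one]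
    by_cases hxl : x = l
    · subst hxl; simp [hxi, Ne.symm hj.2, Ne.symm hk.2.1, hω2]
    simp [hxi, hxl, Frm.χ_zero]
  have hω : C.ω ^ p = C.ω ^ 2 := by
    rw [← Nat.div_add_mod p 3, hmod, pow_add, pow_mul, C.prim.pow_eq_one, one_pow, one_mul]
  have hω3 : C.ω ^ 3 = 1 := C.prim.pow_eq_one
  have hω2p : (C.ω ^ 2) ^ p = C.ω := by
    rw [← pow_mul, mul_comm, pow_mul, hω, ← pow_mul, show 2 * 2 = 3 + 1 from rfl, pow_succ, hω3, one_mul]
  have hne : C.ω - 1 ≠ 0 := sub_ne_zero.2 (C.prim.ne_one (by norm_num))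
  have hneg1 : (-1 : F) ^ p = -1 := by rw [TensorU.pow_neg hF, one_pow]
  have hjk : j ≠ k := Ne.symm hk.2.2
  obtain ⟨d, hd⟩ : ∃ d : Fin 9 → F, d = (C.ω - 1) • ee i + ((C.ω - 1) * (C.ω ^ 2 * β)) • ee l := ⟨_, rfl⟩
  have hde : v + (-1 : F) • four β i j k l = d := by
    rw [hd, hv, four, show (C.ω - 1) * (C.ω ^ 2 * β) = β - C.ω ^ 2 * β by linear_combination β * hω3]
    module
  have hvu : Cfsg.hermForm 9 F p v (four β i j k l) ≠ 0 := by
    have e : Cfsg.hermForm 9 F p v (four β i j k l) = C.ω - C.ω ^ 2 := by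
      have hb : β * frobEquiv hF β = -1 := by rw [frobEquiv_apply, hβ]
      simp only [hv, four, sub_eq_add_neg, ← neg_smul, ← neg_one_smul F (ee j), hf.add_left, hf.smul_left,
        Unit.add_right hf, Unit.smul_right hf, hh_ee hF, map_neg, map_one, hil, Ne.symm hil, hj.1, Ne.symm hj.1,
        hj.2, Ne.symm hj.2, hk.1, Ne.symm hk.1, hk.2.1, Ne.symm hk.2.1, hjk, hk.2.2, if_true, if_false]
      linear_combination (1 + C.ω ^ 2) * hb
    rw [e, show C.ω - C.ω ^ 2 = -C.ω * (C.ω - 1) by ring]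
    exact mul_ne_zero (neg_ne_zero.2 (C.prim.ne_zero (by norm_num))) hne
  have h0 : Cfsg.hermForm 9 F p (two (C.ω ^ 2 * β) i l) (two (C.ω ^ 2 * β) i l) = 0 := by
    simp only [two, hf.add_left, hf.smul_left, Unit.add_right hf, Unit.smul_right hf, hh_ee hF, hil, Ne.symm hil,
      if_true, if_false, frobEquiv_apply, mul_pow, hω2p]
    linear_combination (β * β ^ p) * hω3 + hβ
  have hdd : d = (C.ω - 1) • two (C.ω ^ 2 * β) i l := by rw [hd, two]; module
  have h3 : Full p O.M9 d := by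
    have h := full_add_smul hF hMI h1 h2 hvu (-1) (by
      rw [hde, hdd, hf.smul_left, Unit.smul_right hf, h0, mul_zero, mul_zero])
    rwa [hde] at h
  have h4 := full_smul hF h3 (C.ω - 1)⁻¹
  rw [hdd, smul_smul, inv_mul_cancel₀ hne, one_smul] at h4
  obtain ⟨g', hg', hgv'⟩ := O.exists_phase9 hy
    (fun x => (m - 2) * ((if x = l then 1 else 0) - (if x = j then 1 else 0)))
    (by simp [← Finset.mul_sum, Finset.sum_sub_distrib])
  have h5 := full_conj hF hMI h4 hg'
  rw [hgv'] at h5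
  convert h5 using 1
  funext x
  simp only [two, ee, Pi.add_apply, Pi.smul_apply, Pi.single_apply, smul_eq_mul]
  by_cases hxi : x = i
  · subst hxi; simp [hil, Ne.symm hj.1, Frm.χ_zero]
  by_cases hxl : x = l
  · subst hxl
    simp [hxi, Ne.symm hj.2]
    rw [← mul_assoc]
    congr 1
    rw [show C.ω ^ 2 = C.S.χ 2 from rfl, ← Frm.χ_add, sub_add_cancel]
  simp [hxi, hxl]

omit hU hy in
theorem exists_split : ∀ c : F, ∃ a b : F, c = a + C.ω * b ∧ a + a ^ p = 0 ∧ b + b ^ p = 0 := by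
  intro c
  have hf := isUnitaryForm hF (n := 9)
  obtain ⟨σ, hσ⟩ : ∃ σ : F ≃+* F, σ = frobEquiv hF := ⟨_, rfl⟩
  have hs : ∀ x, x ^ p = σ x := fun x => by rw [hσ, frobEquiv_apply]
  have hss : ∀ x, σ (σ x) = x := fun x => hσ ▸ hf.involutive x
  have hω : σ C.ω = C.ω ^ 2 := by
    rw [← hs, ← Nat.div_add_mod p 3, hmod, pow_add, pow_mul, C.prim.pow_eq_one, one_pow, one_mul]
  have hω2 : σ (C.ω ^ 2) = C.ω := by rw [← hω, hss]
  obtain ⟨d, hd⟩ : ∃ d, d = C.ω - C.ω ^ 2 := ⟨_, rfl⟩
  have hd0 : d ≠ 0 := by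
    rw [hd, show C.ω - C.ω ^ 2 = -C.ω * (C.ω - 1) by ring]
    exact mul_ne_zero (neg_ne_zero.2 (C.prim.ne_zero (by norm_num))) (sub_ne_zero.2 (C.prim.ne_one (by norm_num)))
  have hσd : σ d = -d := by rw [hd, map_sub, hω, hω2]; ring
  refine ⟨c - C.ω * ((c + σ c) / d), (c + σ c) / d, by ring, ?_, ?_⟩ <;> rw [hs]
  · rw [map_sub, map_mul, map_div₀, map_add, hss, hσd, hω]
    field_simp
    rw [hd]; ring
  · rw [map_div₀, map_add, hss, hσd]
    field_simp
    ring

theorem vp_pair {β : F} (hβ : β * β ^ p = -1) {i j k l : Fin 9} (hinj : Function.Injective ![i, j, k, l]) (c : F) :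
    VP p O.M9 (two β i j) (c • two β k l) := by
  classical
  have hf := isUnitaryForm hF (n := 9)
  have hMI := O.M9_le hF hU
  have hne : ∀ a b : Fin 4, a ≠ b → (![i, j, k, l] a) ≠ ![i, j, k, l] b := fun a b h e => h (hinj e)
  have hij : i ≠ j := hne 0 1 (by decide)
  have hik : i ≠ k := hne 0 2 (by decide)
  have hil : i ≠ l := hne 0 3 (by decide)
  have hjk : j ≠ k := hne 1 2 (by decide)
  have hjl : j ≠ l := hne 1 3 (by decide)
  have hkl : k ≠ l := hne 2 3 (by decide)
  have hv := O.full_two hF hp hmod hp5 hU hy hβ hij 0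
  have hx := O.full_two hF hp hmod hp5 hU hy hβ hkl 0
  rw [Frm.χ_zero, one_mul] at hv hx
  have hw : Full p O.M9 (four β i k j l) := O.full_four hF hp hmod hp5 hU hy hβ
    (inj_four hik hij hil hjk.symm hkl hjl)
  have hsub : four β i k j l = two β i j - two β k l := by rw [four, two, two]; module
  rw [hsub] at hw
  have hxv : Cfsg.hermForm 9 F p (two β k l) (two β i j) = 0 := by
    simp only [two, hf.add_left, hf.smul_left, Unit.add_right hf, Unit.smul_right hf, hh_ee hF, hik.symm, hjk.symm,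
      hil.symm, hjl.symm, if_false]
    ring
  have hvx : Cfsg.hermForm 9 F p (two β i j) (two β k l) = 0 := by rw [hf.herm, hxv, map_zero]
  have hskew : ∀ c : F, c + c ^ p = 0 → VP p O.M9 (two β i j) (c • two β k l) := by
    intro c hc
    have hc' : -c + (-c) ^ p = 0 := by rw [TensorU.pow_neg hF]; linear_combination -hc
    obtain ⟨_, hm1⟩ := hw.2 _ hc'
    obtain ⟨_, hm2⟩ := hv.2 _ hc
    obtain ⟨_, hm3⟩ := hx.2 _ hc
    refine ⟨by rw [hf.smul_left, hxv, mul_zero], _, mul_mem (mul_mem hm1 hm2) hm3, 0, fun y => ?_⟩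
    rw [mul_mulVec, mul_mulVec, utv_mulVec hF hx.1, utv_mulVec hF hv.1, utv_mulVec hF hw.1]
    simp only [sub_eq_add_neg, ← neg_one_smul F (two β k l), hf.add_left, hf.smul_left, Unit.add_right hf,
      Unit.smul_right hf, map_neg, map_one, hx.1, hv.1, hxv, hvx, frobEquiv_apply,
      show c ^ p = -c by linear_combination hc]
    module
  obtain ⟨a, b, hab, ha, hb⟩ := exists_split (C := C) hF hp hmod hp5 c
  obtain ⟨r, hr⟩ := exists_fin_notMem (s := {i, j, k, l}) (lt_of_le_of_lt Finset.card_le_four (by norm_num))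
  simp only [Finset.mem_insert, Finset.mem_singleton, not_or] at hr
  obtain ⟨g, hg, hgv⟩ := O.exists_phase9 hy
    (fun x => (if x = k then 1 else 0) + (if x = l then 1 else 0) + (if x = r then 1 else 0))
    (by simp [Finset.sum_add_distrib]; decide)
  have hgi : (g : Matrix (Fin 9) (Fin 9) F) *ᵥ two β i j = two β i j := by
    rw [hgv]
    funext x
    simp only [two, ee, Pi.add_apply, Pi.smul_apply, Pi.single_apply, smul_eq_mul]
    by_cases h1 : x = i
    · subst h1; simp [hik, hil, Ne.symm hr.1, Frm.χ_zero]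
    by_cases h2 : x = j
    · subst h2; simp [hjk, hjl, Ne.symm hr.2.1, Frm.χ_zero]
    simp [h1, h2]
  have hgk : (g : Matrix (Fin 9) (Fin 9) F) *ᵥ (b • two β k l) = (C.ω * b) • two β k l := by
    rw [hgv]
    funext x
    simp only [two, ee, Pi.add_apply, Pi.smul_apply, Pi.single_apply, smul_eq_mul]
    have h1' : C.S.χ (1 : ZMod 3) = C.ω := C.S.χ_one
    by_cases h1 : x = k
    · subst h1; simp [hkl, Ne.symm hr.2.2.1, h1']
    by_cases h2 : x = l
    · subst h2; simp [h1, Ne.symm hr.2.2.2, h1']; ring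
    simp [h1, h2]
  have hb' := (hskew b hb).conj hMI hg
  rw [hgi, hgk] at hb'
  rw [hab, add_smul]
  exact (hskew a ha).add hF hv.1 hb'

theorem vp_single {β : F} (hβ : β * β ^ p = -1) {i j k : Fin 9} (hij : i ≠ j) (hki : k ≠ i) (hkj : k ≠ j) (c : F) :
    VP p O.M9 (two β i j) (c • ee k) := by
  classical
  obtain ⟨l, hl⟩ := exists_fin_notMem (s := {i, j, k}) (lt_of_le_of_lt Finset.card_le_three (by norm_num))
  simp only [Finset.mem_insert, Finset.mem_singleton, not_or] at hl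
  have hv : Cfsg.hermForm 9 F p (two β i j) (two β i j) = 0 := by
    have := (O.full_two hF hp hmod hp5 hU hy hβ hij 0).1
    rwa [Frm.χ_zero, one_mul] at this
  have hb : 1 - β ^ 2 ≠ 0 := fun e => by
    have h2 := two_ne_u (F := F) hF hp hmod hp5
    have hp1 : (β * β ^ p) = 1 := by
      rw [← pow_succ']
      obtain ⟨t, ht⟩ : 2 ∣ p + 1 := by
        have := hp.eq_two_or_odd
        omega
      rw [ht, pow_mul, show β ^ 2 = 1 by linear_combination -e, one_pow]
    rw [hβ] at hp1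
    exact h2 (by linear_combination -hp1)
  have h1 := O.vp_pair hF hp hmod hp5 hU hy hβ
    (inj_four hij hki.symm (Ne.symm hl.1) hkj.symm (Ne.symm hl.2.1) (Ne.symm hl.2.2)) (c / (1 - β ^ 2))
  have h2 := O.vp_pair hF hp hmod hp5 hU hy hβ
    (inj_four hij (Ne.symm hl.1) hki.symm (Ne.symm hl.2.1) hkj.symm hl.2.2) (c / (1 - β ^ 2) * β)
  have h := h1.sub hF hv h2
  convert h using 1
  simp only [two]
  match_scalars <;> field_simp <;> ring

/-- An overgroup with the cubic phase is the whole special unitary group. -/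
theorem su_le_large : suGL 9 F p ≤ O.M9 := by
  classical
  have hf := isUnitaryForm hF (n := 9)
  obtain ⟨β, hβ⟩ := Unit.exists_norm_eq hf.ne_refl hf.involutive (t := -1) (by rw [map_neg, map_one])
  rw [frobEquiv_apply] at hβ
  have h01 : (0 : Fin 9) ≠ 1 := by decide
  have hv := O.full_two hF hp hmod hp5 hU hy hβ h01 0
  have hu := O.full_two hF hp hmod hp5 hU hy hβ h01 1
  rw [Frm.χ_zero, one_mul] at hv
  refine suGL_le_of_vp hF (by norm_num) (O.M9_le hF hU) hv hu ?_ fun x hx => ?_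
  · simp only [two, hf.add_left, hf.smul_left, Unit.add_right hf, Unit.smul_right hf, hh_ee hF, frobEquiv_apply,
      h01, h01.symm, if_true, if_false, show C.S.χ (1 : ZMod 3) = C.ω from C.S.χ_one]
    intro e
    exact C.prim.ne_one (by norm_num) (by linear_combination C.ω * hβ - e)
  have hx1 : x 1 = β * x 0 := by
    have e : x 0 + β ^ p * x 1 = 0 := by
      have hp0 : p ≠ 0 := hp.ne_zero
      rw [Cfsg.hermForm, Finset.sum_eq_add (0 : Fin 9) 1 h01 (fun z _ hz => by
        simp [two, ee, hz.1, hz.2, hp0]) (by simp) (by simp)] at hx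
      simp [two, ee, h01, h01.symm] at hx
      linear_combination hx
    linear_combination x 1 * hβ - β * e
  have hsum : ∀ s : Finset (Fin 9), 0 ∉ s → 1 ∉ s →
      VP p O.M9 (two β 0 1) (x 0 • two β 0 1 + ∑ k ∈ s, x k • ee k) := by
    intro s
    induction s using Finset.induction_on with
    | empty =>
      intro _ _
      rw [Finset.sum_empty, add_zero]
      exact VP.centre hF hv.1 _
    | insert a s ha ih =>
      intro h0 h1
      rw [Finset.mem_insert, not_or] at h0 h1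
      have := (ih h0.2 h1.2).add hF hv.1
        (O.vp_single hF hp hmod hp5 hU hy hβ h01 (Ne.symm h0.1) (Ne.symm h1.1) (x a))
      convert this using 1
      rw [Finset.sum_insert ha]
      module
  convert hsum (Finset.univ \ {0, 1}) (by simp) (by simp) using 1
  funext z
  simp only [Pi.add_apply, Finset.sum_apply, Pi.smul_apply, two, ee, Pi.single_apply, smul_eq_mul, mul_ite, mul_one,
    mul_zero, Finset.sum_ite_eq, Finset.mem_sdiff, Finset.mem_univ, Finset.mem_insert, Finset.mem_singleton, true_and]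
  by_cases h0 : z = 0
  · subst h0; simp [h01]
  by_cases h1 : z = 1
  · subst h1; simp [hx1, mul_comm]
  simp [h0, h1]

end Over

/-- An overgroup with the cubic phase is the whole special unitary group. -/
theorem Over.su_le_of_cube {C : Ctx F} (O : Over C) (hF : Nat.card F = p ^ 2) (hp : p.Prime) (hmod : p % 3 = 2)
    (hU : ∀ g ∈ O.M, IsU p g) (hy : C.cube ∈ O.M) : suGL 9 F p ≤ O.M9 := by
  by_cases h5 : 5 ≤ p
  · exact O.su_le_large hF hp hmod h5 hU hy
  · have h2 : p = 2 := by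
      have := hp.two_le
      interval_cases p <;> simp_all
    subst h2
    exact O.su_le_two hF hU hy

end CfsgLib.Geo.HeisNine
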